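import Groth.Agent.DualAbs.Syzygy
import Groth.Agent.ProjTwist.Pn.MulX
import Groth.Agent.ABReg.Basic
import Groth.Agent.CurveDVR.Stalk
import Groth.Agent.CohOps.PnSmooth
import Groth.Agent.FlatOpen.EquiDim
import Groth.Agent.S1617
import Groth.Agent.S10829
import Groth.Agent.S18573

/-!
# Depth at closed points of `P^N` and vanishing of negative twists
-/

universe u

open CategoryTheory CategoryTheory.Limits CategoryTheory.Abelian AlgebraicGeometry
open Groth.Agent.ProjTwist Groth.Agent.ProjTwist.Pn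

noncomputable section

namespace Groth.Agent.DualAbs

set_option maxHeartbeats 1000000
set_option synthInstance.maxHeartbeats 400000

section Generic

variable {X : Scheme.{u}} [HasExt.{u} X.Modules]

theorem subsingleton_ext_of_iso {A A' B B' : X.Modules} (eA : A ≅ A') (eB : B ≅ B') {i : ℕ}
    (h : Subsingleton (Ext A B i)) : Subsingleton (Ext A' B' i) := by
  refine subsingleton_of_forall_eq 0 fun z => ?_
  have hz : ((Ext.mk₀ eA.hom).comp z (zero_add i)).comp (Ext.mk₀ eB.inv) (add_zero i) = 0 :=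
    Subsingleton.elim _ _
  have := congrArg (fun w => ((Ext.mk₀ eA.inv).comp w (zero_add i)).comp
    (Ext.mk₀ eB.hom) (add_zero i)) hz
  simpa [Ext.comp_assoc_of_third_deg_zero, Ext.mk₀_comp_mk₀_assoc] using this

open Classical in
theorem subsingleton_ext_into_coprod {κ : Type u} [Finite κ] (M : X.Modules) (B : κ → X.Modules)
    (i : ℕ) (h : ∀ j, Subsingleton (Ext M (B j) i)) : Subsingleton (Ext M (∐ B) i) := by
  have := Fintype.ofFinite κ
  refine subsingleton_of_forall_eq 0 fun x => ?_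
  let g : (∐ B ⟶ ∐ B) →+ Ext M (∐ B) i :=
    AddMonoidHom.mk' (fun f => x.comp (Ext.mk₀ f) (add_zero i)) fun f f' => by
      rw [Ext.mk₀_add, Ext.comp_add]
  have e : g (𝟙 _) = x := Ext.comp_mk₀_id x
  rw [← e, ← CohLES.sum_π_ι B, map_sum]
  refine Finset.sum_eq_zero fun j _ => ?_
  show x.comp (Ext.mk₀ (Sigma.π B j ≫ Sigma.ι B j)) (add_zero i) = 0
  rw [← Ext.mk₀_comp_mk₀, ← Ext.comp_assoc_of_second_deg_zero,
    @Subsingleton.elim _ (h j) (x.comp (Ext.mk₀ (Sigma.π B j)) (add_zero i)) 0, Ext.zero_comp]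

end Generic

variable {N : ℕ} {k : Type u} [Field k]

local notation "ℙ" => CohB1.ProjSpace N k

/-- `F` has no cohomology below `N - c` after very negative twists. -/
def NegVanish (N : ℕ) (k : Type u) [Field k] (F : (CohB1.ProjSpace N k).Modules) (c : ℕ) : Prop :=
  ∃ m₀ : ℤ, ∀ m : ℤ, m₀ ≤ m → ∀ j : ℕ, j + c < N →
    Subsingleton (Coh.HH (CohB1.ProjSpace N k) (twF F (-m)) j)

/-- `twL d F ≅ twF F d`. -/
def twLIso (F : (CohB1.ProjSpace N k).Modules) (d : ℤ) :
    (SerrePn.twL N k d).obj F ≅ twF F d := ChgRings.commIso _ _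

/-- Twisting shifts `Ext`. -/
theorem subsingleton_ext_shift [HasExt.{u} (CohB1.ProjSpace N k).Modules]
    {A B : (CohB1.ProjSpace N k).Modules} (d : ℤ) {i : ℕ}
    (h : Subsingleton (Ext (twF A d) (twF B d) i)) : Subsingleton (Ext A B i) := by
  let T := (SerrePn.twEquiv (n := N) (R := k) d).functor
  have : T.Additive := Functor.additive_of_preserves_binary_products _
  have : T.PreservesInjectiveObjects :=
    Functor.preservesInjectiveObjects_of_adjunction_of_preservesMonomorphisms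
      (SerrePn.twEquiv (n := N) (R := k) d).symm.toAdjunction
  have h' : Subsingleton (Ext (T.obj A) (T.obj B) i) :=
    subsingleton_ext_of_iso (twLIso A d).symm (twLIso B d).symm h
  exact (Functor.mapExt_bijective_of_preservesInjectiveObjects T A B i).1.subsingleton

/-- `Ext^i(L(-m), M) = 0` for `i > 0`, `m ≫ 0`, `L` locally free. -/
theorem exists_ext_locFree_vanish [HasExt.{u} (CohB1.ProjSpace N k).Modules]
    {L M : (CohB1.ProjSpace N k).Modules} (hL : FlatMod.IsFinLocFree L) (hM : Coh.IsCoh M) :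
    ∃ m₀ : ℤ, ∀ m : ℤ, m₀ ≤ m → ∀ i : ℕ, 0 < i → Subsingleton (Ext (twF L (-m)) M i) := by
  have := SerrePn.isLocallyNoetherian (n := N) (R := k)
  have := KFlat.hasSheafHom_scheme L
  obtain ⟨d₁, hd₁⟩ := serre_vanishing ((DCoh.sheafHom L).obj M) (ExtHom.isCoh_sheafHom hL hM)
  refine ⟨d₁, fun m hm i hi => subsingleton_ext_shift m ?_⟩
  refine subsingleton_ext_of_iso (twTw L (-m) m 0 (neg_add_cancel m) ≪≫ twZero L).symm (twLIso M m) ?_
  obtain ⟨e⟩ := ExtHom.nonempty_ext_linearEquiv k hL ((SerrePn.twL N k m).obj M) i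
  exact e.toEquiv.subsingleton_congr.mpr
    (subsingleton_HH_iso (nonempty_sheafHom_twist L M m).some.symm (hd₁ m hm i hi))

/-- Vanishing of all low cohomology gives vanishing of `Ext` into `ω`. -/
theorem exists_ext_omega_vanish [HasExt.{u} (CohB1.ProjSpace N k).Modules]
    {F : (CohB1.ProjSpace N k).Modules} (hF : Coh.IsCoh F) (hv : NegVanish N k F 0) :
    ∃ m₀ : ℤ, ∀ m : ℤ, m₀ ≤ m → ∀ i : ℕ, 0 < i →
      Subsingleton (Ext (twF F (-m)) (SerrePn.omega N k) i) := by
  obtain ⟨m₀, hm₀⟩ := hv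
  refine ⟨m₀, fun m hm i hi => ?_⟩
  rcases Nat.lt_or_ge N i with h | h
  · exact (SerrePn.dualAt i _ (isCoh_tw hF _)).2 h
  · obtain ⟨e⟩ := (SerrePn.dualAt i _ (isCoh_tw hF _)).1 h
    exact e.toEquiv.subsingleton_congr.mpr
      ((Module.subsingleton_dual_iff k).mpr (hm₀ m hm (N - i) (by omega)))

/-- `Ext^i(F(-m), E) = 0` for a sum of twists `E`. -/
theorem exists_ext_twistSum_vanish [HasExt.{u} (CohB1.ProjSpace N k).Modules]
    {F : (CohB1.ProjSpace N k).Modules} {i : ℕ}
    (hv : ∃ m₀ : ℤ, ∀ m : ℤ, m₀ ≤ m → Subsingleton (Ext (twF F (-m)) (SerrePn.omega N k) i))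
    {κ : Type u} [Finite κ] (d : κ → ℕ) :
    ∃ m₀ : ℤ, ∀ m : ℤ, m₀ ≤ m → Subsingleton
      (Ext (twF F (-m)) (∐ fun l => Twist.twistProjSpace N k (-(d l : ℤ))) i) := by
  obtain ⟨m₀, hm₀⟩ := hv
  obtain ⟨D, hD⟩ := (Set.finite_range d).bddAbove
  refine ⟨m₀ + (N + 1) + D, fun m hm => subsingleton_ext_into_coprod _ _ _ fun l => ?_⟩
  have hl : d l ≤ D := hD ⟨l, rfl⟩
  refine subsingleton_ext_shift ((d l : ℤ) - (N + 1)) ?_
  refine subsingleton_ext_of_iso
    (twTw F (-m) ((d l : ℤ) - (N + 1)) (-(m - d l + (N + 1))) (by omega)).symm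
    ((nonempty_twistProjSpace_tensor N k _ _).some ≪≫ eqToIso
      (congrArg (Twist.twistProjSpace N k) (by omega : -(d l : ℤ) + ((d l : ℤ) - (N + 1)) = -((N : ℤ) + 1)))).symm
    (hm₀ _ (by omega))

/-- A map `G ⟶ G(m)` which is bijective at the given point. -/
theorem exists_mulPow (G : (CohB1.ProjSpace N k).Modules) (y : CohB1.ProjSpace N k) (m : ℕ) :
    ∃ φ : G ⟶ twF G (m : ℤ), Function.Bijective (PullStalk.Exact.stalkLin φ y) := by
  have hy : y ∈ ⨆ j, stdOpen N k j := by
    rw [iSup_stdOpen]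
    trivial
  obtain ⟨j, hj⟩ := TopologicalSpace.Opens.mem_iSup.mp hy
  induction m with
  | zero => exact ⟨(twZero G).inv, stalkLin_iso_bijective (twZero G).symm y⟩
  | succ m ih =>
    obtain ⟨φ, hφ⟩ := ih
    exact ⟨φ ≫ (mulUp j).app (twF G (m : ℤ)) ≫ (twTw G (m : ℤ) 1 ((m + 1 : ℕ) : ℤ) (by omega)).hom,
      stalkLin_comp_bijective _ _ y hφ (stalkLin_comp_bijective _ _ y
        (stalkLin_bijective_of_app _ (stdOpen N k j) (fun V hV => mulUp_bijective j _ V hV) y hj)
        (stalkLin_iso_bijective _ y))⟩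

/-- `Ext^i(F(-m), M) = 0` bootstrap along a cover of `M` by twists. -/
theorem exists_ext_succ_vanish [HasExt.{u} (CohB1.ProjSpace N k).Modules]
    {F M : (CohB1.ProjSpace N k).Modules} (hM : Coh.IsCoh M) {i : ℕ}
    (h₁ : ∃ m₀ : ℤ, ∀ m : ℤ, m₀ ≤ m → Subsingleton (Ext (twF F (-m)) (SerrePn.omega N k) i))
    (h₂ : ∀ M' : (CohB1.ProjSpace N k).Modules, Coh.IsCoh M' →
      ∃ m₀ : ℤ, ∀ m : ℤ, m₀ ≤ m → Subsingleton (Ext (twF F (-m)) M' (i + 1))) :
    ∃ m₀ : ℤ, ∀ m : ℤ, m₀ ≤ m → Subsingleton (Ext (twF F (-m)) M i) := by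
  have := SerrePn.isLocallyNoetherian (n := N) (R := k)
  obtain ⟨κ, hκ, d, π, hπ, -⟩ := SerrePn.exists_epi M hM 0
  have hE : Coh.IsCoh (∐ fun l => Twist.twistProjSpace N k (-(d l : ℤ))) :=
    SerrePn.isCoh_coprod _ fun l => SerrePn.isCoh_twist _
  have hS : (ShortComplex.mk (kernel.ι π) π (kernel.condition π)).ShortExact :=
    { exact := ShortComplex.exact_of_f_is_kernel _ (kernelIsKernel π) }
  obtain ⟨a, ha⟩ := exists_ext_twistSum_vanish h₁ d
  obtain ⟨b, hb⟩ := h₂ _ (CohDev.isCoh_kernel π hE hM.1)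
  refine ⟨max a b, fun m hm => subsingleton_of_forall_eq 0 fun x => ?_⟩
  obtain ⟨y, rfl⟩ := Ext.covariant_sequence_exact₃ _ hS x rfl
    (@Subsingleton.elim _ (hb m ((le_max_right _ _).trans hm)) _ _)
  rw [@Subsingleton.elim _ (ha m ((le_max_left _ _).trans hm)) y 0, Ext.zero_comp]

/-- No low cohomology in very negative degree, and locally free syzygy: free stalks. -/
theorem free_stalk_of_vanish {S : ShortComplex (CohB1.ProjSpace N k).Modules} (hS : S.ShortExact)
    (hK : FlatMod.IsFinLocFree S.X₁) (hE : FlatMod.IsFinLocFree S.X₂) (hG : Coh.IsCoh S.X₃)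
    (hv : NegVanish N k S.X₃ 0) (y : CohB1.ProjSpace N k) :
    Module.Free ((CohB1.ProjSpace N k).presheaf.stalk y) (S.X₃.presheaf.stalk y) := by
  have := SerrePn.isLocallyNoetherian (n := N) (R := k)
  have : HasExt.{u} (CohB1.ProjSpace N k).Modules := ModShf.schemeModulesHasExt _
  obtain ⟨a, ha⟩ := exists_ext_omega_vanish hG hv
  have h2 : ∀ M : (CohB1.ProjSpace N k).Modules, Coh.IsCoh M →
      ∃ m₀ : ℤ, ∀ m : ℤ, m₀ ≤ m → Subsingleton (Ext (twF S.X₃ (-m)) M 2) := fun M hM => by
    obtain ⟨b, hb⟩ := exists_ext_locFree_vanish hK hM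
    obtain ⟨c, hc⟩ := exists_ext_locFree_vanish hE hM
    refine ⟨max b c, fun m hm => subsingleton_of_forall_eq 0 fun x => ?_⟩
    obtain ⟨z, rfl⟩ := Ext.contravariant_sequence_exact₃ (shortExact_tw hS (-m)) _ x
      (@Subsingleton.elim _ (hc m ((le_max_right _ _).trans hm) 2 (by omega)) _ _)
      (show 1 + 1 = 2 from rfl)
    rw [@Subsingleton.elim _ (hb m ((le_max_left _ _).trans hm) 1 one_pos) z 0]
    exact Ext.comp_zero _ _ _ _ _
  obtain ⟨m₀, hm₀⟩ := exists_ext_succ_vanish (PerfTri.Bounded.isCoh_of_isFinLocFree hK) (i := 1)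
    ⟨a, fun m hm => ha m hm 1 one_pos⟩ h2
  obtain ⟨φ, hφ⟩ := exists_mulPow S.X₁ y m₀.toNat
  have h1 : Subsingleton (Ext S.X₃ (twF S.X₁ (m₀.toNat : ℤ)) 1) :=
    subsingleton_ext_shift (-(m₀.toNat : ℤ)) (subsingleton_ext_of_iso (Iso.refl _)
      (twTw S.X₁ _ _ 0 (add_neg_cancel _) ≪≫ twZero _).symm (hm₀ _ (by omega)))
  obtain ⟨ρ, hρ⟩ := Ext.contravariant_sequence_exact₁ hS _ (Ext.mk₀ φ) (show 1 + 0 = 1 from rfl)
    (Subsingleton.elim _ _)
  obtain ⟨ρ, rfl⟩ := (Ext.mk₀_bijective _ _).2 ρ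
  rw [Ext.mk₀_comp_mk₀] at hρ
  have hρ' : S.f ≫ ρ = φ := (Ext.mk₀_bijective _ _).1 hρ
  let T := DerSch.stalkFunctor (CohB1.ProjSpace N k) y
  have hiso : IsIso (T.map φ) := (ConcreteCategory.isIso_iff_bijective _).mpr hφ
  have hT := shortExact_stalk hS y
  let s := ShortComplex.Splitting.ofExactOfRetraction _ hT.exact (T.map ρ ≫ @inv _ _ _ _ (T.map φ) hiso)
    ((Category.assoc _ _ _).symm.trans ((congrArg (· ≫ @inv _ _ _ _ (T.map φ) hiso)
      ((T.map_comp S.f ρ).symm.trans (congrArg T.map hρ'))).trans (@IsIso.hom_inv_id _ _ _ _ (T.map φ) hiso))) hT.epi_g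
  have := hE
  have hE' : Coh.IsCoh S.X₂ := PerfTri.Bounded.isCoh_of_isFinLocFree hE
  have := hE'.1
  have := (Props.QProj.free_stalk S.X₂ hE y).1
  have hP2 : Module.Projective ((CohB1.ProjSpace N k).presheaf.stalk y) (T.obj S.X₂) :=
    Module.Projective.of_free (R := (CohB1.ProjSpace N k).presheaf.stalk y) (P := S.X₂.presheaf.stalk y)
  have : Module.Projective ((CohB1.ProjSpace N k).presheaf.stalk y) (S.X₃.presheaf.stalk y) :=
    @Module.Projective.of_split _ _ _ _ _ _ _ _ hP2 s.s.hom (T.map S.g).hom (congrArg ModuleCat.Hom.hom s.s_g)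
  obtain ⟨_, ⟨U, hU, rfl⟩, hyU, -⟩ := (CohB1.ProjSpace N k).isBasis_affineOpens.exists_subset_of_mem_open
    (Set.mem_univ y) isOpen_univ
  have := hG.1
  have := CohDev.finite_sections hG hU
  have := Props.QProj.finite_stalk S.X₃ hU hyU
  exact Module.free_of_flat_of_isLocalRing

theorem isRegularLocalRing_stalk (y : CohB1.ProjSpace N k) :
    IsRegularLocalRing ((CohB1.ProjSpace N k).presheaf.stalk y) := by
  have : Smooth (CohB1.ProjSpace.toSpec N k) := CohOps.PnSmooth.smooth_toSpec N k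
  exact CurveDVR.isRegularLocalRing_stalk (CohB1.ProjSpace.toSpec N k) y

/-- Closed points of `P^N` have local rings of dimension `N`. -/
theorem ringKrullDim_stalk_closed {y : CohB1.ProjSpace N k}
    (hy : IsClosed ({y} : Set (CohB1.ProjSpace N k))) :
    ringKrullDim ((CohB1.ProjSpace N k).presheaf.stalk y) = N := by
  letI : (CohB1.ProjSpace N k).Over (Spec (CommRingCat.of k)) := ⟨CohB1.ProjSpace.toSpec N k⟩
  have : LocallyOfFiniteType (CohB1.ProjSpace N k ↘ Spec (CommRingCat.of k)) :=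
    ProjTwist.Pn.locallyOfFiniteType_toSpec N k
  have := S18573.irreducibleSpace_projSpace N k
  obtain ⟨-, -, -, h⟩ := FlatOpen.EquiDim.coheight_add_dimPt k (c := N)
    ((FlatOpen.EquiDim.irreducibleComponents_dimPt_iff k N).mp fun Z hZ => by
      rw [irreducibleComponents_eq_singleton, Set.mem_singleton_iff] at hZ
      subst hZ
      rw [IsHomeomorph.topologicalKrullDim_eq _ (Homeomorph.Set.univ _).isHomeomorph]
      exact S10829.result k N) y
  exact (S1617.result k _ y hy).symm.trans h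

theorem compactSpace : CompactSpace (CohB1.ProjSpace N k) :=
  have : IsProper (CohB1.ProjSpace.toSpec N k) := ProjProper.Basic.isProper_toSpec N k
  QuasiCompact.compactSpace_of_compactSpace (CohB1.ProjSpace.toSpec N k)

/-- A cover by very negative twists together with the properties of its kernel. -/
theorem exists_cover (G : (CohB1.ProjSpace N k).Modules) (hG : Coh.IsCoh G) {c : ℕ}
    (hv : NegVanish N k G c) :
    ∃ S : ShortComplex (CohB1.ProjSpace N k).Modules, S.ShortExact ∧ S.X₃ = G ∧ Coh.IsCoh S.X₁ ∧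
      FlatMod.IsFinLocFree S.X₂ ∧ ∀ c', c ≤ c' + 1 → NegVanish N k S.X₁ c' := by
  have := SerrePn.isLocallyNoetherian (n := N) (R := k)
  obtain ⟨κ, hκ, d, π, hπ, hd⟩ := SerrePn.exists_epi G hG 1
  have hE : Coh.IsCoh (∐ fun l => Twist.twistProjSpace N k (-(d l : ℤ))) :=
    SerrePn.isCoh_coprod _ fun l => SerrePn.isCoh_twist _
  have hS : (ShortComplex.mk (kernel.ι π) π (kernel.condition π)).ShortExact :=
    { exact := ShortComplex.exact_of_f_is_kernel _ (kernelIsKernel π) }
  refine ⟨_, hS, rfl, CohDev.isCoh_kernel π hE hG.1, isFinLocFree_twistSum d, fun c' hc => ?_⟩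
  obtain ⟨m₀, hm₀⟩ := hv
  refine ⟨max m₀ 0, fun m hm j hj => ?_⟩
  have hT := shortExact_tw hS (-m)
  have h₂ : Subsingleton (Coh.HH ℙ (twF (∐ fun l => Twist.twistProjSpace N k (-(d l : ℤ))) (-m)) j) := by
    refine subsingleton_HH_iso (twSigma _ _).symm (CohLES.subsingleton_coprod k _ j fun l => ?_)
    exact subsingleton_HH_iso (nonempty_twistProjSpace_tensor N k _ _).some.symm
      (subsingleton_twist_neg (a := -(d l : ℤ) + -m) (by
        have := hd l
        have := (le_max_right m₀ 0).trans hm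
        omega) (by omega))
  refine subsingleton_of_forall_eq 0 fun x => ?_
  cases j with
  | zero =>
    have : Mono ((twFun N k (-m)).map (kernel.ι π)) := hT.mono_f
    exact SerrePn.mapL_zero_injective (k := k) ((twFun N k (-m)).map (kernel.ι π))
      (@Subsingleton.elim _ h₂ _ _)
  | succ j =>
    obtain ⟨z, rfl⟩ := CohLES.exact₁ k hT (show j + 1 = j + 1 from rfl) x (@Subsingleton.elim _ h₂ _ _)
    rw [@Subsingleton.elim _ (hm₀ m ((le_max_left _ _).trans hm) j (by omega)) z 0]
    exact map_zero _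

/-- No low cohomology in very negative degree implies locally free. -/
theorem isFinLocFree_of_vanish {G : (CohB1.ProjSpace N k).Modules} (hG : Coh.IsCoh G)
    (hv : NegVanish N k G 0) : FlatMod.IsFinLocFree G := by
  have := SerrePn.isLocallyNoetherian (n := N) (R := k)
  have := compactSpace (N := N) (k := k)
  suffices H : ∀ (c : ℕ) (G : (CohB1.ProjSpace N k).Modules), Coh.IsCoh G → NegVanish N k G 0 →
      (∀ y : CohB1.ProjSpace N k, IsClosed ({y} : Set (CohB1.ProjSpace N k)) →
        HasProjectiveDimensionLE ((DerSch.stalkFunctor (CohB1.ProjSpace N k) y).obj G) c) →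
      FlatMod.IsFinLocFree G by
    refine H N G hG hv fun y hy => ?_
    have := isRegularLocalRing_stalk y
    exact RegLoc.Homological.pd_le_dim (ringKrullDim_stalk_closed hy) _
  intro c
  induction c with
  | zero =>
    intro G hG hv h
    refine isFinLocFree_of_closed hG fun y hy => ?_
    have : Module.Projective ((CohB1.ProjSpace N k).presheaf.stalk y) (G.presheaf.stalk y) :=
      (RegLoc.PD.pd_zero_iff _).mp (h y hy)
    obtain ⟨_, ⟨U, hU, rfl⟩, hyU, -⟩ := (CohB1.ProjSpace N k).isBasis_affineOpens.exists_subset_of_mem_open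
      (Set.mem_univ y) isOpen_univ
    have := hG.1
    have := CohDev.finite_sections hG hU
    have := Props.QProj.finite_stalk G hU hyU
    exact Module.free_of_flat_of_isLocalRing
  | succ c ih =>
    intro G hG hv h
    obtain ⟨S, hS, rfl, hK, hE, hvK⟩ := exists_cover G hG hv
    have hK' : FlatMod.IsFinLocFree S.X₁ := ih _ hK (hvK 0 (Nat.zero_le _)) fun y hy =>
      have := (PerfTri.Bounded.isCoh_of_isFinLocFree hE).1
      pd_stalk_kernel hS y c (Props.QProj.free_stalk S.X₂ hE y).1 (h y hy)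
    exact isFinLocFree_of_closed hG fun y _ => free_stalk_of_vanish hS hK' hE hG hv y

/-- Vanishing of negative twists bounds the projective dimension at closed points. -/
theorem pd_le_of_vanish : ∀ (c : ℕ) (G : (CohB1.ProjSpace N k).Modules), Coh.IsCoh G →
    NegVanish N k G c → ∀ y : CohB1.ProjSpace N k, IsClosed ({y} : Set (CohB1.ProjSpace N k)) →
      HasProjectiveDimensionLE ((DerSch.stalkFunctor (CohB1.ProjSpace N k) y).obj G) c := by
  have := SerrePn.isLocallyNoetherian (n := N) (R := k)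
  intro c
  induction c with
  | zero =>
    intro G hG hv y hy
    have hF := isFinLocFree_of_vanish hG hv
    have := hG.1
    have := (Props.QProj.free_stalk G hF y).1
    exact RegLoc.PD.pd_of_projective (R := (CohB1.ProjSpace N k).presheaf.stalk y) (G.presheaf.stalk y) 0
  | succ c ih =>
    intro G hG hv y hy
    obtain ⟨S, hS, rfl, hK, hE, hvK⟩ := exists_cover G hG hv
    have := (PerfTri.Bounded.isCoh_of_isFinLocFree hE).1
    have := (Props.QProj.free_stalk S.X₂ hE y).1
    exact ((shortExact_stalk hS y).hasProjectiveDimensionLT_X₃_iff c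
      ((IsProjective.iff_projective (R := (CohB1.ProjSpace N k).presheaf.stalk y) _).mp
        (Module.Projective.of_free (R := (CohB1.ProjSpace N k).presheaf.stalk y)
          (P := S.X₂.presheaf.stalk y)))).mpr (ih _ hK (hvK c le_rfl) y hy)

/-- The negative twists of `G` lose cohomology below `N - c` iff `pd ≤ c` at closed points. -/
theorem negVanish_iff (c : ℕ) (G : (CohB1.ProjSpace N k).Modules) (hG : Coh.IsCoh G) :
    NegVanish N k G c ↔ ∀ y : CohB1.ProjSpace N k, IsClosed ({y} : Set (CohB1.ProjSpace N k)) →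
      HasProjectiveDimensionLE ((DerSch.stalkFunctor (CohB1.ProjSpace N k) y).obj G) c := by
  refine ⟨pd_le_of_vanish c G hG, fun h => ?_⟩
  obtain ⟨d₀, hd₀⟩ := exists_vanish c G hG h
  refine ⟨d₀, fun m hm j hj => ?_⟩
  obtain ⟨d, rfl⟩ : ∃ d : ℕ, m = d := ⟨m.toNat, by omega⟩
  exact hd₀ d (by omega) j hj

/-- A module all whose twists' cohomology vanish in very negative degree is zero. -/
theorem isZero_of_vanish_all {G : (CohB1.ProjSpace N k).Modules} (hG : Coh.IsCoh G)
    (hv : ∃ m₀ : ℤ, ∀ m : ℤ, m₀ ≤ m → ∀ j ≤ N,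
      Subsingleton (Coh.HH (CohB1.ProjSpace N k) (twF G (-m)) j))
    (y : CohB1.ProjSpace N k) : Subsingleton (G.presheaf.stalk y) := by
  have := SerrePn.isLocallyNoetherian (n := N) (R := k)
  have : HasExt.{u} (CohB1.ProjSpace N k).Modules := ModShf.schemeModulesHasExt _
  obtain ⟨m₁, hm₁⟩ := hv
  have hv' : NegVanish N k G 0 := ⟨m₁, fun m hm j hj => hm₁ m hm j (by omega)⟩
  have hF := isFinLocFree_of_vanish hG hv'
  obtain ⟨m₀, hm₀⟩ := exists_ext_succ_vanish hG (i := 0) ⟨m₁, fun m hm => by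
      obtain ⟨e⟩ := (SerrePn.dualAt 0 _ (isCoh_tw hG (-m))).1 (Nat.zero_le N)
      exact e.toEquiv.subsingleton_congr.mpr ((Module.subsingleton_dual_iff k).mpr (hm₁ m hm _ (Nat.sub_le N 0)))⟩
    fun M hM => by
      obtain ⟨b, hb⟩ := exists_ext_locFree_vanish hF hM
      exact ⟨b, fun m hm => hb m hm 1 one_pos⟩
  obtain ⟨φ, hφ⟩ := exists_mulPow G y m₀.toNat
  have h0 : Subsingleton (Ext G (twF G (m₀.toNat : ℤ)) 0) :=
    subsingleton_ext_shift (-(m₀.toNat : ℤ)) (subsingleton_ext_of_iso (Iso.refl _)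
      (twTw G _ _ 0 (add_neg_cancel _) ≪≫ twZero _).symm (hm₀ _ (by omega)))
  have hz : φ = 0 := (Ext.mk₀_bijective _ _).1 (Subsingleton.elim _ _)
  have hs : ∀ s, (DerSch.stalkFunctor (CohB1.ProjSpace N k) y).map φ s = 0 := fun s => by
    rw [hz, Functor.map_zero]; rfl
  exact ⟨fun a b => hφ.1 ((hs a).trans (hs b).symm)⟩

end Groth.Agent.DualAbs

namespace Groth.Agent.DualAbs

/-- A module with zero stalks at the closed points has no cohomology after twisting. -/
theorem isZero_of_closed_stalks {X : Scheme.{u}} [CompactSpace X] {G : X.Modules} (hG : Coh.IsCoh G)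
    (h : ∀ y : X, IsClosed ({y} : Set X) → Subsingleton (G.presheaf.stalk y)) : IsZero G := by
  have hs : ∀ x : X, Subsingleton (G.presheaf.stalk x) := fun x => by
    by_contra hx
    obtain ⟨y, hy, hyc⟩ :=
      IsClosed.exists_closed_singleton (CohDev.isClosed_support hG) ⟨x, hx⟩
    exact hy (h y hyc)
  refine (IsZero.iff_id_eq_zero _).mpr (Scheme.Modules.hom_ext _ _ fun U => ?_)
  ext m
  exact TopCat.Presheaf.section_ext (⟨G.presheaf, G.isSheaf⟩ : TopCat.Sheaf AddCommGrpCat X) U _ _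
    fun x hx => @Subsingleton.elim _ (hs x) _ _

theorem subsingleton_HH_of_isZero {X : Scheme.{u}} {M : X.Modules} (h : IsZero M) (j : ℕ) :
    Subsingleton (Coh.HH X M j) :=
  Sheaf.subsingleton_H_of_isZero ((ModShf.toAbFunctor X).map_isZero h) j

theorem depth_eq_top {A : Type u} [CommRing A] [IsLocalRing A] {M : Type u} [AddCommGroup M]
    [Module A M] (h : Subsingleton M) : LocCoh.depth A M = ⊤ :=
  Depth.idealDepth_eq_top_of_smul_top_eq_top (Subsingleton.elim _ _)

/-- Depth `> n` at closed points, in terms of the vanishing of negative twists. -/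
theorem depth_iff_vanish {N : ℕ} {k : Type u} [Field k] (F : (CohB1.ProjSpace N k).Modules)
    (hF : Coh.IsCoh F) (n : ℕ) :
    (∃ m₀ : ℤ, ∀ m : ℤ, m₀ ≤ m → ∀ i : ℕ, i ≤ n →
      Subsingleton (Coh.HH (CohB1.ProjSpace N k) (twF F (-m)) i)) ↔
    ∀ x : CohB1.ProjSpace N k, IsClosed ({x} : Set (CohB1.ProjSpace N k)) →
      (n : ℕ∞) < LocCoh.depth ((CohB1.ProjSpace N k).presheaf.stalk x) (F.presheaf.stalk x) := by
  have := SerrePn.isLocallyNoetherian (n := N) (R := k)
  have := compactSpace (N := N) (k := k)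
  have hfin : ∀ y : CohB1.ProjSpace N k,
      Module.Finite ((CohB1.ProjSpace N k).presheaf.stalk y) (F.presheaf.stalk y) := fun y => by
    obtain ⟨_, ⟨U, hU, rfl⟩, hyU, -⟩ := (CohB1.ProjSpace N k).isBasis_affineOpens.exists_subset_of_mem_open
      (Set.mem_univ y) isOpen_univ
    have := hF.1
    have := CohDev.finite_sections hF hU
    exact Props.QProj.finite_stalk F hU hyU
  constructor
  · rintro ⟨m₀, h⟩ y hy
    rcases subsingleton_or_nontrivial (F.presheaf.stalk y) with hs | hs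
    · rw [depth_eq_top hs]
      exact ENat.coe_lt_top n
    · rcases Nat.lt_or_ge n N with hnN | hnN
      · have := isRegularLocalRing_stalk y
        have := hfin y
        have hv : NegVanish N k F (N - n - 1) := ⟨m₀, fun m hm j hj => h m hm j (by omega)⟩
        have := (ABReg.le_depth_iff (ringKrullDim_stalk_closed hy) (N - n - 1) (F.presheaf.stalk y)).mpr
          (pd_le_of_vanish _ F hF hv y hy)
        rw [show N - (N - n - 1) = n + 1 by omega] at this
        exact lt_of_lt_of_le (by exact_mod_cast Nat.lt_succ_self n) this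
      · exact absurd (isZero_of_vanish_all hF ⟨m₀, fun m hm j hj => h m hm j (hj.trans hnN)⟩ y)
          (not_subsingleton _)
  · intro h
    rcases Nat.lt_or_ge n N with hnN | hnN
    · obtain ⟨m₀, hm₀⟩ := (negVanish_iff (N - n - 1) F hF).mpr fun y hy => by
        have := isRegularLocalRing_stalk y
        have := hfin y
        refine (ABReg.le_depth_iff (ringKrullDim_stalk_closed hy) (N - n - 1) (F.presheaf.stalk y)).mp ?_
        rw [show N - (N - n - 1) = n + 1 by omega, Nat.cast_succ]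
        exact Order.add_one_le_of_lt (h y hy)
      exact ⟨m₀, fun m hm i hi => hm₀ m hm i (by omega)⟩
    · have hz := isZero_of_closed_stalks hF fun y hy => by
        by_contra hs
        have : Nontrivial (F.presheaf.stalk y) := not_subsingleton_iff_nontrivial.mp hs
        have := isRegularLocalRing_stalk y
        have := hfin y
        have h' := (h y hy).trans_le (ABReg.depth_le (ringKrullDim_stalk_closed hy) (F.presheaf.stalk y))
        exact absurd (by exact_mod_cast h' : n < N) (by omega)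
      exact ⟨0, fun m _ i _ => subsingleton_HH_of_isZero ((twFun N k (-m)).map_isZero hz) i⟩

end Groth.Agent.DualAbs
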