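import Groth.Agent.ExtHom.Compare
import Groth.Agent.ExtHom.Coherent
import Groth.Agent.SerrePn.ExtDual
import Groth.Agent.KFlat.StalkFlat
import Groth.Agent.Props.QProj
import Groth.Agent.RegLoc.PD
import Groth.Agent.ProjForm.Unit

/-!
# Vanishing of `H^j(P^N, G(-d))` for `d ≫ 0` and `G` of small projective dimension at closed points
-/

universe u

open CategoryTheory CategoryTheory.Limits CategoryTheory.Abelian AlgebraicGeometry
open Groth.Agent.ProjTwist Groth.Agent.ProjTwist.Pn

noncomputable section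

namespace Groth.Agent.DualAbs

set_option maxHeartbeats 1000000
set_option synthInstance.maxHeartbeats 400000

section General

variable {X : Scheme.{u}}

/-- Freeness at closed points gives local freeness. -/
theorem isFinLocFree_of_closed [IsLocallyNoetherian X] [CompactSpace X] {F : X.Modules}
    (hF : Coh.IsCoh F) (h : ∀ x : X, IsClosed ({x} : Set X) →
      Module.Free (X.presheaf.stalk x) (F.presheaf.stalk x)) : FlatMod.IsFinLocFree F := fun x => by
  haveI := hF.1
  obtain ⟨y, hy, hyc⟩ := IsClosed.exists_closed_singleton (isClosed_closure (s := ({x} : Set X)))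
    ⟨x, subset_closure rfl⟩
  obtain ⟨_, ⟨U, hU, rfl⟩, hyU, -⟩ :=
    X.isBasis_affineOpens.exists_subset_of_mem_open (Set.mem_univ y) isOpen_univ
  haveI : IsNoetherianRing Γ(X, U) := IsLocallyNoetherian.component_noetherian ⟨U, hU⟩
  haveI := CohDev.finite_sections hF hU
  obtain ⟨V, n, hyV, e⟩ := Props.QProj.exists_free_nhd F hU hyU
    (Module.finitePresentation_of_finite _ _) (h y hyc)
  exact ⟨V, n, (specializes_iff_mem_closure.mpr hy).mem_open V.2 hyV, e⟩

/-- Stalks are exact. -/
theorem shortExact_stalk {S : ShortComplex X.Modules} (hS : S.ShortExact) (x : X) :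
    (S.map (DerSch.stalkFunctor X x)).ShortExact := by
  have := hS.mono_f
  have := hS.epi_g
  exact { exact := hS.exact.map (DerSch.stalkFunctor X x)
          mono_f := inferInstanceAs (Mono ((DerSch.stalkFunctor X x).map S.f))
          epi_g := inferInstanceAs (Epi ((DerSch.stalkFunctor X x).map S.g)) }

/-- Projective dimension drops along a cover by a module with free stalk. -/
theorem pd_stalk_kernel {S : ShortComplex X.Modules} (hS : S.ShortExact) (x : X) (c : ℕ)
    (hE : Module.Free (X.presheaf.stalk x) (S.X₂.presheaf.stalk x))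
    (h : HasProjectiveDimensionLE ((DerSch.stalkFunctor X x).obj S.X₃) (c + 1)) :
    HasProjectiveDimensionLE ((DerSch.stalkFunctor X x).obj S.X₁) c :=
  ((shortExact_stalk hS x).hasProjectiveDimensionLT_X₃_iff c
    ((IsProjective.iff_projective (R := X.presheaf.stalk x) _).mp
      (Module.Projective.of_free (R := X.presheaf.stalk x) (P := S.X₂.presheaf.stalk x)))).mp h

end General

variable {N : ℕ} {k : Type u} [Field k]

local notation "P" => CohB1.ProjSpace N k

/-- `ℋom(G, M(d)) ≅ ℋom(G, M)(d)` on `P^N`. -/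
theorem nonempty_sheafHom_twist (G M : (CohB1.ProjSpace N k).Modules) [DCoh.HasSheafHom G] (d : ℤ) :
    Nonempty ((DCoh.sheafHom G).obj ((SerrePn.twL N k d).obj M) ≅
      twF ((DCoh.sheafHom G).obj M) d) := by
  let B := DCoh.tensorBi (X := CohB1.ProjSpace N k)
  let e : CohB1.ProjSpace N k ⟶ CohB1.ProjSpace N k := 𝟙 _
  let adjT : SerrePn.twL N k (-d) ⊣ SerrePn.twL N k d :=
    ((SerrePn.twEquiv (n := N) (R := k) d).symm.toAdjunction)
  let O := Twist.twistProjSpace N k (-d)
  let i : B.obj G ⋙ SerrePn.twL N k (-d) ≅ SerrePn.twL N k (-d) ⋙ B.obj G :=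
    SerrePn.tensorCompIso O G _ (ChgRings.commIso O G) ≪≫
      (SerrePn.tensorCompIso G O _ (Iso.refl _)).symm
  let a₁ := (DCoh.sheafHomAdj G).comp adjT
  let a₂ := (adjT.comp (DCoh.sheafHomAdj G)).ofNatIsoLeft i.symm
  exact ⟨((a₁.rightAdjointUniq a₂).app M) ≪≫ ChgRings.commIso _ _⟩

/-- Finite sums of twists are finite locally free. -/
theorem isFinLocFree_twistSum {κ : Type u} [Finite κ] (m : κ → ℕ) :
    FlatMod.IsFinLocFree (∐ fun l => Twist.twistProjSpace N k (-(m l : ℤ))) := by
  obtain ⟨r, ⟨σ⟩⟩ := Finite.exists_equiv_fin κ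
  refine KFlat.LocFree.isFinLocFree_of_iso
    (Sigma.whiskerEquiv (f := fun a : Fin r => Twist.twistProjSpace N k (-(m (σ.symm a) : ℤ)))
      (g := fun l => Twist.twistProjSpace N k (-(m l : ℤ))) σ.symm fun a => Iso.refl _)
    (KFlat.TensorLocFree.isFinLocFree_sigma _ Finset.univ (fun a h => absurd (Finset.mem_univ a) h)
      fun a => ProjForm.isFinLocFree_of_isInvertible (isInvertible_twistProjSpace N k _))

theorem subsingleton_HH_iso {F G : (CohB1.ProjSpace N k).Modules} (e : F ≅ G) {i : ℕ}
    (h : Subsingleton (Coh.HH P F i)) : Subsingleton (Coh.HH P G i) :=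
  @subsingleton_of_iso N k _ F G e i h

/-- Twists have vanishing low cohomology in very negative degree. -/
theorem subsingleton_twist_neg {a : ℤ} (ha : a < 0) {j : ℕ} (hj : j < N) :
    Subsingleton (Coh.HH P (Twist.twistProjSpace N k a) j) := by
  cases j with
  | zero => exact subsingleton_H0 (by omega) ha
  | succ q => exact subsingleton_twist _ q (Or.inl (by omega))

theorem exists_vanish_finLocFree {G : (CohB1.ProjSpace N k).Modules} (hG : FlatMod.IsFinLocFree G) :
    ∃ d₀ : ℕ, ∀ d : ℕ, d₀ ≤ d → ∀ j : ℕ, j < N → Subsingleton (Coh.HH P (twF G (-(d : ℤ))) j) := by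
  have := SerrePn.isLocallyNoetherian (n := N) (R := k)
  have := KFlat.hasSheafHom_scheme G
  have hC : Coh.IsCoh G := PerfTri.Bounded.isCoh_of_isFinLocFree hG
  obtain ⟨d₁, hd₁⟩ := serre_vanishing ((DCoh.sheafHom G).obj (SerrePn.omega N k))
    (ExtHom.isCoh_sheafHom hG (SerrePn.isCoh_twist _))
  refine ⟨d₁.toNat, fun d hd j hj => ?_⟩
  have hGd : Coh.IsCoh (twF G (-(d : ℤ))) := isCoh_tw hC _
  have : HasExt.{u} (CohB1.ProjSpace N k).Modules := ModShf.schemeModulesHasExt _
  obtain ⟨e⟩ := (SerrePn.dualAt (N - j) _ hGd).1 (Nat.sub_le N j)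
  suffices h : Subsingleton (Ext (twF G (-(d : ℤ))) (SerrePn.omega N k) (N - j)) by
    have h' := (e.toEquiv.subsingleton_congr.mp h)
    rwa [Module.subsingleton_dual_iff, show N - (N - j) = j by omega] at h'
  let F := (SerrePn.twEquiv (n := N) (R := k) (d : ℤ)).functor
  have : F.Additive := Functor.additive_of_preserves_binary_products _
  have : F.PreservesInjectiveObjects :=
    Functor.preservesInjectiveObjects_of_adjunction_of_preservesMonomorphisms
      (SerrePn.twEquiv (n := N) (R := k) (d : ℤ)).symm.toAdjunction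
  have hb := Functor.mapExt_bijective_of_preservesInjectiveObjects F (twF G (-(d : ℤ)))
    (SerrePn.omega N k) (N - j)
  let eA : F.obj (twF G (-(d : ℤ))) ≅ G :=
    ChgRings.commIso _ _ ≪≫ twTw G (-(d : ℤ)) d 0 (neg_add_cancel _) ≪≫ twZero G
  have hH : Subsingleton (Coh.HH P ((DCoh.sheafHom G).obj (F.obj (SerrePn.omega N k))) (N - j)) :=
    subsingleton_HH_iso (nonempty_sheafHom_twist G _ (d : ℤ)).some.symm
      (hd₁ (d : ℤ) (by omega) (N - j) (by omega))
  obtain ⟨e'⟩ := ExtHom.nonempty_ext_linearEquiv k hG (F.obj (SerrePn.omega N k)) (N - j)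
  have hE : Subsingleton (Ext G (F.obj (SerrePn.omega N k)) (N - j)) :=
    e'.toEquiv.subsingleton_congr.mpr hH
  refine ⟨fun x y => hb.1 ?_⟩
  have key : ∀ z : Ext (F.obj (twF G (-(d : ℤ)))) (F.obj (SerrePn.omega N k)) (N - j), z = 0 := fun z => by
    have hz : (Ext.mk₀ eA.inv).comp z (zero_add _) = 0 := Subsingleton.elim _ _
    have := congrArg (fun w => (Ext.mk₀ eA.hom).comp w (zero_add _)) hz
    simpa [Ext.mk₀_comp_mk₀_assoc] using this
  exact (key _).trans (key _).symm

theorem exists_vanish : ∀ (c : ℕ) (G : (CohB1.ProjSpace N k).Modules), Coh.IsCoh G →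
    (∀ x : CohB1.ProjSpace N k, IsClosed ({x} : Set (CohB1.ProjSpace N k)) →
      HasProjectiveDimensionLE ((DerSch.stalkFunctor (CohB1.ProjSpace N k) x).obj G) c) →
    ∃ d₀ : ℕ, ∀ d : ℕ, d₀ ≤ d → ∀ j : ℕ, j + c < N →
      Subsingleton (Coh.HH P (twF G (-(d : ℤ))) j) := by
  have := SerrePn.isLocallyNoetherian (n := N) (R := k)
  have : IsProper (CohB1.ProjSpace.toSpec N k) := ProjProper.Basic.isProper_toSpec N k
  have : CompactSpace (CohB1.ProjSpace N k) :=
    QuasiCompact.compactSpace_of_compactSpace (CohB1.ProjSpace.toSpec N k)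
  intro c
  induction c with
  | zero =>
    intro G hG h
    obtain ⟨d₀, hd₀⟩ := exists_vanish_finLocFree (isFinLocFree_of_closed hG fun x hx => by
      have : Module.Projective ((CohB1.ProjSpace N k).presheaf.stalk x) (G.presheaf.stalk x) :=
        (RegLoc.PD.pd_zero_iff _).mp (h x hx)
      obtain ⟨_, ⟨U, hU, rfl⟩, hxU, -⟩ := (CohB1.ProjSpace N k).isBasis_affineOpens.exists_subset_of_mem_open
        (Set.mem_univ x) isOpen_univ
      haveI := hG.1
      haveI := CohDev.finite_sections hG hU
      haveI := Props.QProj.finite_stalk G hU hxU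
      exact Module.free_of_flat_of_isLocalRing)
    exact ⟨d₀, fun d hd j hj => hd₀ d hd j hj⟩
  | succ c ih =>
    intro G hG h
    obtain ⟨κ, hκ, m, π, hπ, hm⟩ := SerrePn.exists_epi G hG 1
    let E := ∐ fun l => Twist.twistProjSpace N k (-(m l : ℤ))
    have hE : Coh.IsCoh E := SerrePn.isCoh_coprod _ fun l => SerrePn.isCoh_twist _
    have hS : (ShortComplex.mk (kernel.ι π) π (kernel.condition π)).ShortExact :=
      { exact := ShortComplex.exact_of_f_is_kernel _ (kernelIsKernel π) }
    have hK : Coh.IsCoh (kernel π) := CohDev.isCoh_kernel π hE hG.1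
    obtain ⟨d₀, hd₀⟩ := ih (kernel π) hK fun x hx => by
      refine pd_stalk_kernel hS x c ?_ (h x hx)
      haveI := hE.1
      exact (Props.QProj.free_stalk E (isFinLocFree_twistSum (N := N) (k := k) m) x).1
    refine ⟨d₀, fun d hd j hj => ?_⟩
    have hT := shortExact_tw hS (-(d : ℤ))
    refine subsingleton_of_forall_eq 0 fun x => ?_
    have h₂ : Subsingleton (Coh.HH P (twF E (-(d : ℤ))) j) := by
      refine subsingleton_HH_iso (twSigma _ _).symm (CohLES.subsingleton_coprod k _ j fun l => ?_)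
      exact subsingleton_HH_iso (nonempty_twistProjSpace_tensor N k _ _).some.symm
        (subsingleton_twist_neg (a := -(m l : ℤ) + -(d : ℤ)) (by have := hm l; omega) (by omega))
    have h₁ : Subsingleton (Coh.HH P (twF (kernel π) (-(d : ℤ))) (j + 1)) :=
      hd₀ d hd (j + 1) (by omega)
    obtain ⟨y, rfl⟩ := CohLES.exact₃ k hT (show j + 1 = j + 1 from rfl) x (@Subsingleton.elim _ h₁ _ _)
    rw [@Subsingleton.elim _ h₂ y 0]
    exact map_zero _

end Groth.Agent.DualAbs
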