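import Groth.Agent.DualAbs.Basic
import Groth.Agent.DualAbs.Syzygy
import Groth.Agent.AmpCrit.ProjForm
import Groth.Agent.AmpCrit.SerreVan
import Groth.Agent.PicLaw.Basic
import Groth.Agent.PicCl.Basic
import Groth.Agent.ProperFin.FiniteMap
import Groth.Agent.Props.KilledSub
import Groth.Agent.ClUnit.Basic
import Groth.Agent.HomShQC.Stalk
import Groth.Agent.ABReg.Basic
import Groth.Agent.Depth.CM
import Groth.Agent.CurveDVR.Stalk
import Groth.Agent.CohOps.PnSmooth
import Groth.Agent.Props.NormalCM
import Groth.Agent.S10829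
import Groth.Agent.S0012

/-!
# Acyclic covers on a Cohen–Macaulay closed subscheme of `P^N`
-/

universe u

open CategoryTheory CategoryTheory.Limits CategoryTheory.Abelian AlgebraicGeometry
open Groth.Agent.ProjTwist Groth.Agent.ProjTwist.Pn Groth.Agent.PullStalk.Sky

noncomputable section

namespace Groth.Agent.DualAbs

set_option maxHeartbeats 1000000
set_option synthInstance.maxHeartbeats 400000

section Stalk

variable {Z Y : Scheme.{u}} (i : Z ⟶ Y)

/-- The stalk map of a pushforward is semilinear. -/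
theorem stalkPushforward_smul (M : Z.Modules) (z : Z) (r : Y.presheaf.stalk (i z))
    (t : ((Scheme.Modules.pushforward i).obj M).presheaf.stalk (i z)) :
    (show M.presheaf.stalk z from
      TopCat.Presheaf.stalkPushforward AddCommGrpCat i.base M.presheaf z (r • t)) =
    i.stalkMap z r • (show M.presheaf.stalk z from
      TopCat.Presheaf.stalkPushforward AddCommGrpCat i.base M.presheaf z t) := by
  obtain ⟨U, hU, m, rfl⟩ := exists_germM_eq ((Scheme.Modules.pushforward i).obj M) (i z) t
  obtain ⟨V, hV, a, rfl⟩ := Y.presheaf.exists_germ_eq r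
  let W := U ⊓ V
  have hW : i z ∈ W := ⟨hU, hV⟩
  rw [← HomShQC.germM_res ((Scheme.Modules.pushforward i).obj M) (inf_le_left : W ≤ U) (i z) hW,
    ← TopCat.Presheaf.germ_res_apply Y.presheaf (homOfLE (inf_le_right : W ≤ V)) (i z) hW a]
  erw [← germM_smul]
  erw [TopCat.Presheaf.stalkPushforward_germ_apply, TopCat.Presheaf.stalkPushforward_germ_apply,
    Scheme.Hom.germ_stalkMap_apply]
  exact germM_smul M (i ⁻¹ᵁ W) z hW _ _

variable [IsClosedImmersion i]

/-- Depth bound gives a projective dimension bound for the push forward of the structure sheaf. -/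
theorem pd_push_unit [IsLocallyNoetherian Y] [IsLocallyNoetherian Z] (z : Z)
    [IsRegularLocalRing (Y.presheaf.stalk (i z))] {a b c : ℕ}
    (ha : ringKrullDim (Y.presheaf.stalk (i z)) = a) (hb : LocCoh.depth (Z.presheaf.stalk z)
      (Z.presheaf.stalk z) = b) (habc : a ≤ b + c) :
    HasProjectiveDimensionLE ((DerSch.stalkFunctor Y (i z)).obj
      ((Scheme.Modules.pushforward i).obj (Coh.structureModule Z))) c := by
  let A := Y.presheaf.stalk (i z)
  let B := Z.presheaf.stalk z
  letI : Algebra A B := (i.stalkMap z).hom.toAlgebra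
  have hs : Function.Surjective (algebraMap A B) := i.stalkMap_surjective z
  let M := ((Scheme.Modules.pushforward i).obj (Coh.structureModule Z)).presheaf.stalk (i z)
  let φ : M → (Coh.structureModule Z).presheaf.stalk z := fun t =>
    TopCat.Presheaf.stalkPushforward AddCommGrpCat i.base (Coh.structureModule Z).presheaf z t
  let ψ : M →ₗ[A] B :=
    { toFun := fun t => (HomShQC.unitStalk z).symm (φ t)
      map_add' := fun s t => (congrArg (HomShQC.unitStalk z).symm (map_add
        (TopCat.Presheaf.stalkPushforward AddCommGrpCat i.base (Coh.structureModule Z).presheaf z).hom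
          s t)).trans (map_add _ _ _)
      map_smul' := fun r t => (congrArg (HomShQC.unitStalk z).symm
        (stalkPushforward_smul i (Coh.structureModule Z) z r t)).trans (map_smul _ _ _) }
  have hψ : Function.Bijective ψ := (HomShQC.unitStalk z).symm.bijective.comp
    (ClUnit.stalkPushforward_bijective i _ i.isClosedEmbedding.isInducing z)
  have : Module.Finite A B := Module.Finite.of_surjective (Algebra.linearMap A B) hs
  have hd : ((a - c : ℕ) : ℕ∞) ≤ LocCoh.depth A B := by
    have h := Depth.idealDepth_map_of_surjective (N := B) hs (IsLocalRing.maximalIdeal A)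
    rw [IsLocalRing.map_maximalIdeal_of_surjective _ hs] at h
    have h' : LocCoh.depth A B = b := h.symm.trans hb
    rw [h']
    exact_mod_cast (show a - c ≤ b by omega)
  have := (ABReg.le_depth_iff ha c B).mp hd
  exact RegLoc.PD.pd_congr (LinearEquiv.ofBijective ψ hψ).symm c this

end Stalk

section Tensor

variable {X : Scheme.{u}}

/-- `ℋom(L, -) ≅ M ⊗ -` for `M` inverse to `L`. -/
theorem nonempty_sheafHom_invertible (L M : X.Modules) [DCoh.HasSheafHom L]
    (e : CohB1.tensorMod M L ≅ Coh.structureModule X) (G : X.Modules) :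
    Nonempty ((DCoh.sheafHom L).obj G ≅ CohB1.tensorMod M G) := by
  let B := DCoh.tensorBi (X := X)
  let E : X.Modules ≌ X.Modules := CategoryTheory.Equivalence.mk (B.obj L) (B.obj M)
    (SerrePn.tensorCompIso M L _ e ≪≫ SerrePn.unitTensorNatIso).symm
    (SerrePn.tensorCompIso L M _ (ChgRings.commIso L M ≪≫ e) ≪≫ SerrePn.unitTensorNatIso)
  exact ⟨((DCoh.sheafHomAdj L).rightAdjointUniq E.toAdjunction).app G⟩

end Tensor

variable {N : ℕ} {k : Type u} [Field k] {X : Scheme.{u}} (ι : X ⟶ CohB1.ProjSpace N k)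
  [IsClosedImmersion ι]

/-- The pullback of `O(d)`. -/
abbrev pbTwist (d : ℤ) : X.Modules := (Scheme.Modules.pullback ι).obj (Twist.twistProjSpace N k d)

theorem isInvertible_pbTwist (d : ℤ) : PicF.IsInvertible (pbTwist ι d) :=
  PicCl.isInvertible_pullback ι (isInvertible_twistProjSpace N k d)

theorem nonempty_pbTwist_inv (d : ℤ) :
    Nonempty (CohB1.tensorMod (pbTwist ι d) (pbTwist ι (-d)) ≅ Coh.structureModule X) := by
  obtain ⟨e⟩ := PicLaw.pullback_tensor ι (isInvertible_twistProjSpace N k d)
    (isInvertible_twistProjSpace N k (-d))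
  exact ⟨e.symm ≪≫ (Scheme.Modules.pullback ι).mapIso ((nonempty_twistProjSpace_tensor N k d (-d)).some ≪≫
    eqToIso (by rw [add_neg_cancel]; rfl) ≪≫ (twistZeroIso (CohB1.polyGrading N k)).symm) ≪≫
    QCoh.pullbackUnitIso ι⟩

include ι in
theorem isLocallyNoetherian_source : IsLocallyNoetherian X :=
  have := SerrePn.isLocallyNoetherian (n := N) (R := k)
  LocallyOfFiniteType.isLocallyNoetherian ι

theorem subsingleton_HH_of_push {M : X.Modules} (hM : Coh.IsQCoh M) {p : ℕ}
    (h : Subsingleton (Coh.HH (CohB1.ProjSpace N k) ((Scheme.Modules.pushforward ι).obj M) p)) :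
    Subsingleton (Coh.HH X M p) := by
  have : Coh.IsQCoh M := hM
  obtain ⟨a⟩ := S0012.result ι M p
  exact @Equiv.subsingleton _ _ a.toEquiv h

include ι in
theorem le_dim {n : ℕ} (hn : topologicalKrullDim ↥X = n) : n ≤ N := by
  have h := ι.isClosedEmbedding.isInducing.topologicalKrullDim_le
  rw [hn, S10829.result k N] at h
  exact_mod_cast h

theorem pd_push_closed {n : ℕ}
    (hCM : ∀ x : X, IsClosed ({x} : Set X) →
      LocCoh.IsCohenMacaulayLocalRing (X.presheaf.stalk x) ∧ ringKrullDim (X.presheaf.stalk x) = n)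
    (y : CohB1.ProjSpace N k) (hy : IsClosed ({y} : Set (CohB1.ProjSpace N k))) :
    HasProjectiveDimensionLE ((DerSch.stalkFunctor (CohB1.ProjSpace N k) y).obj
      ((Scheme.Modules.pushforward ι).obj (Coh.structureModule X))) (N - n) := by
  have := SerrePn.isLocallyNoetherian (n := N) (R := k)
  have := isLocallyNoetherian_source ι
  by_cases h : y ∈ Set.range ι
  · obtain ⟨z, rfl⟩ := h
    have hz : IsClosed ({z} : Set X) := by
      rw [← ι.isClosedEmbedding.injective.preimage_image (s := ({z} : Set X)), Set.image_singleton]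
      exact hy.preimage ι.continuous
    obtain ⟨hc, hd⟩ := hCM z hz
    have : Smooth (CohB1.ProjSpace.toSpec N k) := CohOps.PnSmooth.smooth_toSpec N k
    have := CurveDVR.isRegularLocalRing_stalk (CohB1.ProjSpace.toSpec N k) (ι z)
    obtain ⟨a, ha, -⟩ :=
      RegLoc.exists_natCast_eq_ringKrullDim ((CohB1.ProjSpace N k).presheaf.stalk (ι z))
    have haN : a ≤ N := by
      have h := Props.NormalCM.ringKrullDim_stalk_le (CohB1.ProjSpace N k) (ι z)
      rw [ha, S10829.result k N] at h
      exact_mod_cast h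
    refine pd_push_unit ι z ha (b := n) ?_ (by omega)
    have h1 := hc.supportDim_eq_depth
    rw [Module.supportDim_self_eq_ringKrullDim, hd] at h1
    exact_mod_cast h1.symm
  · have : Subsingleton (((Scheme.Modules.pushforward ι).obj
        (Coh.structureModule X)).presheaf.stalk y) :=
      ClUnit.subsingleton_stalk_pushforward ι _ y
        ⟨(Set.range ι)ᶜ, ι.isClosedEmbedding.isClosed_range.isOpen_compl⟩ h
        (le_bot_iff.mp fun z hz => hz ⟨z, rfl⟩)
    exact RegLoc.PD.pd_of_projective
      (R := (CohB1.ProjSpace N k).presheaf.stalk y)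
      (((Scheme.Modules.pushforward ι).obj (Coh.structureModule X)).presheaf.stalk y) (N - n)

theorem isCoh_pbTwist (d : ℤ) : Coh.IsCoh (pbTwist ι d) :=
  have := isLocallyNoetherian_source ι
  PerfTri.Bounded.isCoh_of_isFinLocFree (ProjForm.isFinLocFree_of_isInvertible (isInvertible_pbTwist ι d))

include ι in
/-- `Ext^{i+1}(O_X(-d), ω) = 0` for `d ≫ 0`. -/
theorem exists_ext_pbTwist_vanish [X.Over (Spec (CommRingCat.of k))] [HasExt.{u} X.Modules]
    {ω : X.Modules} (hω : Coh.IsCoh ω) : ∃ d₁ : ℕ, ∀ d : ℕ, d₁ ≤ d → ∀ i : ℕ,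
      Subsingleton (Ext (pbTwist ι (-(d : ℤ))) ω (i + 1)) := by
  have := SerrePn.isLocallyNoetherian (n := N) (R := k)
  have := isLocallyNoetherian_source ι
  obtain ⟨d₁, hd₁⟩ := serre_vanishing ((Scheme.Modules.pushforward ι).obj ω)
    (ProperFin.isCoh_push_of_isFinite ι _ hω)
  refine ⟨d₁.toNat, fun d hd i => ?_⟩
  have hL := ProjForm.isFinLocFree_of_isInvertible (isInvertible_pbTwist ι (-(d : ℤ)))
  have := KFlat.hasSheafHom_scheme (pbTwist ι (-(d : ℤ)))
  obtain ⟨e'⟩ := ExtHom.nonempty_ext_linearEquiv k hL ω (i + 1)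
  refine e'.toEquiv.subsingleton_congr.mpr ?_
  obtain ⟨e''⟩ := nonempty_sheafHom_invertible (pbTwist ι (-(d : ℤ))) (pbTwist ι (d : ℤ))
    (nonempty_pbTwist_inv ι (d : ℤ)).some ω
  obtain ⟨a⟩ := AmpCrit.ProjForm.nonempty_projIso ι ω (isInvertible_twistProjSpace N k (d : ℤ))
  have := (isCoh_pbTwist ι (d : ℤ)).1
  have := hω.1
  have := subsingleton_HH_of_push ι (LimTop.TensorQC.isQuasicoherent_tensM ω (pbTwist ι (d : ℤ)))
    (subsingleton_HH_iso a (hd₁ (d : ℤ) (by omega) (i + 1) (Nat.succ_pos i)))
  exact AmpCrit.subsingleton_HH_of_iso (ChgRings.commIso _ _ ≪≫ e''.symm) (i + 1)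

include ι in
theorem hasAcyclicCovers [X.Over (Spec (CommRingCat.of k))] [HasExt.{u} X.Modules] {n : ℕ}
    (hn : topologicalKrullDim ↥X = n)
    (hCM : ∀ x : X, IsClosed ({x} : Set X) →
      LocCoh.IsCohenMacaulayLocalRing (X.presheaf.stalk x) ∧ ringKrullDim (X.presheaf.stalk x) = n)
    {ω : X.Modules} (hω : Coh.IsCoh ω) : HasAcyclicCovers n ω := by
  have := SerrePn.isLocallyNoetherian (n := N) (R := k)
  have := isLocallyNoetherian_source ι
  have hnN := le_dim ι hn
  obtain ⟨d₀, hd₀⟩ := exists_vanish (N - n) _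
    (ProperFin.isCoh_push_of_isFinite ι _ HomShQC.isCoh_structureModule) (pd_push_closed ι hCM)
  obtain ⟨d₁, hd₁⟩ := exists_ext_pbTwist_vanish ι hω
  intro F hF
  obtain ⟨κ, hκ, m, π, hπ, hm⟩ := SerrePn.exists_epi ((Scheme.Modules.pushforward ι).obj F)
    (ProperFin.isCoh_push_of_isFinite ι _ hF) (max d₀ d₁)
  have : PreservesColimitsOfSize.{u, u} (Scheme.Modules.pullback ι) :=
    (Scheme.Modules.pullbackPushforwardAdjunction ι).leftAdjoint_preservesColimits
  let e := PreservesCoproduct.iso (Scheme.Modules.pullback ι)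
    fun l => Twist.twistProjSpace N k (-(m l : ℤ))
  have : IsIso ((Scheme.Modules.pullbackPushforwardAdjunction ι).counit.app F) :=
    Props.KilledSub.isIso_counit ι F
  have : (Scheme.Modules.pullback ι).PreservesEpimorphisms :=
    Functor.preservesEpimorphisms_of_adjunction (Scheme.Modules.pullbackPushforwardAdjunction ι)
  refine ⟨∐ fun l => pbTwist ι (-(m l : ℤ)), e.inv ≫ (Scheme.Modules.pullback ι).map π ≫
    (Scheme.Modules.pullbackPushforwardAdjunction ι).counit.app F, ?_,
    SerrePn.isCoh_coprod _ fun l => isCoh_pbTwist ι _, fun q hq => ?_, fun i => ?_⟩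
  · infer_instance
  · refine CohLES.subsingleton_coprod k _ q fun l => ?_
    refine subsingleton_HH_of_push ι (isCoh_pbTwist ι _).1 ?_
    obtain ⟨a⟩ := AmpCrit.ProjForm.nonempty_projIso ι (Coh.structureModule X)
      (isInvertible_twistProjSpace N k (-(m l : ℤ)))
    exact subsingleton_HH_iso (a ≪≫ (Scheme.Modules.pushforward ι).mapIso
      (KFlat.TensorLocFree.unitTensorIso _)) (hd₀ (m l) ((le_max_left _ _).trans (hm l)) q (by omega))
  · exact SerrePn.subsingleton_ext_coprod _ _ _ fun l =>
      hd₁ (m l) ((le_max_right _ _).trans (hm l)) i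

end Groth.Agent.DualAbs
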