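import Groth.Agent.DualAbs.DetSeq
import Groth.Agent.ExtPowSt.Exists
import Groth.Agent.KosZig.Chart
import Groth.Agent.DualAbs.Closed
import Groth.Agent.KFlat.Hom
import Groth.Agent.CanonTriv.Basic
import Groth.Agent.GrpScheme.SectionConormal
import Groth.Agent.S5976
import Groth.Agent.S5021
import Groth.Agent.S5003
import Groth.Agent.S8905
import Groth.Agent.S8657
import Groth.Agent.S10665

/-!
# Closed immersions between smooth schemes

Regularity of the expected codimension, and `ι^*Ω^top_P ≅ Λ^top C ⊗ Ω^top_X`.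
-/

set_option autoImplicit false
set_option linter.style.haveILetI false

universe u

open CategoryTheory CategoryTheory.Limits AlgebraicGeometry

noncomputable section

namespace Groth.Agent.DualAbs.SmoothImm

open Groth.Agent.PullStalk.Sky Groth.Agent.PullStalk.Exact Groth.Agent.Omega.Stalks

variable {S P X : Scheme.{u}}

theorem isRegularImmersion_koszul (g : P ⟶ S) (ι : X ⟶ P) [IsImmersion ι] [Smooth (ι ≫ g)] [Smooth g] :
    RegImm.IsRegularImmersion .koszul ι := by
  let Γ : X ⟶ pullback (ι ≫ g) g := pullback.lift (𝟙 X) ι (Category.id_comp _)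
  have h1 : Γ ≫ pullback.fst _ _ = 𝟙 X := pullback.lift_fst _ _ _
  have h2 : Γ ≫ pullback.snd _ _ = ι := pullback.lift_snd _ _ _
  haveI : IsImmersion (Γ ≫ pullback.snd (ι ≫ g) g) := by rw [h2]; infer_instance
  haveI : IsImmersion Γ := IsImmersion.of_comp Γ (pullback.snd (ι ≫ g) g)
  exact (S8657.result ι Γ (pullback.snd (ι ≫ g) g) h2).2
    ((S8657.result (𝟙 X) Γ (pullback.fst (ι ≫ g) g) h1).1 (S10665.isRegularImmersion_id X))

theorem isRegularImmersion_regular [IsLocallyNoetherian P] (g : P ⟶ S) (ι : X ⟶ P) [IsImmersion ι]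
    [Smooth (ι ≫ g)] [Smooth g] : RegImm.IsRegularImmersion .regular ι :=
  (S5003.result ι).2 ((S8905.result ι).2.2 ((S8905.result ι).2.1 (isRegularImmersion_koszul g ι)))

theorem exists_basis_omega {Y : Scheme.{u}} (g : Y ⟶ S) (n : ℕ) [SmoothOfRelativeDimension n g]
    [QuasiSeparated g] (y : Y) :
    Nonempty (Module.Basis (Fin n) (Y.presheaf.stalk y) ((Omega.sheaf g).presheaf.stalk y)) :=
  ⟨Module.Basis.ofEquivFun (EulerChar.stalk_ofRank (CanonTriv.isFinLocFreeOfRank_omega g n) y).some.symm⟩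

/-- Modules on the empty scheme are isomorphic. -/
theorem nonempty_iso_of_isEmpty [IsEmpty X] (M N : X.Modules) : Nonempty (M ≅ N) := by
  haveI : IsIso (0 : M ⟶ N) := isIso_of_stalk fun x => isEmptyElim x
  exact ⟨asIso (0 : M ⟶ N)⟩

theorem isInvertible_top {c : ℕ} {E L : X.Modules} [IsLocallyNoetherian X] (hE : Coh.IsCoh E)
    (hL : ExtPow.IsExtPow c E L)
    (hb : ∀ y, Nonempty (Module.Basis (Fin c) (X.presheaf.stalk y) (E.presheaf.stalk y))) :
    PicF.IsInvertible L := by
  haveI := hE.1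
  let Φ : ExtPowSt.Sys c E L := ⟨hL.choose, hL.choose_spec⟩
  have hLc := ExtPowSt.isCoh Φ hE
  haveI := hLc.1
  exact LFDesc.isInvertible_of_stalks L (fun U hU => (QCoh.isFiniteType_iff L).mp hLc.2 U hU) fun x =>
    ⟨Module.Basis.ofEquivFun (((LinearEquiv.funUnique (Fin 1) (X.presheaf.stalk x) (X.presheaf.stalk x)).trans
      (LinearEquiv.ofBijective _ (ExtPowSt.bijective_smul_ιMulti (hb x).some))).trans
        (ExtPowSt.stalkEquiv Φ x).symm).symm⟩

/-- `ℋom(L, -) ≅ M ⊗ -` for `M` inverse to `L`, in the site convention. -/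
theorem nonempty_modSheafHom_invertible (L M : X.Modules) [ModSite.HasSheafHom (O := X.sheaf) L]
    (e : CohB1.tensorMod M L ≅ Coh.structureModule X) (G : X.Modules) :
    Nonempty ((ModSite.sheafHom (O := X.sheaf) L).obj G ≅ CohB1.tensorMod M G) := by
  haveI := KFlat.hasSheafHom_scheme L
  obtain ⟨e'⟩ := nonempty_sheafHom_invertible L M e G
  let adj := (Adjunction.ofIsLeftAdjoint ((ModSite.tensorBi (X.sheaf)).flip.obj L)).ofNatIsoLeft
    ((KFlat.tensorBiFlipIso X.sheaf).app L)
  exact ⟨(adj.rightAdjointUniq (DCoh.sheafHomAdj L)).app G ≪≫ e'⟩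

variable [IsLocallyNoetherian P] (g : P ⟶ S) (ι : X ⟶ P) [IsClosedImmersion ι] (n r : ℕ)
  [SmoothOfRelativeDimension n g] [SmoothOfRelativeDimension r (ι ≫ g)]
  [QuasiSeparated g] [QuasiSeparated (ι ≫ g)]

include g ι n r

/-- The conormal sequence with its stalk bases. -/
theorem exists_seq :
    ∃ (f : Omega.conormal ι ⟶ (Scheme.Modules.pullback ι).obj (Omega.sheaf g))
      (c : (Scheme.Modules.pullback ι).obj (Omega.sheaf g) ⟶ Omega.sheaf (ι ≫ g)),
      (∀ y, Function.Injective (stalkLin f y)) ∧ (∀ y, Function.Surjective (stalkLin c y)) ∧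
        ∀ y, Function.Exact (stalkLin f y) (stalkLin c y) := by
  haveI : Smooth g := SmoothOfRelativeDimension.smooth n g
  haveI : Smooth (ι ≫ g) := SmoothOfRelativeDimension.smooth r (ι ≫ g)
  have hd := Omega.DiagUniv.isUniversal_dOmega g
  have hd' := Omega.DiagUniv.isUniversal_dOmega (ι ≫ g)
  obtain ⟨φ, hφ⟩ := GrpScheme.SectionConormal.exists_conormalDiff ι (OmegaSh.dOmega g)
  obtain ⟨c, hc, -⟩ := Omega.Basic.existsUnique_diffCompat (h := ι) (b := 𝟙 S) (f' := ι ≫ g) (f := g)
    (Category.comp_id _) hd (OmegaSh.dOmega (ι ≫ g))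
  haveI := S5021.mono_conormalDiff_of_smooth hd hφ
  obtain ⟨hepi, him⟩ := S5976.result g ι _ _ hd _ _ hd' φ hφ c hc
  have w : φ ≫ c = 0 := by
    rw [← imageSubobject_arrow_comp φ, Category.assoc]
    have : (imageSubobject φ).arrow ≫ c = 0 := by
      rw [← Subobject.ofLE_arrow him.le, Category.assoc, kernelSubobject_arrow_comp, comp_zero]
    rw [this, comp_zero]
  have hS : (ShortComplex.mk φ c w).ShortExact :=
    { exact := (ShortComplex.exact_iff_image_eq_kernel _).mpr him
      mono_f := inferInstance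
      epi_g := hepi }
  exact ⟨φ, c, fun y => (stalk_exact hS y).1, fun y => (stalk_exact hS y).2.2, fun y => (stalk_exact hS y).2.1⟩

/-- The length of a regular sequence cutting out `X` is the difference of the dimensions. -/
theorem length_add_eq (z : X) {d : ℕ} (b : Module.Basis (Fin d) (X.presheaf.stalk z)
    ((Omega.conormal ι).presheaf.stalk z)) : d + r = n := by
  obtain ⟨f, c, hi, hs, he⟩ := exists_seq g ι n r
  obtain ⟨bW⟩ := exists_basis_omega (ι ≫ g) r z
  obtain ⟨bM, -⟩ := DetSeq.exists_pull_basis ι (Omega.sheaf g) z (exists_basis_omega g n (ι z)).some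
  haveI := Module.Projective.of_basis bW
  obtain ⟨l, hl⟩ := Module.projective_lifting_property (stalkLin c z) LinearMap.id (hs z)
  have e := ((he z).splitSurjectiveEquiv (hi z) ⟨l, hl⟩).1
  have h1 := (bM.map e).indexEquiv (b.prod bW)
  simpa using (Fintype.card_congr h1).symm

theorem isRegularImmersionOfCodim :
    RegImm.IsRegularImmersionOfCodim .regular (n - r) ι := by
  haveI : Smooth g := SmoothOfRelativeDimension.smooth n g
  haveI : Smooth (ι ≫ g) := SmoothOfRelativeDimension.smooth r (ι ≫ g)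
  obtain ⟨h0, h⟩ := isRegularImmersion_regular g ι
  refine ⟨h0, fun z => ?_⟩
  obtain ⟨U, hz, hci, rs, hseq, hker⟩ := h z
  have hk : RingHom.ker (ι.app U.1).hom = Ideal.span (Set.range fun i : Fin rs.length => rs[i.1]) := by
    rw [hker, Ideal.ofList]
    congr 1
    ext a
    simp [List.mem_iff_get]
  have hw : RingTheory.Sequence.IsWeaklyRegular Γ(P, U.1) (List.ofFn fun i : Fin rs.length => rs[i.1]) := by
    rw [List.ofFn_getElem]
    exact hseq.toIsWeaklyRegular
  let c : KosZig.Chart ι rs.length := ⟨U, fun i => rs[i.1], hk, hw⟩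
  obtain ⟨b, -⟩ := c.exists_basis ι (y := z) hz
  have := length_add_eq g ι n r z b
  exact ⟨U, hz, hci, rs, by omega, hseq, hker⟩

theorem exists_basis_conormal (y : X) :
    Nonempty (Module.Basis (Fin (n - r)) (X.presheaf.stalk y) ((Omega.conormal ι).presheaf.stalk y)) := by
  obtain ⟨c, hy⟩ := KosZig.exists_chart ι (isRegularImmersionOfCodim g ι n r) y
  obtain ⟨b, -⟩ := c.exists_basis ι hy
  exact ⟨b⟩

theorem add_eq [Nonempty X] : n - r + r = n :=
  length_add_eq g ι n r (Classical.arbitrary X) (exists_basis_conormal g ι n r _).some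

/-- The adjunction formula for top differentials. -/
theorem nonempty_pullback_top_iso {LP : P.Modules} {LC LX : X.Modules}
    (hLP : ExtPow.IsExtPow n (Omega.sheaf g) LP) (hLC : ExtPow.IsExtPow (n - r) (Omega.conormal ι) LC)
    (hLX : ExtPow.IsExtPow r (Omega.sheaf (ι ≫ g)) LX) :
    Nonempty (CohB1.tensorMod LC LX ≅ (Scheme.Modules.pullback ι).obj LP) := by
  rcases isEmpty_or_nonempty X with _ | _
  · exact nonempty_iso_of_isEmpty _ _
  haveI := LocallyOfFiniteType.isLocallyNoetherian ι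
  obtain ⟨c, hc⟩ : ∃ c, c = n - r := ⟨_, rfl⟩
  have hn : n = c + r := by rw [hc, add_eq g ι n r]
  have hbC : ∀ y, Nonempty (Module.Basis (Fin c) (X.presheaf.stalk y) ((Omega.conormal ι).presheaf.stalk y)) :=
    fun y => hc ▸ exists_basis_conormal g ι n r y
  have hbW := exists_basis_omega (ι ≫ g) r
  have hbE := fun y : X => exists_basis_omega g n (ι y)
  haveI := (VBLib.isCoh_of_ofRank (CanonTriv.isFinLocFreeOfRank_omega g n)).1
  haveI := (VBLib.isCoh_of_ofRank (CanonTriv.isFinLocFreeOfRank_omega (ι ≫ g) r)).1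
  obtain ⟨f, π, hi, hs, he⟩ := exists_seq g ι n r
  rw [← hc] at hLC
  subst hn
  exact DetSeq.nonempty_det_iso ι f π hi hs he ⟨hLC.choose, hLC.choose_spec⟩ ⟨hLX.choose, hLX.choose_spec⟩
    ⟨hLP.choose, hLP.choose_spec⟩ hbC hbW hbE

end Groth.Agent.DualAbs.SmoothImm
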