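import Groth.Agent.SiteCoh.ExtDerived
import Mathlib.CategoryTheory.Adjunction.Additive

/-!
# Universal extension class at the first nonvanishing derived functor of a right adjoint

For an adjunction `L ⊣ R` with `R` preserving injective objects and an injective resolution `K` of `G`,
if `R K` is exact in degrees `< c` there is a class `η ∈ Ext^c(L H, G)`, `H` the `c`-th cohomology of
`R K`, such that `φ ↦ (L φ)^* η` identifies `Hom(F, H)` with `Ext^c(L F, G)`.
-/

set_option autoImplicit false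

universe v₁ v₂ u₁ u₂

open CategoryTheory CategoryTheory.Limits CategoryTheory.Abelian

noncomputable section

namespace Groth.Agent.DualAbs.AdjExt

variable {A : Type u₁} [Category.{v₁} A] [Abelian A] {B : Type u₂} [Category.{v₂} B] [Abelian B]
  [HasExt.{v₂} B] {L : A ⥤ B} {R : B ⥤ A} [R.Additive] (adj : L ⊣ R)
  {G : B} (K : InjectiveResolution G)

/-- `R K`. -/
abbrev J (R : B ⥤ A) [R.Additive] : CochainComplex A ℕ :=
  (R.mapHomologicalComplex _).obj K.cocomplex

variable (hinj : ∀ q, Injective ((J K R).X q))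

include hinj in
/-- The differentials are von Neumann regular in the exact range. -/
theorem exists_regular : ∀ (c : ℕ), (∀ q < c, (J K R).ExactAt q) → ∀ q < c,
    ∃ h : (J K R).X (q + 1) ⟶ (J K R).X q, (J K R).d q (q + 1) ≫ h ≫ (J K R).d q (q + 1) = (J K R).d q (q + 1) := by
  intro c hlow q
  induction q with
  | zero =>
    intro hq
    have hex : (ShortComplex.mk ((J K R).d 0 0) ((J K R).d 0 1) ((J K R).d_comp_d _ _ _)).Exact :=
      ((J K R).exactAt_iff' 0 0 1 (by simp) (by simp)).1 (hlow 0 hq)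
    have := hinj 0
    have h0 : (J K R).d 0 0 ≫ 𝟙 ((J K R).X 0) = 0 := by
      rw [(J K R).shape 0 0 (by simp)]; exact zero_comp
    refine ⟨hex.descToInjective (J := (J K R).X 0) (𝟙 _) h0, ?_⟩
    refine (Category.assoc _ _ _).symm.trans ?_
    exact (congrArg (· ≫ (J K R).d 0 1) (hex.comp_descToInjective (𝟙 _) h0)).trans
      (Category.id_comp _)
  | succ q ih =>
    intro hq
    obtain ⟨h, hh⟩ := ih (by omega)
    have hex : (ShortComplex.mk ((J K R).d q (q + 1)) ((J K R).d (q + 1) (q + 1 + 1))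
        ((J K R).d_comp_d _ _ _)).Exact :=
      ((J K R).exactAt_iff' q (q + 1) (q + 1 + 1) (by simp) (by simp)).1 (hlow (q + 1) hq)
    have := hinj (q + 1)
    let v : (J K R).X (q + 1) ⟶ (J K R).X (q + 1) := 𝟙 _ - h ≫ (J K R).d q (q + 1)
    have hv : (J K R).d q (q + 1) ≫ v = 0 := by
      simp only [v, Preadditive.comp_sub, Category.comp_id, hh, sub_self]
    refine ⟨hex.descToInjective v hv, ?_⟩
    refine (Category.assoc _ _ _).symm.trans ?_
    refine (congrArg (· ≫ (J K R).d (q + 1) (q + 1 + 1)) (hex.comp_descToInjective v hv)).trans ?_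
    show v ≫ (J K R).d (q + 1) (q + 1 + 1) = _
    simp only [v, Preadditive.sub_comp, Category.id_comp, Category.assoc, HomologicalComplex.d_comp_d,
      comp_zero, sub_zero]

include hinj in
/-- A section of the projection from cocycles to cohomology in the first nonzero degree. -/
theorem exists_section (c : ℕ) (hlow : ∀ q < c, (J K R).ExactAt q) :
    ∃ s : (J K R).homology c ⟶ (J K R).cycles c, s ≫ (J K R).homologyπ c = 𝟙 _ ∧
      ∀ {F : A} (z : F ⟶ (J K R).cycles c), z ≫ (J K R).homologyπ c = 0 →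
        c = 0 ∧ z = 0 ∨ ∃ p, p + 1 = c ∧ ∃ g : F ⟶ (J K R).X p,
          g ≫ (J K R).d p c = z ≫ (J K R).iCycles c := by
  cases c with
  | zero =>
    have : IsIso ((J K R).homologyπ 0) := CochainComplex.isIso_homologyπ₀ _
    exact ⟨inv ((J K R).homologyπ 0), IsIso.inv_hom_id _, fun z hz =>
      Or.inl ⟨rfl, by rwa [← cancel_mono ((J K R).homologyπ 0), zero_comp]⟩⟩
  | succ p =>
    obtain ⟨h, hh⟩ := exists_regular K hinj (p + 1) hlow p (Nat.lt_succ_self p)
    let v : (J K R).cycles (p + 1) ⟶ (J K R).cycles (p + 1) :=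
      𝟙 _ - (J K R).iCycles (p + 1) ≫ h ≫ (J K R).toCycles p (p + 1)
    have hv : (J K R).toCycles p (p + 1) ≫ v = 0 := by
      rw [← cancel_mono ((J K R).iCycles (p + 1)), zero_comp]
      simp only [v, Category.assoc, Preadditive.sub_comp, Preadditive.comp_sub, Category.id_comp,
        HomologicalComplex.toCycles_i, HomologicalComplex.toCycles_i_assoc, hh, sub_self]
    let hc := (J K R).homologyIsCokernel p (p + 1) (by simp)
    obtain ⟨s, hs⟩ : ∃ s, (J K R).homologyπ (p + 1) ≫ s = v :=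
      ⟨hc.desc (CokernelCofork.ofπ v hv), hc.fac _ WalkingParallelPair.one⟩
    refine ⟨s, ?_, fun z hz => Or.inr ⟨p, rfl, z ≫ (J K R).iCycles (p + 1) ≫ h, ?_⟩⟩
    · rw [← cancel_epi ((J K R).homologyπ (p + 1)), Category.comp_id, ← Category.assoc, hs]
      simp [v, Preadditive.sub_comp]
    · have h0 : z ≫ v = 0 := by rw [← hs, reassoc_of% hz, zero_comp]
      have := congrArg (· ≫ (J K R).iCycles (p + 1)) h0
      simp only [v, Category.assoc, Preadditive.sub_comp, Preadditive.comp_sub, Category.id_comp,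
        Category.comp_id, zero_comp, HomologicalComplex.toCycles_i] at this
      simp only [Category.assoc]
      exact (sub_eq_zero.mp this).symm

/-- Transposition, with values in `R K`. -/
def Φ [L.Additive] (F : A) (q : ℕ) : (L.obj F ⟶ K.cocomplex.X q) ≃+ (F ⟶ (J K R).X q) :=
  adj.homAddEquiv F (K.cocomplex.X q)

theorem Φ_comp_d [L.Additive] {F : A} {p q : ℕ} (g : L.obj F ⟶ K.cocomplex.X p) :
    Φ adj K F q (g ≫ K.cocomplex.d p q) = Φ adj K F p g ≫ (J K R).d p q :=
  Adjunction.homEquiv_naturality_right adj g _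

theorem Φ_map [L.Additive] {F F' : A} {q : ℕ} (φ : F' ⟶ F) (g : L.obj F ⟶ K.cocomplex.X q) :
    Φ adj K F' q (L.map φ ≫ g) = φ ≫ Φ adj K F q g :=
  Adjunction.homEquiv_naturality_left adj φ g

theorem Φ_symm_comp_d_eq_zero [L.Additive] {F : A} {p q : ℕ} (j : F ⟶ (J K R).X p)
    (h : j ≫ (J K R).d p q = 0) : (Φ adj K F p).symm j ≫ K.cocomplex.d p q = 0 := by
  apply (Φ adj K F q).injective
  rw [Φ_comp_d, AddEquiv.apply_symm_apply, h, map_zero]

set_option synthInstance.maxHeartbeats 200000 in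
set_option maxHeartbeats 1000000 in
include adj hinj in
/-- The universal class. -/
theorem exists_universal [L.Additive] (c : ℕ) (hlow : ∀ q < c, (J K R).ExactAt q) :
    ∃ η : Ext (L.obj ((J K R).homology c)) G c, ∀ F : A, Function.Bijective
      fun φ : F ⟶ (J K R).homology c => (Ext.mk₀ (L.map φ)).comp η (zero_add c) := by
  obtain ⟨s, hs, hsplit⟩ := exists_section K hinj c hlow
  obtain ⟨j, hjdef⟩ : ∃ j, j = s ≫ (J K R).iCycles c := ⟨_, rfl⟩
  have hj : j ≫ (J K R).d c (c + 1) = 0 := by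
    rw [hjdef, Category.assoc, HomologicalComplex.iCycles_d, comp_zero]
  obtain ⟨f, hfdef⟩ : ∃ f, f = (Φ adj K _ c).symm j := ⟨_, rfl⟩
  have hf : f ≫ K.cocomplex.d c (c + 1) = 0 := hfdef ▸ Φ_symm_comp_d_eq_zero adj K j hj
  have key : ∀ {F : A} (φ : F ⟶ (J K R).homology c), Φ adj K F c (L.map φ ≫ f) = φ ≫ j := fun φ => by
    rw [Φ_map, hfdef, AddEquiv.apply_symm_apply]
  refine ⟨K.extMk f (c + 1) rfl hf, fun F => ?_⟩
  constructor
  · intro a b hab
    have ha : ∀ φ : F ⟶ (J K R).homology c, (L.map φ ≫ f) ≫ K.cocomplex.d c (c + 1) = 0 :=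
      fun φ => by rw [Category.assoc, hf, comp_zero]
    have hab' : K.extMk (L.map a ≫ f) (c + 1) rfl (ha a) -
        K.extMk (L.map b ≫ f) (c + 1) rfl (ha b) = 0 := by
      rw [← InjectiveResolution.mk₀_comp_extMk K f (c + 1) rfl hf (L.map a),
        ← InjectiveResolution.mk₀_comp_extMk K f (c + 1) rfl hf (L.map b)]
      exact sub_eq_zero.2 hab
    rw [InjectiveResolution.sub_extMk] at hab'
    rw [← sub_eq_zero, ← Category.comp_id (a - b), ← hs, ← Category.assoc]
    rcases Nat.eq_zero_or_pos c with rfl | hc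
    · have h1 := congrArg (Φ adj K F 0) (SiteCoh.ExtDerived.eq_zero_of_extMk_zero K _ _ hab')
      rw [map_sub, map_zero, key, key, hjdef, ← Preadditive.sub_comp, ← Category.assoc] at h1
      have h2 : (a - b) ≫ s = 0 := by
        rw [← cancel_mono ((J K R).iCycles 0), zero_comp]; exact h1
      rw [h2, zero_comp]
    · obtain ⟨p, rfl⟩ : ∃ p, c = p + 1 := ⟨c - 1, by omega⟩
      obtain ⟨g, hg⟩ := (K.extMk_eq_zero_iff _ _ _ _ p rfl).1 hab'
      have h1 := congrArg (Φ adj K F (p + 1)) hg
      rw [Φ_comp_d, map_sub, key, key, hjdef, ← Preadditive.sub_comp, ← Category.assoc] at h1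
      have h3 : (a - b) ≫ s = Φ adj K F p g ≫ (J K R).toCycles p (p + 1) := by
        rw [← cancel_mono ((J K R).iCycles (p + 1)), Category.assoc (Φ adj K F p g),
          HomologicalComplex.toCycles_i]
        exact h1.symm
      rw [h3, Category.assoc, HomologicalComplex.toCycles_comp_homologyπ, comp_zero]
  · intro x
    obtain ⟨f', hf', rfl⟩ := K.extMk_surjective x (c + 1) rfl
    have hg : Φ adj K F c f' ≫ (J K R).d c (c + 1) = 0 := by
      rw [← Φ_comp_d, hf', map_zero]
    obtain ⟨z, hz⟩ : ∃ z, z ≫ (J K R).iCycles c = Φ adj K F c f' :=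
      ⟨(J K R).liftCycles _ (c + 1) (by simp) hg, HomologicalComplex.liftCycles_i ..⟩
    refine ⟨z ≫ (J K R).homologyπ c, ?_⟩
    dsimp only
    rw [InjectiveResolution.mk₀_comp_extMk]
    have hw : (z - (z ≫ (J K R).homologyπ c) ≫ s) ≫ (J K R).homologyπ c = 0 := by
      rw [Preadditive.sub_comp, Category.assoc, Category.assoc, hs, Category.comp_id, sub_self]
    rcases hsplit _ hw with ⟨-, h0⟩ | ⟨p, hp, g, hg'⟩
    · apply SiteCoh.ExtDerived.extMk_congr K
      apply (Φ adj K F c).injective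
      rw [key, hjdef, ← Category.assoc, ← sub_eq_zero.1 h0, hz]
    · rw [← sub_eq_zero, InjectiveResolution.sub_extMk, K.extMk_eq_zero_iff _ _ _ _ p hp]
      refine ⟨-(Φ adj K F p).symm g, (Φ adj K F c).injective ?_⟩
      rw [Φ_comp_d, map_neg, AddEquiv.apply_symm_apply, Preadditive.neg_comp, hg', map_sub, key,
        Preadditive.sub_comp, hz, hjdef, Category.assoc, Category.assoc, neg_sub]

end Groth.Agent.DualAbs.AdjExt
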