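import Groth.Agent.CohLES.Basic
import Groth.Agent.CohDev.Coh
import Groth.Prelude.Def_KLin
import Mathlib.Algebra.Homology.DerivedCategory.Ext.Linear
import Mathlib.Algebra.Homology.DerivedCategory.Ext.ExactSequences
import Mathlib.LinearAlgebra.Dual.Lemmas

/-!
# Serre duality from a dualizing pair and effaceability

For a locally Noetherian `X` over a field `k`, a pair `(ω, t)` representing `F ↦ H^n(X, F)^∨` on coherent
modules gives `Ext^i(F, ω) ≅ H^{n-i}(X, F)^∨` as soon as every coherent module is a quotient of a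
coherent `E` with `H^q(E) = 0` for `q < n` and `Ext^i(E, ω) = 0` for `i > 0`.
-/

open CategoryTheory CategoryTheory.Limits AlgebraicGeometry CategoryTheory.Abelian

universe u

noncomputable section

namespace Groth.Agent.DualAbs

set_option maxHeartbeats 1000000
set_option synthInstance.maxHeartbeats 400000

section Alg

variable {k : Type*} [Field k] {A B V W X : Type*} [AddCommGroup A] [Module k A] [AddCommGroup B]
  [Module k B] [AddCommGroup V] [Module k V] [AddCommGroup W] [Module k W] [AddCommGroup X]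
  [Module k X]

/-- The cokernel of a transposed map is the dual of the kernel. -/
theorem nonempty_equiv_dual_ker (d : A →ₗ[k] X) (hd : Function.Surjective d) (r : B →ₗ[k] A)
    (hex : LinearMap.ker d = LinearMap.range r) (θA : A ≃ₗ[k] Module.Dual k V)
    (θB : B ≃ₗ[k] Module.Dual k W) (a : V →ₗ[k] W) (hr : ∀ b, θA (r b) = a.dualMap (θB b)) :
    Nonempty (X ≃ₗ[k] Module.Dual k (LinearMap.ker a)) := by
  let Φ : A →ₗ[k] Module.Dual k (LinearMap.ker a) := (LinearMap.ker a).dualRestrict.comp θA.toLinearMap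
  have hΦ : Function.Surjective Φ := Subspace.dualRestrict_surjective.comp θA.surjective
  have hker : LinearMap.ker Φ = LinearMap.ker d := by
    rw [hex]
    ext x
    rw [LinearMap.mem_ker, LinearMap.comp_apply, ← LinearMap.mem_ker,
      Submodule.dualRestrict_ker_eq_dualAnnihilator, ← LinearMap.range_dualMap_eq_dualAnnihilator_ker]
    constructor
    · rintro ⟨y, hy⟩
      refine ⟨θB.symm y, θA.injective ?_⟩
      rw [hr, LinearEquiv.apply_symm_apply, hy]
      rfl
    · rintro ⟨b, rfl⟩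
      exact ⟨θB b, (hr b).symm⟩
  exact ⟨(LinearMap.quotKerEquivOfSurjective d hd).symm ≪≫ₗ Submodule.quotEquivOfEq _ _ hker.symm ≪≫ₗ
    LinearMap.quotKerEquivOfSurjective Φ hΦ⟩

end Alg

variable (k : Type u) [Field k] {X : Scheme.{u}} [X.Over (Spec (CommRingCat.of k))] (n : ℕ)
  (ω : X.Modules) (t : Coh.HH X ω n →ₗ[k] k)

/-- `(ω, t)` represents the dual of `H^n` on coherent modules. -/
def IsDualizing : Prop :=
  ∀ F : X.Modules, Coh.IsCoh F → ∀ ψ : Coh.HH X F n →ₗ[k] k,
    ∃! φ : F ⟶ ω, ∀ x : Coh.HH X F n,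
      ψ x = t (Sheaf.H.map ((SheafOfModules.toSheaf X.ringCatSheaf).map φ) n x)

/-- Every coherent module is a quotient of one with neither low cohomology nor higher `Ext` into `ω`. -/
def HasAcyclicCovers [HasExt.{u} X.Modules] : Prop :=
  ∀ F : X.Modules, Coh.IsCoh F → ∃ (E : X.Modules) (g : E ⟶ F), Epi g ∧ Coh.IsCoh E ∧
    (∀ q < n, Subsingleton (Coh.HH X E q)) ∧ ∀ i, Subsingleton (Ext E ω (i + 1))

/-- The linear form attached to a morphism to `ω`. -/
def pairing (F : X.Modules) : (F ⟶ ω) →ₗ[k] Module.Dual k (Coh.HH X F n) where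
  toFun φ := t.comp (CohLES.mapL k φ n)
  map_add' f g := by rw [CohLES.mapL_add, LinearMap.comp_add]
  map_smul' a φ := by
    refine LinearMap.ext fun x => ?_
    rw [KLin.smul_def, CohLES.mapL_comp, LinearMap.comp_apply, LinearMap.comp_apply,
      RingHom.id_apply, LinearMap.smul_apply]
    show t (CohLES.mapL k φ n (a • x)) = a • t (CohLES.mapL k φ n x)
    rw [map_smul, map_smul]

theorem pairing_comp {F G : X.Modules} (f : F ⟶ G) (φ : G ⟶ ω) :
    pairing k n ω t F (f ≫ φ) = (CohLES.mapL k f n).dualMap (pairing k n ω t G φ) := by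
  show t.comp (CohLES.mapL k (f ≫ φ) n) = _
  rw [CohLES.mapL_comp]
  rfl

variable {k n ω t}

theorem pairing_bijective (h : IsDualizing k n ω t) (F : X.Modules) (hF : Coh.IsCoh F) :
    Function.Bijective (pairing k n ω t F) := by
  refine Function.bijective_iff_existsUnique _ |>.2 fun ψ => ?_
  obtain ⟨φ, hφ, hu⟩ := h F hF ψ
  exact ⟨φ, LinearMap.ext fun x => (hφ x).symm, fun φ' e => hu φ' fun x => (LinearMap.congr_fun e x).symm⟩

variable [HasExt.{u} X.Modules]

/-- Duality in degree zero. -/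
def θ₀ (h : IsDualizing k n ω t) (F : X.Modules) (hF : Coh.IsCoh F) :
    Ext F ω 0 ≃ₗ[k] Module.Dual k (Coh.HH X F n) :=
  Ext.linearEquiv₀.trans (LinearEquiv.ofBijective (pairing k n ω t F) (pairing_bijective h F hF))

theorem θ₀_mk₀ (h : IsDualizing k n ω t) (F : X.Modules) (hF : Coh.IsCoh F) (φ : F ⟶ ω) :
    θ₀ h F hF (Ext.mk₀ φ) = pairing k n ω t F φ := by
  show pairing k n ω t F (Ext.linearEquiv₀ (R := k) (Ext.mk₀ φ)) = _
  congr 1
  exact (Ext.homEquiv₀).apply_symm_apply φ

omit [HasExt.{u} X.Modules] in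
theorem mapL_zero_injective {M N : X.Modules}
    (f : M ⟶ N) [Mono f] : Function.Injective (CohLES.mapL k f 0) := by
  refine (injective_iff_map_eq_zero _).mpr fun x hx => ?_
  obtain ⟨g, rfl⟩ := (Ext.mk₀_bijective _ _).2 x
  have : Mono ((ModShf.toAbFunctor X).map f) := inferInstance
  have h : g ≫ (ModShf.toAbFunctor X).map f = 0 := by
    apply (Ext.mk₀_bijective _ _).1
    rw [← Ext.mk₀_comp_mk₀, Ext.mk₀_zero]
    exact hx
  rw [show g = 0 from (cancel_mono ((ModShf.toAbFunctor X).map f)).mp (h.trans zero_comp.symm),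
    Ext.mk₀_zero]

/-- The duality statement in degree `i`. -/
def DualAt (k : Type u) [Field k] [X.Over (Spec (CommRingCat.of k))] (n : ℕ) (ω : X.Modules) (i : ℕ)
    (F : X.Modules) : Prop :=
  (i ≤ n → Nonempty (Ext F ω i ≃ₗ[k] Module.Dual k (Coh.HH X F (n - i)))) ∧
    (n < i → Subsingleton (Ext F ω i))

section Step

variable {S : ShortComplex X.Modules} (hS : S.ShortExact)
  (hE₁ : ∀ q < n, Subsingleton (Coh.HH X S.X₂ q)) (hE₂ : ∀ i, Subsingleton (Ext S.X₂ ω (i + 1)))

include hS hE₂ in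
theorem extδ_surjective (i j : ℕ) (h : 1 + i = j) :
    Function.Surjective (Ext.precompOfLinear hS.extClass k ω h) := by
  intro x
  obtain rfl : j = i + 1 := by omega
  have := hE₂ i
  exact Ext.contravariant_sequence_exact₃ hS _ x
    (Subsingleton.elim (α := Ext S.X₂ ω (i + 1)) _ _) h

include hS hE₂ in
theorem extδ_bijective (i : ℕ) :
    Function.Bijective (Ext.precompOfLinear hS.extClass k ω (add_comm 1 (i + 1))) := by
  refine ⟨(injective_iff_map_eq_zero _).mpr fun x hx => ?_, extδ_surjective hS hE₂ _ _ _⟩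
  have := hE₂ i
  obtain ⟨y, rfl⟩ := Ext.contravariant_sequence_exact₁ hS _ x (add_comm 1 (i + 1)) hx
  rw [Subsingleton.elim (α := Ext S.X₂ ω (i + 1)) y 0, Ext.comp_zero]

include hS hE₁ in
theorem δL_injective (q q' : ℕ) (h : q + 1 = q') (hq : q < n) :
    Function.Injective (CohLES.δL k hS q q' h) := by
  refine (injective_iff_map_eq_zero _).mpr fun x hx => ?_
  have := hE₁ q hq
  obtain ⟨y, rfl⟩ := CohLES.exact₃ k hS h x hx
  rw [Subsingleton.elim (α := Coh.HH X S.X₂ q) y 0]
  exact map_zero _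

include hS hE₁ in
theorem δL_bijective (q q' : ℕ) (h : q + 1 = q') (hq : q' < n) :
    Function.Bijective (CohLES.δL k hS q q' h) := by
  refine ⟨δL_injective hS hE₁ q q' h (by omega), fun x => ?_⟩
  have := hE₁ q' hq
  exact CohLES.exact₁ k hS h x (Subsingleton.elim _ _)

include hS hE₁ hE₂ in
theorem dualAt_one (h : IsDualizing k n ω t) (hK : Coh.IsCoh S.X₁) (hE : Coh.IsCoh S.X₂) :
    DualAt k n ω 1 S.X₃ := by
  obtain ⟨e⟩ := nonempty_equiv_dual_ker (Ext.precompOfLinear hS.extClass k ω (add_zero 1))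
    (extδ_surjective hS hE₂ 0 1 rfl) (Ext.precompOfLinear (Ext.mk₀ S.f) k ω (zero_add 0)) (by
      ext x
      refine ⟨fun hx => Ext.contravariant_sequence_exact₁ hS _ x rfl hx, ?_⟩
      rintro ⟨y, rfl⟩
      show hS.extClass.comp ((Ext.mk₀ S.f).comp y (zero_add 0)) (show 1 + 0 = 1 from rfl) = 0
      rw [← Ext.comp_assoc hS.extClass (Ext.mk₀ S.f) y (add_zero 1) (zero_add 0) (by omega)]
      exact (congrArg (fun e => Ext.comp e y (add_zero 1)) hS.extClass_comp).trans (Ext.zero_comp ..))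
    (θ₀ h _ hK) (θ₀ h _ hE) (CohLES.mapL k S.f n) fun b => by
      obtain ⟨φ, rfl⟩ := (Ext.mk₀_bijective _ _).2 b
      show θ₀ h _ hK ((Ext.mk₀ S.f).comp (Ext.mk₀ φ) (zero_add 0)) = _
      rw [Ext.mk₀_comp_mk₀, θ₀_mk₀, θ₀_mk₀, pairing_comp]
  refine ⟨fun hn => ?_, fun hn => ?_⟩
  · have hq : n - 1 + 1 = n := by omega
    let e' : Coh.HH X S.X₃ (n - 1) ≃ₗ[k] LinearMap.ker (CohLES.mapL k S.f n) :=
      LinearEquiv.ofBijective ((CohLES.δL k hS (n - 1) n hq).codRestrict _ fun x =>
        CohLES.mapL_δL k hS hq x) ⟨fun x y hxy => δL_injective hS hE₁ (n - 1) n hq (by omega)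
          (congrArg Subtype.val hxy), fun x => by
        obtain ⟨y, hy⟩ := CohLES.exact₁ k hS hq x.1 x.2
        exact ⟨y, Subtype.ext hy⟩⟩
    exact ⟨e ≪≫ₗ e'.dualMap⟩
  · obtain rfl : n = 0 := by omega
    have := hS.mono_f
    have : Subsingleton (LinearMap.ker (CohLES.mapL k S.f 0)) :=
      ⟨fun x y => Subtype.ext (mapL_zero_injective S.f (x.2.trans y.2.symm))⟩
    exact e.toEquiv.subsingleton

include hS hE₁ hE₂ in
theorem dualAt_succ (i : ℕ) (hK : DualAt k n ω (i + 1) S.X₁) : DualAt k n ω (i + 2) S.X₃ := by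
  let e := LinearEquiv.ofBijective _ (extδ_bijective (k := k) hS hE₂ i)
  refine ⟨fun h => ?_, fun h => ?_⟩
  · obtain ⟨e₁⟩ := hK.1 (by omega)
    let e₂ := LinearEquiv.ofBijective _
      (δL_bijective (k := k) hS hE₁ (n - (i + 2)) (n - (i + 1)) (by omega) (by omega))
    exact ⟨e.symm ≪≫ₗ e₁ ≪≫ₗ e₂.dualMap⟩
  · have : Subsingleton (Ext S.X₁ ω (i + 1)) := by
      rcases Nat.lt_or_ge n (i + 1) with hni | hni
      · exact hK.2 hni
      · obtain ⟨e₁⟩ := hK.1 hni
        have : Subsingleton (Coh.HH X S.X₁ (n - (i + 1))) := by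
          rw [show n - (i + 1) = 0 by omega]
          have := hE₁ 0 (by omega)
          have := hS.mono_f
          exact (mapL_zero_injective (k := k) S.f).subsingleton
        exact e₁.toEquiv.subsingleton
    exact e.symm.toEquiv.subsingleton

end Step

theorem dualAt [IsLocallyNoetherian X] (h : IsDualizing k n ω t) (hc : HasAcyclicCovers n ω) :
    ∀ (i : ℕ) (F : X.Modules), Coh.IsCoh F → DualAt k n ω i F := by
  intro i
  induction i with
  | zero => exact fun F hF => ⟨fun _ => ⟨θ₀ h F hF⟩, fun h => absurd h (Nat.not_lt_zero n)⟩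
  | succ i ih =>
    intro F hF
    obtain ⟨E, g, hg, hE, hE₁, hE₂⟩ := hc F hF
    have hS : (ShortComplex.mk (kernel.ι g) g (kernel.condition g)).ShortExact :=
      { exact := ShortComplex.exact_of_f_is_kernel _ (kernelIsKernel g) }
    have hK : Coh.IsCoh (kernel g) := CohDev.isCoh_kernel g hE hF.1
    cases i with
    | zero => exact dualAt_one hS hE₁ hE₂ h hK hE
    | succ i => exact dualAt_succ hS hE₁ hE₂ i (ih (kernel g) hK)

/-- Consequence: vanishing of `Ext` is vanishing of cohomology. -/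
theorem subsingleton_ext_iff [IsLocallyNoetherian X] (h : IsDualizing k n ω t)
    (hc : HasAcyclicCovers n ω) {i : ℕ} (hi : i ≤ n) (F : X.Modules) (hF : Coh.IsCoh F) :
    Subsingleton (Ext F ω i) ↔ Subsingleton (Coh.HH X F (n - i)) := by
  obtain ⟨e⟩ := (dualAt h hc i F hF).1 hi
  exact e.toEquiv.subsingleton_congr.trans (Module.subsingleton_dual_iff k)

end Groth.Agent.DualAbs
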