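import Groth.Agent.ExtFilt.Sheaf
import Groth.Agent.ExtPowSt.Det
import Groth.Agent.SHomIso.Basic
import Groth.Agent.HomShQC.Stalk
import Groth.Agent.HomShEval.QCoh
import Groth.Agent.Props.QProj
import Groth.Agent.VBLib.Curry
import Mathlib.LinearAlgebra.ExteriorPower.Basis
import Mathlib.LinearAlgebra.Dual.Basis

/-!
# The perfect pairing of exterior powers

For a quasi-coherent module with free stalks of rank `i + j`,
`Λ^j E ≅ Hom(Λ^i E, Λ^(i+j) E)`.
-/

set_option autoImplicit false
set_option linter.style.haveILetI false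

universe u

open CategoryTheory CategoryTheory.Limits AlgebraicGeometry TopologicalSpace Opposite TensorProduct

noncomputable section

namespace Groth.Agent.DualAbs.WedgePair

open Groth.Agent.PullStalk.Sky Groth.Agent.PullStalk.Exact Groth.Agent.Omega.Stalks Groth.Agent.QCoh
  Groth.Agent.ExtPowSt Groth.Agent.KFlat.StalkTensor Groth.Agent.ExtFilt.Stalkwise
  Groth.Agent.ExtFilt.Sheaf Groth.Agent.ExtFilt.Alg

section Alg

variable {R : Type u} [CommRing R] {E : Type u} [AddCommGroup E] [Module R E] {i j : ℕ}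

/-- The wedge product `Λ^i E ⊗ Λ^j E → Λ^(i+j) E`. -/
def pairing : (⋀[R]^i E) ⊗[R] (⋀[R]^j E) →ₗ[R] ⋀[R]^(i + j) E :=
  wdg (LinearMap.id) (LinearMap.id)

theorem pairing_ιMulti (a : Fin i → E) (c : Fin j → E) :
    pairing (exteriorPower.ιMulti R i a ⊗ₜ[R] exteriorPower.ιMulti R j c) =
      exteriorPower.ιMulti R (i + j) (Fin.append a c) :=
  wdg_ιMulti LinearMap.id LinearMap.id a c

/-- The wedge pairing of a free module of rank `i + j` is perfect. -/
theorem bijective_pairing (b : Module.Basis (Fin (i + j)) R E) :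
    Function.Bijective (TensorProduct.curry (pairing (R := R) (E := E) (i := i) (j := j))).flip := by
  classical
  rcases subsingleton_or_nontrivial R with h | h
  · haveI := Module.subsingleton R (⋀[R]^j E)
    haveI := Module.subsingleton R (⋀[R]^i E →ₗ[R] ⋀[R]^(i + j) E)
    exact ⟨Function.injective_of_subsingleton _, fun t => ⟨0, Subsingleton.elim _ _⟩⟩
  let d := exteriorPower.alternatingMapLinearEquiv b.det
  have hd : Function.Bijective d := by
    have h : d ∘ LinearMap.toSpanSingleton R _ (exteriorPower.ιMulti R (i + j) b) = id := funext fun s => by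
      rw [Function.comp_apply, LinearMap.toSpanSingleton_apply, map_smul, det_ιMulti, smul_eq_mul, mul_one, id]
    exact ((bijective_smul_ιMulti b).of_comp_iff d).1 (h ▸ Function.bijective_id)
  let D : (⋀[R]^i E →ₗ[R] ⋀[R]^(i + j) E) ≃ₗ[R] Module.Dual R (⋀[R]^i E) :=
    LinearEquiv.congrRight (LinearEquiv.ofBijective d hd)
  let Bi := b.exteriorPower i
  let Bj := b.exteriorPower j
  let idx : ∀ {m : ℕ}, Set.powersetCard (Fin (i + j)) m → Fin m → Fin (i + j) := fun {m} S =>
    Set.powersetCard.ofFinEmbEquiv.symm S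
  let c : Set.powersetCard (Fin (i + j)) j ≃ Set.powersetCard (Fin (i + j)) i :=
    { toFun := fun T => ⟨T.1ᶜ, by
        show T.1ᶜ.card = i
        rw [Finset.card_compl, T.2, Fintype.card_fin, Nat.add_sub_cancel]⟩
      invFun := fun S => ⟨S.1ᶜ, by
        show S.1ᶜ.card = j
        rw [Finset.card_compl, S.2, Fintype.card_fin, Nat.add_sub_cancel_left]⟩
      left_inv := fun T => Subtype.ext (compl_compl T.1)
      right_inv := fun S => Subtype.ext (compl_compl S.1) }
  have hval : ∀ S T, d (pairing (Bi S ⊗ₜ[R] Bj T)) = b.det (b ∘ Fin.append (idx S) (idx T)) := by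
    intro S T
    rw [exteriorPower.basis_apply, exteriorPower.basis_apply, exteriorPower.ιMulti_family,
      exteriorPower.ιMulti_family, pairing_ιMulti, exteriorPower.alternatingMapLinearEquiv_apply_ιMulti]
    congr 1
    funext k
    refine Fin.addCases (fun l => ?_) (fun l => ?_) k <;> simp [idx]
  have hmem : ∀ {m : ℕ} (S : Set.powersetCard (Fin (i + j)) m) (x : Fin (i + j)),
      x ∈ S.1 ↔ x ∈ Set.range (idx S) := fun {m} S x =>
    (Set.powersetCard.mem_range_ofFinEmbEquiv_symm_iff_mem S x).symm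
  have hoff : ∀ S T, S ≠ c T → d (pairing (Bi S ⊗ₜ[R] Bj T)) = 0 := by
    intro S T hne
    rw [hval]
    obtain ⟨x, hxS, hxT⟩ : ∃ x, x ∈ S.1 ∧ x ∈ T.1 := by
      by_contra hcon
      refine hne (Subtype.ext (Finset.eq_of_subset_of_card_le
        (fun x hx => Finset.mem_compl.2 fun hxT => hcon ⟨x, hx, hxT⟩) (le_of_eq ?_)))
      exact (c T).2.trans S.2.symm
    obtain ⟨a, ha⟩ := (hmem S x).1 hxS
    obtain ⟨a', ha'⟩ := (hmem T x).1 hxT
    refine b.det.map_eq_zero_of_eq _ (i := Fin.castAdd j a) (j := Fin.natAdd i a') ?_ ?_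
    · simp [ha, ha']
    · intro h
      have := congrArg Fin.val h
      simp at this
      omega
  have hon : ∀ T, IsUnit (d (pairing (Bi (c T) ⊗ₜ[R] Bj T))) := by
    intro T
    rw [hval]
    have hσ : Function.Injective (Fin.append (idx (c T)) (idx T)) := by
      refine Fin.append_injective_iff.2 ⟨(Set.powersetCard.ofFinEmbEquiv.symm (c T)).injective,
        (Set.powersetCard.ofFinEmbEquiv.symm T).injective, fun a a' h => ?_⟩
      exact (Finset.mem_compl.1 ((hmem (c T) _).2 ⟨a, rfl⟩)) (h ▸ (hmem T _).2 ⟨a', rfl⟩)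
    let e := Equiv.ofBijective _ (Finite.injective_iff_bijective.1 hσ)
    have : (b ∘ Fin.append (idx (c T)) (idx T)) = b.reindex e.symm := by
      funext k
      simp [e]
    rw [this]
    exact b.isUnit_det _
  let B' : Module.Basis (Set.powersetCard (Fin (i + j)) j) R (Module.Dual R (⋀[R]^i E)) :=
    (Bi.dualBasis.reindex c.symm).unitsSMul fun T => (hon T).unit
  let L : ⋀[R]^j E →ₗ[R] Module.Dual R (⋀[R]^i E) :=
    D.toLinearMap ∘ₗ (TensorProduct.curry (pairing (R := R) (E := E) (i := i) (j := j))).flip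
  have hL : L = (Bj.equiv B' (Equiv.refl _)).toLinearMap := Bj.ext fun T => Bi.ext fun S => by
    change d (pairing (Bi S ⊗ₜ[R] Bj T)) = Bj.equiv B' (Equiv.refl _) (Bj T) (Bi S)
    rw [Module.Basis.equiv_apply, Equiv.refl_apply, Module.Basis.unitsSMul_apply, Module.Basis.reindex_apply,
      Equiv.symm_symm, LinearMap.smul_apply, Module.Basis.dualBasis_apply_self, Units.smul_def, IsUnit.unit_spec]
    by_cases hS : S = c T
    · subst hS
      rw [if_pos rfl, smul_eq_mul, mul_one]
    · rw [if_neg hS, smul_zero, hoff S T hS]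
  have hLb : Function.Bijective L := hL ▸ LinearEquiv.bijective _
  exact (D.bijective.of_comp_iff' _).1 hLb

end Alg

variable {X : Scheme.{u}} {i j : ℕ} {E Li Lj L : X.Modules} [E.IsQuasicoherent]
  (Φi : Sys i E Li) (Φj : Sys j E Lj) (Φ : Sys (i + j) E L)

/-- The wedge product on stalks. -/
def φ (x : X) : (tensM Li Lj).presheaf.stalk x →ₗ[X.presheaf.stalk x] L.presheaf.stalk x :=
  (stalkEquiv Φ x).symm.toLinearMap ∘ₗ pairing ∘ₗ
    ((stalkTensorEquiv Li Lj x).trans (TensorProduct.congr (stalkEquiv Φi x) (stalkEquiv Φj x))).toLinearMap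

theorem φ_germ {U : X.Opens} (y : X) (hy : y ∈ U) (a : Γ(Li, U)) (c : Γ(Lj, U)) :
    φ Φi Φj Φ y (germM (tensM Li Lj) U y hy (tmulSec U a c)) = (stalkEquiv Φ y).symm
      (pairing (stalkEquiv Φi y (germM Li U y hy a) ⊗ₜ[X.presheaf.stalk y] stalkEquiv Φj y (germM Lj U y hy c))) := by
  change (stalkEquiv Φ y).symm (pairing (TensorProduct.congr _ _ (toTensor Li Lj y (tgerm Li Lj y U hy a c)))) = _
  rw [toTensor_tgerm, TensorProduct.congr_tmul]

theorem exists_wedge_hom : ∃ h : tensM Li Lj ⟶ L, ∀ x t, stalkLin h x t = φ Φi Φj Φ x t := by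
  let eq : ∀ x : X, (tensM Li Lj).presheaf.stalk x ≃ₗ[X.presheaf.stalk x]
      (⋀[X.presheaf.stalk x]^i (E.presheaf.stalk x)) ⊗[X.presheaf.stalk x]
        (⋀[X.presheaf.stalk x]^j (E.presheaf.stalk x)) := fun x =>
    (stalkTensorEquiv Li Lj x).trans (TensorProduct.congr (stalkEquiv Φi x) (stalkEquiv Φj x))
  have hgen : ∀ x (a : Fin i → E.presheaf.stalk x) (c : Fin j → E.presheaf.stalk x),
      Loc (φ Φi Φj Φ) x ((eq x).symm (exteriorPower.ιMulti _ i a ⊗ₜ exteriorPower.ιMulti _ j c)) := by
    intro x a c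
    obtain ⟨U, hx, -, s, hs⟩ := exists_lifts E x (Fin.append a c) ⊤ trivial
    let m₁ := wsec Φi U fun k => s (Fin.castAdd j k)
    let m₂ := wsec Φj U fun k => s (Fin.natAdd i k)
    refine ⟨U.1, hx, tmulSec U.1 m₁ m₂, wsec Φ U s, (eq x).injective ?_, fun y hy => ?_⟩
    · rw [LinearEquiv.apply_symm_apply]
      change TensorProduct.congr _ _ (toTensor Li Lj x (tgerm Li Lj x U.1 hx m₁ m₂)) = _
      rw [toTensor_tgerm, TensorProduct.congr_tmul, equiv_wedge, equiv_wedge]
      simp only [hs, Fin.append_left, Fin.append_right]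
    · rw [φ_germ]
      refine (LinearEquiv.symm_apply_eq _).2 ?_
      rw [equiv_wedge, equiv_wedge, equiv_wedge, pairing_ιMulti]
      congr 1
      funext k
      refine Fin.addCases (fun l => ?_) (fun l => ?_) k <;> simp
  refine exists_hom fun x t => ?_
  rw [← (eq x).symm_apply_apply t]
  generalize eq x t = z
  induction z using TensorProduct.induction_on with
  | zero => rw [map_zero]; exact loc_zero x
  | add p q hp hq => rw [map_add]; exact loc_add hp hq
  | tmul p q =>
    have hp : p ∈ Submodule.span (X.presheaf.stalk x)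
        (Set.range (exteriorPower.ιMulti (X.presheaf.stalk x) i (M := E.presheaf.stalk x))) := by
      rw [exteriorPower.ιMulti_span]; trivial
    have hq : q ∈ Submodule.span (X.presheaf.stalk x)
        (Set.range (exteriorPower.ιMulti (X.presheaf.stalk x) j (M := E.presheaf.stalk x))) := by
      rw [exteriorPower.ιMulti_span]; trivial
    induction hp using Submodule.span_induction with
    | mem p hp =>
      obtain ⟨a, rfl⟩ := hp
      induction hq using Submodule.span_induction with
      | mem q hq => obtain ⟨c, rfl⟩ := hq; exact hgen x a c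
      | zero => rw [tmul_zero, map_zero]; exact loc_zero x
      | add q q' _ _ hq hq' => rw [tmul_add, map_add]; exact loc_add hq hq'
      | smul c q _ hq => rw [tmul_smul, LinearEquiv.map_smul]; exact loc_smul c hq
    | zero => rw [zero_tmul, map_zero]; exact loc_zero x
    | add p p' _ _ hp hp' => rw [add_tmul, map_add]; exact loc_add hp hp'
    | smul c p _ hp => rw [← smul_tmul', LinearEquiv.map_smul]; exact loc_smul c hp

include Φi Φj Φ in
/-- `Λ^j E ≅ Hom(Λ^i E, Λ^(i+j) E)`. -/
theorem nonempty_iso [DCoh.HasSheafHom Li] (hfp : CohB1.IsFP Li)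
    (hb : ∀ x, Nonempty (Module.Basis (Fin (i + j)) (X.presheaf.stalk x) (E.presheaf.stalk x))) :
    Nonempty (Lj ≅ (DCoh.sheafHom Li).obj L) := by
  obtain ⟨h, hh⟩ := exists_wedge_hom Φi Φj Φ
  let B : ∀ U : X.Opens, Γ(Lj, U) →ₗ[Γ(X, U)] Γ(Li, U) →ₗ[Γ(X, U)] Γ(L, U) := fun U =>
    LinearMap.mk₂ Γ(X, U) (fun m f => h.app U (tmulSec U f m))
      (fun m m' f => (congrArg (h.app U) (tmulSec_add_right U f m m')).trans (map_add (h.app U).hom _ _))
      (fun r m f => (congrArg (h.app U) (tmulSec_smul_right U r f m)).trans (h.app_smul r _))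
      (fun m f f' => (congrArg (h.app U) (tmulSec_add_left U f f' m)).trans (map_add (h.app U).hom _ _))
      (fun r m f => (congrArg (h.app U) (tmulSec_smul_left U r f m)).trans (h.app_smul r _))
  have hB : ∀ (U V : X.Opens) (hVU : V ≤ U) (m : Γ(Lj, U)) (m' : Γ(Li, U)),
      res L hVU (B U m m') = B V (res Lj hVU m) (res Li hVU m') := by
    intro U V hVU m m'
    refine (NatTrans.naturality_apply h.mapPresheaf (homOfLE hVU).op (tmulSec U m' m)).symm.trans ?_
    exact congrArg (h.app V) (tmulSec_res (homOfLE hVU) m' m)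
  let β : Lj ⟶ RefHull.homSh Li L := VBLib.Curry.hom B hB
  have hβ : ∀ y t v, RefHull.evalStalk Li L y (stalkLin β y t) v = (stalkEquiv Φ y).symm
      (pairing (stalkEquiv Φi y v ⊗ₜ[X.presheaf.stalk y] stalkEquiv Φj y t)) := by
    intro y t v
    obtain ⟨U, hU, m, rfl⟩ := exists_germM_eq Lj y t
    obtain ⟨W, hW, f, rfl⟩ := exists_germM_eq Li y v
    have hyWU : y ∈ W ⊓ U := ⟨hW, hU⟩
    let f' : Γ(Li, W ⊓ U) := res Li inf_le_left f
    let m' : Γ(Lj, W ⊓ U) := res Lj inf_le_right m
    rw [← germM_res' Li (inf_le_left : W ⊓ U ≤ W) y hyWU f, stalkLin_germ]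
    refine (LinearMap.congr_fun (RefHull.evalStalk_germ Li L y hU (β.app U m)) _).trans ?_
    refine (VBLib.Curry.hom_germ B hB m ⟨y, hU⟩ (W ⊓ U) inf_le_right hyWU f').trans ?_
    refine ((stalkLin_germ h (W ⊓ U) y hyWU (tmulSec (W ⊓ U) f' m')).symm.trans (hh y _)).trans ?_
    rw [φ_germ]
    congr 4
    exact germM_res' Lj inf_le_right y hyWU m
  haveI : IsIso β := isIso_of_stalk fun y => by
    let ev := LinearEquiv.ofBijective _ (HomShQC.evalStalk_bijective Li L hfp y)
    let P := LinearEquiv.ofBijective _ (bijective_pairing (i := i) (j := j) (hb y).some)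
    let T := (stalkEquiv Φj y).trans (P.trans
      ((stalkEquiv Φi y).symm.arrowCongr (stalkEquiv Φ y).symm))
    have : (fun t => ev (stalkLin β y t)) = T := funext fun t => LinearMap.ext fun v => by
      refine (hβ y t v).trans ?_
      simp [T, P]
    have h2 : Function.Bijective (ev ∘ stalkLin β y) := by
      rw [show ⇑ev ∘ ⇑(stalkLin β y) = _ from this]
      exact T.bijective
    exact (ev.bijective.of_comp_iff' _).1 h2
  obtain ⟨e⟩ := SHomIso.Basic.nonempty_iso Li L
  exact ⟨asIso β ≪≫ e.symm⟩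

include Φi in
/-- Exterior powers of locally free modules are locally free. -/
theorem isFinLocFree [IsLocallyNoetherian X] (hE : Coh.IsCoh E) {m : ℕ}
    (hb : ∀ x, Nonempty (Module.Basis (Fin m) (X.presheaf.stalk x) (E.presheaf.stalk x))) :
    FlatMod.IsFinLocFree Li := by
  have hc := ExtPowSt.isCoh Φi hE
  haveI := hc.1
  have hfp := HomShEval.QCoh.isFP_of_isCoh _ hc
  refine Props.QProj.isFinLocFree_of _ (fun x => ?_) fun x => ?_
  · obtain ⟨U, hU, hxU, -⟩ :=
      exists_isAffineOpen_mem_and_subset (X := X) (x := x) (U := ⊤) trivial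
    exact ⟨U, hU, hxU, (Props.QFP.isFP_iff Li).mp hfp U hU⟩
  · haveI := Module.Free.of_basis (hb x).some
    exact Module.Free.of_equiv (stalkEquiv Φi x).symm

end Groth.Agent.DualAbs.WedgePair
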