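import Groth.Agent.DualAbs.Depth
import Groth.Agent.SerrePn.Lau
import Groth.Agent.ProjTwist.Pn.GlobGen
import Groth.Agent.EulerChar.Rank
import Groth.Agent.Omega.Stalks
import Groth.Agent.KFlat.LocFree

/-!
# Horrocks' splitting criterion on `P^N`
-/

universe u

open CategoryTheory CategoryTheory.Limits CategoryTheory.Abelian AlgebraicGeometry
open Groth.Agent.ProjTwist Groth.Agent.ProjTwist.Pn Groth.Agent.PullStalk.Exact
open Groth.Agent.Props.GenLocus

noncomputable section

namespace Groth.Agent.DualAbs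

set_option maxHeartbeats 1000000
set_option synthInstance.maxHeartbeats 400000

section Endo

open SerrePn

variable {n : ℕ} {R : Type u} [CommRing R] {a b c : ℤ}

theorem mult_comp (φ : Twist.twistProjSpace n R a ⟶ Twist.twistProjSpace n R b)
    (ψ : Twist.twistProjSpace n R b ⟶ Twist.twistProjSpace n R c) :
    mult (φ ≫ ψ) = mult ψ * mult φ := by
  show AddMonoidAlgebra.single _ 1 *
    secLau c _ (onSect ψ (onSect φ (gen a (Finset.mem_singleton_self 0)))) = _
  rw [secLau_onSect ψ, show mult φ = AddMonoidAlgebra.single _ 1 * secLau b _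
    (onSect φ (gen a (Finset.mem_singleton_self 0))) from rfl]
  ring

theorem mult_id : mult (𝟙 (Twist.twistProjSpace n R a)) = 1 := by
  show AddMonoidAlgebra.single _ 1 * secLau a _ (gen a (Finset.mem_singleton_self 0)) = _
  rw [secLau_gen, mul_comm]
  exact single_unit_mul _

/-- A nonzero endomorphism of `O(a)` over a field is invertible. -/
theorem isIso_endo {k : Type u} [Field k] (φ : Twist.twistProjSpace n k a ⟶ Twist.twistProjSpace n k a)
    (h : φ ≠ 0) : IsIso φ := by
  obtain ⟨p, hp, rfl⟩ := exists_mulHom_eq φ (e := 0) (by simp)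
  obtain ⟨c, rfl⟩ : ∃ c, MvPolynomial.C c = p :=
    ⟨_, (MvPolynomial.totalDegree_eq_zero_iff_eq_C.mp
      (Nat.le_zero.mp (((MvPolynomial.mem_homogeneousSubmodule 0 p).mp hp).totalDegree_le))).symm⟩
  have hc : c ≠ 0 := by
    rintro rfl
    refine h ((eq_of_mult_eq (ψ := mulHom a a hp (by simp) ≫ 0) ?_).trans comp_zero)
    rw [mult_comp, mult_mulHom, map_zero, map_zero, mul_zero]
  have hq : MvPolynomial.C c⁻¹ ∈ CohB1.polyGrading n k 0 :=
    (MvPolynomial.mem_homogeneousSubmodule 0 _).mpr (MvPolynomial.isHomogeneous_C _ _)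
  refine ⟨mulHom a a hq (by simp), eq_of_mult_eq ?_, eq_of_mult_eq ?_⟩
  · rw [mult_comp, mult_id, mult_mulHom, mult_mulHom, ← map_mul, ← map_mul, inv_mul_cancel₀ hc]
    simp
  · rw [mult_comp, mult_id, mult_mulHom, mult_mulHom, ← map_mul, ← map_mul, mul_inv_cancel₀ hc]
    simp

end Endo

variable {N : ℕ} {k : Type u} [Field k]

/-- No middle cohomology in any twist, and no `H^0` in very negative twists. -/
structure MidVanish (F : (CohB1.ProjSpace N k).Modules) : Prop where
  neg : ∃ n₀ : ℤ, ∀ n : ℤ, n ≤ n₀ → Subsingleton (Coh.HH (CohB1.ProjSpace N k) (twF F n) 0)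
  mid : ∀ (n : ℤ) (i : ℕ), 1 ≤ i → i < N →
    Subsingleton (Coh.HH (CohB1.ProjSpace N k) (twF F n) i)

theorem MidVanish.negVanish {F : (CohB1.ProjSpace N k).Modules} (h : MidVanish F) :
    NegVanish N k F 0 := by
  obtain ⟨n₀, hn₀⟩ := h.neg
  refine ⟨-n₀, fun m hm j hj => ?_⟩
  cases j with
  | zero => exact hn₀ _ (by omega)
  | succ j => exact h.mid _ _ (by omega) (by omega)

theorem subsingleton_retract {A B : (CohB1.ProjSpace N k).Modules} (i : A ⟶ B) (p : B ⟶ A)
    (hip : i ≫ p = 𝟙 A) (n : ℤ) (j : ℕ) (h : Subsingleton (Coh.HH (CohB1.ProjSpace N k) (twF B n) j)) :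
    Subsingleton (Coh.HH (CohB1.ProjSpace N k) (twF A n) j) := by
  have e : (CohLES.mapL k ((twFun N k n).map p) j).comp (CohLES.mapL k ((twFun N k n).map i) j) =
      LinearMap.id := by
    rw [← CohLES.mapL_comp, ← Functor.map_comp, hip, CategoryTheory.Functor.map_id, CohLES.mapL_id]
  exact @Function.Injective.subsingleton _ _ _ (Function.LeftInverse.injective
    (g := CohLES.mapL k ((twFun N k n).map p) j) (fun x => LinearMap.congr_fun e x)) h

theorem MidVanish.retract {A B : (CohB1.ProjSpace N k).Modules} (h : MidVanish B) (i : A ⟶ B) (p : B ⟶ A)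
    (hip : i ≫ p = 𝟙 A) : MidVanish A :=
  ⟨h.neg.imp fun _ h' n hn => subsingleton_retract i p hip n 0 (h' n hn),
    fun n j h1 h2 => subsingleton_retract i p hip n j (h.mid n j h1 h2)⟩

/-- A morphism out of a globally generated module which kills all global sections is zero. -/
theorem exists_app_ne_zero {X : Scheme.{u}} {F L : X.Modules} (hg : ∀ y, globSpan F y = ⊤)
    {φ : F ⟶ L} (hφ : φ ≠ 0) : ∃ σ : Γ(F, ⊤), φ.app ⊤ σ ≠ 0 := by
  by_contra h
  push Not at h
  refine hφ (Omega.Stalks.hom_ext_stalk fun y => LinearMap.ext_on_range (hg y) fun σ => ?_)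
  rw [Omega.Stalks.stalkLin_zero]
  exact (stalkLin_germ φ _ _ _ σ).trans ((congrArg _ (h σ)).trans (map_zero _))

/-- A nonzero module without middle cohomology has a twist of `O` as a direct summand. -/
theorem exists_summand (hN : 1 ≤ N) {F : (CohB1.ProjSpace N k).Modules} (hF : Coh.IsCoh F)
    (hv : MidVanish F) (h0 : ¬ IsZero F) :
    ∃ (a : ℤ) (G : (CohB1.ProjSpace N k).Modules),
      Coh.IsCoh G ∧ Nonempty (F ≅ G ⊞ Twist.twistProjSpace N k a) := by
  have := SerrePn.isLocallyNoetherian (n := N) (R := k)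
  have := compactSpace (N := N) (k := k)
  have : HasExt.{u} (CohB1.ProjSpace N k).Modules := ModShf.schemeModulesHasExt _
  obtain ⟨d₀, hd₀⟩ := serre_vanishing F hF
  have hne : ∃ n : ℤ, ¬ Subsingleton (Coh.HH (CohB1.ProjSpace N k) (twF F n) N) := by
    by_contra h
    push Not at h
    obtain ⟨m₀, hm₀⟩ := hv.negVanish
    refine h0 (isZero_of_closed_stalks hF fun y _ => isZero_of_vanish_all hF ⟨m₀, fun m hm j hj => ?_⟩ y)
    rcases Nat.lt_or_ge j N with hj' | hj'
    · exact hm₀ m hm j hj'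
    · obtain rfl : j = N := by omega
      exact h _
  obtain ⟨n, hn, hmax⟩ := Int.exists_greatest_of_bdd
    (P := fun n => ¬ Subsingleton (Coh.HH (CohB1.ProjSpace N k) (twF F n) N))
    ⟨d₀, fun z hz => le_of_not_gt fun hlt => hz (hd₀ z (by omega) N (by omega))⟩ hne
  let F' := twF F (n + N + 1)
  have hF' : Coh.IsCoh F' := isCoh_tw hF _
  have hreg : Curv2.IsMRegular k N F' 0 := fun i h1 h2 => by
    show Subsingleton (Coh.HH _ (twF F' (0 - (i : ℤ))) i)
    refine subsingleton_HH_iso (twTw F _ _ (n + N + 1 - i) (by omega)).symm ?_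
    rcases Nat.lt_or_ge i N with hi | hi
    · exact hv.mid _ _ h1 hi
    · obtain rfl : i = N := by omega
      by_contra hns
      have := hmax _ hns
      omega
  have hg : ∀ y, globSpan F' y = ⊤ := fun y =>
    globSpan_eq_top_of_epi (twZero F').hom y (globSpan_of_isMRegular hF' hreg y)
  obtain ⟨φ, hφ⟩ : ∃ φ : F' ⟶ Twist.twistProjSpace N k 0, φ ≠ 0 := by
    by_contra h
    push Not at h
    obtain ⟨e⟩ := (SerrePn.dualAt 0 _ (isCoh_tw hF n)).1 (Nat.zero_le N)
    have hE : Subsingleton (Ext (twF F n) (SerrePn.omega N k) 0) := by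
      refine subsingleton_ext_shift ((N : ℤ) + 1) (subsingleton_ext_of_iso
        (twTw F n _ (n + N + 1) (by ring)).symm
        ((nonempty_twistProjSpace_tensor N k _ _).some ≪≫ eqToIso (congrArg (Twist.twistProjSpace N k)
          (neg_add_cancel ((N : ℤ) + 1)))).symm ?_)
      exact subsingleton_of_forall_eq 0 fun x => by
        obtain ⟨ψ, rfl⟩ := (Ext.mk₀_bijective _ _).2 x
        rw [h ψ, Ext.mk₀_zero]
    exact hn ((Module.subsingleton_dual_iff k).mp (e.toEquiv.subsingleton_congr.mp hE))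
  obtain ⟨σ, hσ⟩ := exists_app_ne_zero hg hφ
  let s : Twist.twistProjSpace N k 0 ⟶ F' :=
    (twistZeroIso (CohB1.polyGrading N k)).inv ≫ homOfSec σ
  have hs : s ≫ φ ≠ 0 := fun h => hσ (by
    have h2 : homOfSec σ ≫ φ = 0 := (cancel_epi (twistZeroIso (CohB1.polyGrading N k)).inv).mp
      ((Category.assoc _ _ _).symm.trans (h.trans comp_zero.symm))
    have e : sec (homOfSec σ ≫ φ) ⊤ = φ.app ⊤ σ := by
      show φ.app ⊤ (sec (homOfSec σ) ⊤) = _
      rw [sec_homOfSec, QCoh.res_self]
    rw [← e, h2]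
    rfl)
  have := isIso_endo _ hs
  have hφ' : Epi φ := epi_of_epi_fac (show (s ≫ φ) = s ≫ φ from rfl)
  let S := ShortComplex.mk (kernel.ι φ) φ (kernel.condition φ)
  have hS : S.Exact := ShortComplex.exact_of_f_is_kernel _ (kernelIsKernel φ)
  let sp : S.Splitting := ShortComplex.Splitting.ofExactOfSection S hS (inv (s ≫ φ) ≫ s)
    ((Category.assoc _ _ _).trans (IsIso.inv_hom_id (s ≫ φ))) (inferInstanceAs (Mono (kernel.ι φ)))
  have : (twFun N k (-(n + N + 1))).Additive := Functor.additive_of_preserves_binary_products _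
  refine ⟨-(n + N + 1), twF (kernel φ) (-(n + N + 1)),
    isCoh_tw (CohDev.isCoh_kernel φ hF' (SerrePn.isCoh_twist 0).1) _, ⟨?_⟩⟩
  exact (twZero F).symm ≪≫ (twTw F _ _ 0 (add_neg_cancel _)).symm ≪≫
    (sp.map (twFun N k (-(n + N + 1)))).isoBinaryBiproduct ≪≫
    biprod.mapIso (Iso.refl _) ((nonempty_twistProjSpace_tensor N k 0 _).some ≪≫
      eqToIso (congrArg (Twist.twistProjSpace N k) (zero_add _)))

theorem finite_stalk_of_isFinLocFree {F : (CohB1.ProjSpace N k).Modules} (hF : FlatMod.IsFinLocFree F)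
    (y : CohB1.ProjSpace N k) :
    Module.Free ((CohB1.ProjSpace N k).presheaf.stalk y) (F.presheaf.stalk y) ∧
      Module.Finite ((CohB1.ProjSpace N k).presheaf.stalk y) (F.presheaf.stalk y) :=
  have := SerrePn.isLocallyNoetherian (n := N) (R := k)
  have := (PerfTri.Bounded.isCoh_of_isFinLocFree hF).1
  Props.QProj.free_stalk F hF y

/-- Ranks of direct sums. -/
theorem finrank_biprod {F G L : (CohB1.ProjSpace N k).Modules} (e : F ≅ G ⊞ L)
    (hG : FlatMod.IsFinLocFree G) (hL : FlatMod.IsFinLocFree L) (y : CohB1.ProjSpace N k) :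
    Module.finrank ((CohB1.ProjSpace N k).presheaf.stalk y) (F.presheaf.stalk y) =
      Module.finrank ((CohB1.ProjSpace N k).presheaf.stalk y) (G.presheaf.stalk y) +
        Module.finrank ((CohB1.ProjSpace N k).presheaf.stalk y) (L.presheaf.stalk y) := by
  have := (finite_stalk_of_isFinLocFree hG y).1
  have := (finite_stalk_of_isFinLocFree hG y).2
  have := (finite_stalk_of_isFinLocFree hL y).1
  have := (finite_stalk_of_isFinLocFree hL y).2
  let T := DerSch.stalkFunctor (CohB1.ProjSpace N k) y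
  have : PreservesBinaryBiproducts T := preservesBinaryBiproducts_of_preservesBiproducts T
  have e' := (T.mapIso e ≪≫ T.mapBiprod G L ≪≫ ModuleCat.biprodIsoProd _ _).toLinearEquiv
  exact e'.finrank_eq.trans (@Module.finrank_prod ((CohB1.ProjSpace N k).presheaf.stalk y)
    (G.presheaf.stalk y) (L.presheaf.stalk y) _ _ _ _ _ _ _ _ _ _)

theorem finrank_twist (a : ℤ) (y : CohB1.ProjSpace N k) :
    Module.finrank ((CohB1.ProjSpace N k).presheaf.stalk y)
      ((Twist.twistProjSpace N k a).presheaf.stalk y) = 1 := by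
  obtain ⟨e⟩ := EulerChar.stalk_ofRank
    (isFinLocFreeOfRank_one (isInvertible_twistProjSpace N k a)) y
  exact e.finrank_eq.symm.trans (Module.finrank_fin_fun _)

theorem finrank_isZero {F : (CohB1.ProjSpace N k).Modules} (h : IsZero F) (y : CohB1.ProjSpace N k) :
    Module.finrank ((CohB1.ProjSpace N k).presheaf.stalk y) (F.presheaf.stalk y) = 0 :=
  have : Subsingleton (F.presheaf.stalk y) :=
    ModuleCat.subsingleton_of_isZero ((DerSch.stalkFunctor (CohB1.ProjSpace N k) y).map_isZero h)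
  Module.finrank_zero_of_subsingleton

theorem isFinLocFree_twist (a : ℤ) : FlatMod.IsFinLocFree (Twist.twistProjSpace N k a) :=
  fun x => by
    obtain ⟨U, hx, e⟩ := isFinLocFreeOfRank_one (isInvertible_twistProjSpace N k a) x
    exact ⟨U, 1, hx, e⟩

/-- Splitting off the first summand of a finite coproduct. -/
def biprodSuccIso {C : Type*} [Category C] [Preadditive C] [HasFiniteCoproducts C]
    [HasBinaryBiproducts C] {r : ℕ} (f : Fin (r + 1) → C) :
    (∐ fun j : Fin r => f j.succ) ⊞ f 0 ≅ ∐ f where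
  hom := biprod.desc (Sigma.desc fun j => Sigma.ι f j.succ) (Sigma.ι f 0)
  inv := Sigma.desc (Fin.cases (motive := fun i => f i ⟶ _) biprod.inr fun j =>
    Sigma.ι (fun j : Fin r => f j.succ) j ≫ biprod.inl)
  hom_inv_id := by
    refine biprod.hom_ext' _ _ (Sigma.hom_ext _ _ fun j => ?_) ?_ <;> simp
  inv_hom_id := Sigma.hom_ext _ _ fun j => by
    refine Fin.cases ?_ (fun i => ?_) j <;> simp

/-- Horrocks: no middle cohomology implies split. -/
theorem exists_split (hN : 1 ≤ N) (y : CohB1.ProjSpace N k) :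
    ∀ (r : ℕ) (F : (CohB1.ProjSpace N k).Modules), Coh.IsCoh F → MidVanish F →
      Module.finrank ((CohB1.ProjSpace N k).presheaf.stalk y) (F.presheaf.stalk y) = r →
      ∃ a : Fin r → ℤ, Nonempty (F ≅ ∐ fun j => Twist.twistProjSpace N k (a j)) := by
  intro r
  induction r with
  | zero =>
    intro F hF hv hr
    refine ⟨Fin.elim0, ⟨(?_ : IsZero F).iso ((IsZero.iff_id_eq_zero _).mpr (Sigma.hom_ext _ _ fun j => j.elim0))⟩⟩
    by_contra h0
    obtain ⟨a, G, hG, ⟨e⟩⟩ := exists_summand hN hF hv h0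
    have hvG : MidVanish G := hv.retract (biprod.inl ≫ e.inv) (e.hom ≫ biprod.fst) (by simp)
    have := finrank_biprod e (isFinLocFree_of_vanish hG hvG.negVanish) (isFinLocFree_twist a) y
    rw [finrank_twist, hr] at this
    omega
  | succ r ih =>
    intro F hF hv hr
    have h0 : ¬ IsZero F := fun h => by
      rw [finrank_isZero h] at hr
      omega
    obtain ⟨a, G, hG, ⟨e⟩⟩ := exists_summand hN hF hv h0
    have hvG : MidVanish G := hv.retract (biprod.inl ≫ e.inv) (e.hom ≫ biprod.fst) (by simp)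
    have := finrank_biprod e (isFinLocFree_of_vanish hG hvG.negVanish) (isFinLocFree_twist a) y
    rw [finrank_twist, hr] at this
    obtain ⟨b, ⟨eG⟩⟩ := ih G hG hvG (by omega)
    refine ⟨Fin.cons a b, ⟨e ≪≫ biprod.mapIso eG (Iso.refl _) ≪≫ ?_⟩⟩
    exact biprodSuccIso (fun j => Twist.twistProjSpace N k ((Fin.cons a b : Fin (r + 1) → ℤ) j))

theorem subsingleton_HH_coprod {r : ℕ} (a : Fin r → ℤ) (n : ℤ) (i : ℕ)
    (h : ∀ j, Subsingleton (Coh.HH (CohB1.ProjSpace N k) (Twist.twistProjSpace N k (a j + n)) i)) :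
    Subsingleton (Coh.HH (CohB1.ProjSpace N k)
      (twF (∐ fun j => Twist.twistProjSpace N k (a j)) n) i) := by
  let e : (∐ fun j => Twist.twistProjSpace N k (a j)) ≅
      ∐ fun j : ULift.{u} (Fin r) => Twist.twistProjSpace N k (a j.down) :=
    Sigma.whiskerEquiv Equiv.ulift.symm fun j => Iso.refl (Twist.twistProjSpace N k (a j))
  refine subsingleton_HH_iso (twCongr e n ≪≫ twSigma _ n).symm
    (CohLES.subsingleton_coprod k _ i fun j => ?_)
  exact subsingleton_HH_iso (nonempty_twistProjSpace_tensor N k _ _).some.symm (h j.down)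

/-- Sums of twists have no middle cohomology. -/
theorem midVanish_of_split (hN : 1 ≤ N) {F : (CohB1.ProjSpace N k).Modules} {r : ℕ} (a : Fin r → ℤ)
    (e : F ≅ ∐ fun j => Twist.twistProjSpace N k (a j)) : MidVanish F := by
  obtain ⟨D, hD⟩ := (Set.finite_range a).bddAbove
  refine ⟨⟨-D - 1, fun n hn => ?_⟩, fun n i h1 h2 => ?_⟩
  · refine subsingleton_HH_iso (twCongr e n).symm (subsingleton_HH_coprod a n 0 fun j => ?_)
    have := hD ⟨j, rfl⟩
    exact subsingleton_H0 hN (by omega)
  · refine subsingleton_HH_iso (twCongr e n).symm (subsingleton_HH_coprod a n i fun j => ?_)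
    obtain ⟨i, rfl⟩ : ∃ q, i = q + 1 := ⟨i - 1, by omega⟩
    exact subsingleton_twist _ i (Or.inl (by omega))

/-- Locally free modules have no cohomology below `N` in very negative twists. -/
theorem negVanish_of_isFinLocFree {F : (CohB1.ProjSpace N k).Modules} (hF : Coh.IsCoh F)
    (h : FlatMod.IsFinLocFree F) : NegVanish N k F 0 :=
  (negVanish_iff 0 F hF).mpr fun y _ => by
    have := (finite_stalk_of_isFinLocFree h y).1
    exact RegLoc.PD.pd_of_projective (R := (CohB1.ProjSpace N k).presheaf.stalk y) (F.presheaf.stalk y) 0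

end Groth.Agent.DualAbs

namespace Groth.Agent.DualAbs

/-- `P^0` is one point. -/
theorem subsingleton_projSpace_zero (k : Type u) [Field k] : Subsingleton (CohB1.ProjSpace 0 k) := by
  have := S18573.irreducibleSpace_projSpace 0 k
  have hd : Order.krullDim (TopologicalSpace.IrreducibleCloseds (CohB1.ProjSpace 0 k)) ≤ 0 :=
    le_of_eq (S10829.result k 0)
  let univC : TopologicalSpace.IrreducibleCloseds (CohB1.ProjSpace 0 k) :=
    ⟨Set.univ, IrreducibleSpace.isIrreducible_univ _, isClosed_univ⟩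
  have key : ∀ x : CohB1.ProjSpace 0 k, closure ({x} : Set _) = Set.univ := fun x =>
    let c : TopologicalSpace.IrreducibleCloseds (CohB1.ProjSpace 0 k) :=
      ⟨closure {x}, isIrreducible_singleton.closure, isClosed_closure⟩
    Set.univ_subset_iff.mp
      (Order.krullDim_nonpos_iff_forall_isMax.mp hd c (show c ≤ univC from fun z _ => trivial))
  exact ⟨fun x y => Inseparable.eq (inseparable_iff_closure_eq.mpr ((key x).trans (key y).symm))⟩

/-- On `P^0` every vector bundle is trivial. -/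
theorem nonempty_split_zero {k : Type u} [Field k] {r : ℕ} {E : (CohB1.ProjSpace 0 k).Modules}
    (hE : FlatMod.IsFinLocFreeOfRank r E) :
    Nonempty (E ≅ ∐ fun _ : Fin r => Twist.twistProjSpace 0 k (0 : ℤ)) := by
  have := subsingleton_projSpace_zero k
  obtain ⟨y⟩ : Nonempty (CohB1.ProjSpace 0 k) := by
    have := S18573.irreducibleSpace_projSpace 0 k
    infer_instance
  obtain ⟨U, hy, ⟨φ⟩⟩ := hE y
  obtain ⟨e, he⟩ := VBLib.exists_isFrame_of_iso φ
  have hU : (⊤ : (CohB1.ProjSpace 0 k).Opens) ≤ U := fun x _ => Subsingleton.elim y x ▸ hy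
  let Φ : (∐ fun _ : Fin r => Coh.structureModule (CohB1.ProjSpace 0 k)) ⟶ E :=
    Sigma.desc fun j => homOfSec (QCoh.res E hU (e j))
  have : IsIso Φ := Omega.Stalks.isIso_of_stalk fun x => by
    obtain ⟨g⟩ := EulerChar.stalk_ofRank
      (M := ∐ fun _ : Fin r => Coh.structureModule (CohB1.ProjSpace 0 k)) (n := r)
      (fun _ => ⟨⊤, trivial, ⟨(Scheme.Modules.restrictFunctorIsoPullback _).app _ ≪≫
        KFlat.LocFree.pullFreeIso _ r⟩⟩) x
    obtain ⟨g'⟩ := EulerChar.stalk_ofRank hE x
    have := Module.Finite.equiv g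
    have := Module.Free.of_equiv g
    have := Module.Finite.equiv g'
    have hs : Function.Surjective (stalkLin Φ x) := by
      have hx : x ∈ U := hU trivial
      refine LinearMap.range_eq_top.mp (top_le_iff.mp fun t _ => ?_)
      obtain ⟨c, rfl⟩ := (he.stalkComb_bijective x hx).2 t
      rw [LFFrame.stalkComb, Fintype.linearCombination_apply]
      refine Submodule.sum_mem _ fun j _ => Submodule.smul_mem _ _
        ⟨stalkLin (Sigma.ι (fun _ : Fin r => Coh.structureModule (CohB1.ProjSpace 0 k)) j) x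
          (PullStalk.Sky.germM _ ⊤ x trivial (one' ⊤)), ?_⟩
      rw [← Omega.Stalks.stalkLin_comp, Sigma.ι_desc, stalkLin_germ]
      refine (congrArg _ ((sec_homOfSec _ ⊤).trans (QCoh.res_self _ _ _))).trans ?_
      exact E.presheaf.germ_res_apply (homOfLE hU) x trivial (e j)
    let L := g'.symm.toLinearMap ∘ₗ stalkLin Φ x ∘ₗ g.toLinearMap
    have hL : Function.Injective L := OrzechProperty.injective_of_surjective_endomorphism L
      (g'.symm.surjective.comp (hs.comp g.surjective))
    refine ⟨fun a b hab => ?_, hs⟩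
    obtain ⟨a, rfl⟩ := g.surjective a
    obtain ⟨b, rfl⟩ := g.surjective b
    exact congrArg g (hL (congrArg g'.symm hab))
  exact ⟨(asIso Φ).symm ≪≫ Limits.Sigma.mapIso fun _ => twistZeroIso (CohB1.polyGrading 0 k)⟩

end Groth.Agent.DualAbs
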