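import Groth.Agent.DualAbs.SmoothImm
import Groth.Agent.EulerSeq.Iso
import Groth.Agent.CohOps.PnSmooth
import Groth.Agent.ProjTwist.Pn.Finite
import Groth.Agent.ProjTwist.Tensor
import Groth.Agent.S3203
import Groth.Agent.Omega.ProdDiff

/-!
# Top differentials of projective space

`P^n_A → Spec A` is smooth of relative dimension `n` and `Λ^n Ω ≅ O(-n-1)`.
-/

set_option autoImplicit false
set_option linter.style.haveILetI false
set_option maxHeartbeats 800000

universe u

open CategoryTheory CategoryTheory.Limits AlgebraicGeometry MvPolynomial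

noncomputable section

namespace Groth.Agent.DualAbs.PnTop

open Groth.Agent.PullStalk.Sky Groth.Agent.PullStalk.Exact Groth.Agent.Omega.Stalks Groth.Agent.CohOps.PnSmooth
open Twist Groth.Agent.ProjTwist Groth.Agent.ProjTwist.Pn
open Groth.Agent.Omega.ProdDiff (stalkLin_id)

section Smooth

variable (n : ℕ) (A : Type u) [CommRing A]

theorem isStandardSmooth_mvPolynomial :
    Algebra.IsStandardSmoothOfRelativeDimension n A (MvPolynomial (Fin n) A) := by
  let v : Fin 0 → MvPolynomial (Fin n) A := Fin.elim0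
  let P₀ : Algebra.PreSubmersivePresentation A (MvPolynomial (Fin n) A ⧸ Ideal.span (Set.range v)) (Fin n) (Fin 0) :=
    Algebra.PreSubmersivePresentation.naive Fin.elim0 (fun i => i.elim0)
  have hj : IsUnit P₀.jacobian := by
    classical
    rw [Algebra.PreSubmersivePresentation.jacobian_eq_jacobiMatrix_det, Matrix.det_fin_zero, map_one]
    exact isUnit_one
  let P : Algebra.SubmersivePresentation A (MvPolynomial (Fin n) A ⧸ Ideal.span (Set.range v)) (Fin n) (Fin 0) :=
    ⟨P₀, hj⟩
  haveI : Algebra.IsStandardSmoothOfRelativeDimension n A (MvPolynomial (Fin n) A ⧸ Ideal.span (Set.range v)) :=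
    ⟨⟨_, _, _, inferInstance, P, by simp [Algebra.Presentation.dimension]⟩⟩
  have hbot : Ideal.span (Set.range v) = ⊥ := by simp [Set.range_eq_empty]
  exact .of_algEquiv n ((Ideal.quotientEquivAlgOfEq A hbot).trans (AlgEquiv.quotientBot A _))

theorem smoothRel_scal (i : Fin (n + 1)) :
    RingHom.Locally (RingHom.IsStandardSmoothOfRelativeDimension n)
      ((HomogeneousLocalization.fromZeroRingHom (CohB1.polyGrading n A)
        (Submonoid.powers (X i : MvPolynomial (Fin (n + 1)) A))).comp (algebraMap A (CohB1.polyGrading n A 0))) := by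
  have e : (HomogeneousLocalization.fromZeroRingHom (CohB1.polyGrading n A)
      (Submonoid.powers (X i : MvPolynomial (Fin (n + 1)) A))).comp (algebraMap A (CohB1.polyGrading n A 0)) =
      (RingEquiv.ofBijective (toAway n A i) (toAway_bijective n A i)).toRingHom.comp C := by
    ext r
    simp [← dh_C]
  rw [e]
  refine RingHom.locally_of RingHom.isStandardSmoothOfRelativeDimension_respectsIso _ ?_
  refine RingHom.isStandardSmoothOfRelativeDimension_respectsIso.1 _ _ ?_
  have h := (RingHom.isStandardSmoothOfRelativeDimension_algebraMap (R := A) (S := MvPolynomial (Fin n) A) n).mpr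
    (isStandardSmooth_mvPolynomial n A)
  exact h

set_option backward.isDefEq.respectTransparency.types false in
theorem smoothOfRelativeDimension_toSpec :
    SmoothOfRelativeDimension n (CohB1.ProjSpace.toSpec n A) := by
  change SmoothOfRelativeDimension n (Proj.toSpecZero (CohB1.polyGrading n A) ≫
    Spec.map (CommRingCat.ofHom (algebraMap A (CohB1.polyGrading n A 0))))
  have hcov : ⨆ i : Fin (n + 1), Proj.basicOpen (CohB1.polyGrading n A) (X i) = ⊤ := by
    refine Proj.iSup_basicOpen_eq_top' _ _ (fun i => ⟨1, X_mem n A i⟩) ?_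
    refine top_le_iff.mp fun p _ => ?_
    induction p using MvPolynomial.induction_on with
    | C a =>
      exact Subalgebra.algebraMap_mem _ (⟨MvPolynomial.C a, MvPolynomial.isHomogeneous_C _ _⟩ : CohB1.polyGrading n A 0)
    | add p q hp hq => exact add_mem (hp trivial) (hq trivial)
    | mul_X p i hp => exact mul_mem (hp trivial) (Algebra.subset_adjoin ⟨i, rfl⟩)
  rw [IsZariskiLocalAtSource.iff_of_iSup_eq_top (P := @SmoothOfRelativeDimension.{u} n) _ hcov]
  intro i
  rw [← MorphismProperty.cancel_left_of_respectsIso (C := Scheme.{u}) (@SmoothOfRelativeDimension.{u} n)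
    (Proj.basicOpenIsoSpec (CohB1.polyGrading n A) (X i) (X_mem n A i) one_pos).inv,
    Proj.basicOpenIsoSpec_inv_ι_assoc, Proj.awayι_toSpecZero_assoc, ← Spec.map_comp,
    HasRingHomProperty.Spec_iff (P := @SmoothOfRelativeDimension.{u} n)]
  exact smoothRel_scal n A i

end Smooth

section Det

variable {Y : Scheme.{u}} {S : ShortComplex Y.Modules}

/-- A stalk basis of the middle term. -/
theorem exists_basis_mid {c r : ℕ} (hS : S.ShortExact) (y : Y)
    (b₁ : Module.Basis (Fin c) (Y.presheaf.stalk y) (S.X₁.presheaf.stalk y))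
    (b₃ : Module.Basis (Fin r) (Y.presheaf.stalk y) (S.X₃.presheaf.stalk y)) :
    Nonempty (Module.Basis (Fin (c + r)) (Y.presheaf.stalk y) (S.X₂.presheaf.stalk y)) := by
  obtain ⟨hi, he, hs⟩ := stalk_exact hS y
  haveI := Module.Projective.of_basis b₃
  obtain ⟨l, hl⟩ := Module.projective_lifting_property (stalkLin S.g y) LinearMap.id hs
  have e := (he.splitSurjectiveEquiv hi ⟨l, hl⟩).1
  exact ⟨((b₁.prod b₃).map e.symm).reindex finSumFinEquiv⟩

/-- The determinant of a short exact sequence. -/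
theorem nonempty_det_iso {c r : ℕ} (hS : S.ShortExact) [S.X₁.IsQuasicoherent] [S.X₂.IsQuasicoherent]
    [S.X₃.IsQuasicoherent] {L₁ L₂ L₃ : Y.Modules}
    (h₁ : ExtPow.IsExtPow c S.X₁ L₁) (h₂ : ExtPow.IsExtPow (c + r) S.X₂ L₂) (h₃ : ExtPow.IsExtPow r S.X₃ L₃)
    (b₁ : ∀ y, Nonempty (Module.Basis (Fin c) (Y.presheaf.stalk y) (S.X₁.presheaf.stalk y)))
    (b₃ : ∀ y, Nonempty (Module.Basis (Fin r) (Y.presheaf.stalk y) (S.X₃.presheaf.stalk y))) :
    Nonempty (CohB1.tensorMod L₁ L₃ ≅ L₂) := by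
  let e := (Scheme.Modules.pullbackId Y).app S.X₂
  have hb : ∀ y, Function.Bijective (stalkLin e.hom y) := fun y => by
    refine Function.bijective_iff_has_inverse.mpr ⟨stalkLin e.inv y, fun t => ?_, fun t => ?_⟩
    · rw [← stalkLin_comp, e.hom_inv_id, stalkLin_id]
    · rw [← stalkLin_comp, e.inv_hom_id, stalkLin_id]
  have hb' : ∀ y, Function.Bijective (stalkLin e.inv y) := fun y => by
    refine Function.bijective_iff_has_inverse.mpr ⟨stalkLin e.hom y, fun t => ?_, fun t => ?_⟩
    · rw [← stalkLin_comp, e.inv_hom_id, stalkLin_id]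
    · rw [← stalkLin_comp, e.hom_inv_id, stalkLin_id]
  obtain ⟨d⟩ := DetSeq.nonempty_det_iso (𝟙 Y) (S.f ≫ e.inv) (e.hom ≫ S.g)
    (fun y a b h => by
      rw [stalkLin_comp, stalkLin_comp] at h
      exact (stalk_exact hS y).1 ((hb' y).1 h))
    (fun y t => by
      obtain ⟨s, rfl⟩ := (stalk_exact hS y).2.2 t
      exact ⟨stalkLin e.inv y s, by rw [stalkLin_comp, ← stalkLin_comp e.inv e.hom, e.inv_hom_id, stalkLin_id]⟩)
    (fun y t => by
      rw [stalkLin_comp]
      refine ((stalk_exact hS y).2.1 (stalkLin e.hom y t)).trans ⟨?_, ?_⟩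
      · rintro ⟨s, hs⟩
        exact ⟨s, by rw [stalkLin_comp, hs, ← stalkLin_comp, e.hom_inv_id, stalkLin_id]⟩
      · rintro ⟨s, rfl⟩
        exact ⟨s, by rw [stalkLin_comp, ← stalkLin_comp e.inv e.hom, e.inv_hom_id, stalkLin_id]⟩)
    ⟨h₁.choose, h₁.choose_spec⟩ ⟨h₃.choose, h₃.choose_spec⟩ ⟨h₂.choose, h₂.choose_spec⟩
    b₁ b₃ (fun y => exists_basis_mid hS y (b₁ y).some (b₃ y).some)
  exact ⟨d ≪≫ (Scheme.Modules.pullbackId Y).app L₂⟩

theorem exists_basis_invertible {L : Y.Modules} (hL : PicF.IsInvertible L) (y : Y) :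
    Nonempty (Module.Basis (Fin 1) (Y.presheaf.stalk y) (L.presheaf.stalk y)) := by
  obtain ⟨U, g, hgU, hg⟩ := Groth.Agent.Props.GenLocus.exists_isGen hL y
  exact ⟨(Module.Basis.singleton (Fin 1) (Y.presheaf.stalk y)).map
    (LinearEquiv.ofBijective _ (PicLaw.bijective_toSpanSingleton_germ hg y hgU))⟩

end Det

variable (n : ℕ) (R : Type u) [CommRing R]

/-- `O(-1)^m`. -/
abbrev pow (m : ℕ) : (CohB1.ProjSpace n R).Modules :=
  ∐ fun _ : Fin m => Twist.twistProjSpace n R (-1)

theorem isCoh_pow [IsNoetherianRing R] (m : ℕ) : Coh.IsCoh (pow n R m) :=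
  CohDev.isCoh_of_iso
    (Sigma.whiskerEquiv (f := fun _ : ULift.{u} (Fin m) => Twist.twistProjSpace n R (-1))
      (g := fun _ : Fin m => Twist.twistProjSpace n R (-1)) Equiv.ulift fun _ => Iso.refl _)
    (isCoh_sigma _ fun _ => isCoh_twistProjSpace n R _)

/-- `0 → O(-1)^m → O(-1)^(m+1) → O(-1) → 0`. -/
abbrev splitCx (m : ℕ) : ShortComplex (CohB1.ProjSpace n R).Modules :=
  ShortComplex.mk
    (Sigma.desc fun j : Fin m => Sigma.ι (fun _ : Fin (m + 1) => Twist.twistProjSpace n R (-1)) j.castSucc :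
      pow n R m ⟶ pow n R (m + 1))
    (Sigma.desc fun j : Fin (m + 1) => if j = Fin.last m then 𝟙 (Twist.twistProjSpace n R (-1)) else 0)
    (Sigma.hom_ext _ _ fun j => by
      rw [Sigma.ι_desc_assoc, Sigma.ι_desc, comp_zero, if_neg (Fin.castSucc_ne_last j)])

theorem shortExact_splitCx (m : ℕ) : (splitCx n R m).ShortExact :=
  ShortComplex.Splitting.shortExact
    { r := Sigma.desc fun j => Fin.lastCases 0 (fun i => Sigma.ι (fun _ : Fin m => Twist.twistProjSpace n R (-1)) i) j
      s := Sigma.ι (fun _ : Fin (m + 1) => Twist.twistProjSpace n R (-1)) (Fin.last m)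
      f_r := Sigma.hom_ext _ _ fun j => by simp
      s_g := by simp
      id := Sigma.hom_ext _ _ fun j => by
        refine Fin.lastCases ?_ (fun i => ?_) j
        · simp
        · simp [Fin.castSucc_ne_last] }

theorem exists_basis_pow : ∀ (m : ℕ) (y : CohB1.ProjSpace n R),
    Nonempty (Module.Basis (Fin m) ((CohB1.ProjSpace n R).presheaf.stalk y) ((pow n R m).presheaf.stalk y))
  | 0, y => by
    have h0 : 𝟙 (pow n R 0) = 0 := Sigma.hom_ext _ _ fun j => j.elim0
    haveI : Subsingleton ((pow n R 0).presheaf.stalk y) := subsingleton_of_forall_eq 0 fun t => by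
      rw [show t = stalkLin (𝟙 (pow n R 0)) y t from by rw [stalkLin_id], h0, stalkLin_zero]
    exact ⟨Module.Basis.empty _⟩
  | m + 1, y => exists_basis_mid (shortExact_splitCx n R m) y (exists_basis_pow m y).some
      (exists_basis_invertible (isInvertible_twistProjSpace n R (-1)) y).some

theorem nonempty_det_step [IsNoetherianRing R] (m : ℕ) {L L' : (CohB1.ProjSpace n R).Modules}
    (hL' : ExtPow.IsExtPow m (pow n R m) L') (hL : ExtPow.IsExtPow (m + 1) (pow n R (m + 1)) L) :
    Nonempty (CohB1.tensorMod L' (Twist.twistProjSpace n R (-1)) ≅ L) :=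
  @nonempty_det_iso (CohB1.ProjSpace n R) (splitCx n R m) m 1 (shortExact_splitCx n R m)
    (isCoh_pow n R m).1 (isCoh_pow n R (m + 1)).1 (isCoh_twistProjSpace n R (-1)).1
    L' L (Twist.twistProjSpace n R (-1)) hL' hL (S3203.isExtPow_one (Twist.twistProjSpace n R (-1)))
    (exists_basis_pow n R m) (exists_basis_invertible (isInvertible_twistProjSpace n R (-1)))

theorem nonempty_det_pow [IsNoetherianRing R] : ∀ (m : ℕ) (L : (CohB1.ProjSpace n R).Modules),
    ExtPow.IsExtPow m (pow n R m) L → Nonempty (L ≅ Twist.twistProjSpace n R (-(m : ℤ))) := by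
  intro m
  induction m with
  | zero =>
    intro L hL
    haveI := (isCoh_pow n R 0).1
    obtain ⟨e⟩ := S3203.extPow_iso hL (S3203.isExtPow_zero (pow n R 0))
    exact ⟨e ≪≫ twistZeroIso (CohB1.polyGrading n R)⟩
  | succ m ih =>
    intro L hL
    haveI := (isCoh_pow n R m).1
    obtain ⟨L', hL'⟩ := ExtPowSt.Exists.exists_isExtPow m (pow n R m)
    obtain ⟨e'⟩ := ih L' hL'
    obtain ⟨d⟩ := nonempty_det_step n R m hL' hL
    obtain ⟨t⟩ := nonempty_twistProjSpace_tensor n R (-(m : ℤ)) (-1)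
    exact ⟨d.symm ≪≫ ((DCoh.tensorBi (X := CohB1.ProjSpace n R)).mapIso e').app (Twist.twistProjSpace n R (-1)) ≪≫
      t ≪≫ eqToIso (congrArg (Twist.twistProjSpace n R) (by push_cast; ring))⟩

/-- The canonical sheaf of projective space. -/
theorem nonempty_top_iso [IsNoetherianRing R] {L : (CohB1.ProjSpace n R).Modules}
    (hL : ExtPow.IsExtPow n (Omega.sheaf (CohB1.ProjSpace.toSpec n R)) L) :
    Nonempty (L ≅ Twist.twistProjSpace n R (-((n : ℤ) + 1))) := by
  haveI := smoothOfRelativeDimension_toSpec n R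
  let f : Omega.sheaf (CohB1.ProjSpace.toSpec n R) ⟶ pow n R (n + 1) :=
    (EulerSeq.omegaIsoKK n R).hom ≫ kernel.ι (EulerSeq.eulerMap n R)
  have hw : f ≫ EulerSeq.eulerMap n R = 0 := by rw [Category.assoc, kernel.condition, comp_zero]
  let S := ShortComplex.mk f (EulerSeq.eulerMap n R) hw
  have hS : S.ShortExact := ShortComplex.shortExact_of_iso
    (ShortComplex.isoMk (EulerSeq.omegaIsoKK n R).symm (Iso.refl _) (Iso.refl _)
      (by simp [S, f]) (by simp [S]) : EulerSeq.eulerCx n R ≅ S) (EulerSeq.shortExact_eulerCx n R)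
  haveI : S.X₁.IsQuasicoherent :=
    (VBLib.isCoh_of_ofRank (CanonTriv.isFinLocFreeOfRank_omega (CohB1.ProjSpace.toSpec n R) n)).1
  haveI : S.X₂.IsQuasicoherent := (isCoh_pow n R (n + 1)).1
  haveI : S.X₃.IsQuasicoherent := (isCoh_twistProjSpace n R 0).1
  obtain ⟨L₂, hL₂⟩ := ExtPowSt.Exists.exists_isExtPow (n + 1) S.X₂
  obtain ⟨d⟩ := nonempty_det_iso hS hL hL₂ (S3203.isExtPow_one _)
    (SmoothImm.exists_basis_omega (CohB1.ProjSpace.toSpec n R) n)
    (exists_basis_invertible (isInvertible_twistProjSpace n R 0))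
  obtain ⟨e₂⟩ := nonempty_det_pow n R (n + 1) L₂ hL₂
  exact ⟨(KFlat.TensorLocFree.unitTensorIso L).symm ≪≫ ChgRings.commIso _ _ ≪≫
    ((DCoh.tensorBi (X := CohB1.ProjSpace n R)).obj L).mapIso (twistZeroIso (CohB1.polyGrading n R)) ≪≫
      d ≪≫ e₂ ≪≫ eqToIso (by push_cast; ring_nf)⟩

end Groth.Agent.DualAbs.PnTop
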