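import Groth.Agent.DualAbs.WedgeSeq
import Groth.Agent.DualAbs.WedgePair
import Groth.Agent.S10931
import Groth.Agent.SerrePn.ExtDual
import Groth.Agent.LimTop.TensorQC
import Groth.Agent.ProjTwist.Pn.Top
import Groth.Agent.ProjTwist.Pn.H0
import Groth.Agent.ProjTwist.Pn.Extension
import Groth.Agent.PlanePts.Forms
import Mathlib.Data.Nat.Choose.Cast

/-!
# The Bott formula

Dimensions of `H^q(P^n, Ω^p(d))`.
-/

set_option autoImplicit false
set_option linter.style.haveILetI false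
set_option maxHeartbeats 800000

universe u

open CategoryTheory CategoryTheory.Limits AlgebraicGeometry

noncomputable section

namespace Groth.Agent.DualAbs.Bott

open Twist Groth.Agent.SerrePn

variable {n : ℕ} {k : Type u} [Field k]

/-- `dim H^q`. -/
abbrev h (M : (CohB1.ProjSpace n k).Modules) (q : ℕ) : ℕ := Module.finrank k (Coh.HH (CohB1.ProjSpace n k) M q)

/-- `dim H^q(O(e))`. -/
abbrev hO (n : ℕ) (k : Type u) [Field k] (e : ℤ) (q : ℕ) : ℕ := h (Twist.twistProjSpace n k e) q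

theorem h_congr {M N : (CohB1.ProjSpace n k).Modules} (e : M ≅ N) (q : ℕ) : h M q = h N q :=
  (CohLES.mapEquiv k e q).finrank_eq

theorem h_isZero {M : (CohB1.ProjSpace n k).Modules} (hM : IsZero M) (q : ℕ) : h M q = 0 := by
  have h1 : CohLES.mapL k (𝟙 M) q = CohLES.mapL k (0 : M ⟶ M) q := by rw [hM.eq_of_src (𝟙 M) 0]
  rw [CohLES.mapL_id, CohLES.mapL_zero] at h1
  haveI : Subsingleton (Coh.HH (CohB1.ProjSpace n k) M q) :=
    subsingleton_of_forall_eq 0 fun x => LinearMap.congr_fun h1 x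
  exact Module.finrank_zero_of_subsingleton

/-- The numerics of the long exact sequence. -/
theorem exists_ranks {S : ShortComplex (CohB1.ProjSpace n k).Modules} (hS : S.ShortExact)
    (h₁ : Coh.IsCoh S.X₁) (h₂ : Coh.IsCoh S.X₂) (h₃ : Coh.IsCoh S.X₃) :
    ∃ r a b : ℕ → ℕ, r 0 = 0 ∧ ∀ q, h S.X₁ q = r q + a q ∧ h S.X₂ q = a q + b q ∧ h S.X₃ q = b q + r (q + 1) := by
  haveI := fun q => ProjTwist.Pn.finite_hh (k := k) (n := n) h₁ q
  haveI := fun q => ProjTwist.Pn.finite_hh (k := k) (n := n) h₂ q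
  haveI := fun q => ProjTwist.Pn.finite_hh (k := k) (n := n) h₃ q
  let F := fun q => CohLES.mapL k S.f q
  let G := fun q => CohLES.mapL k S.g q
  let D := fun q => CohLES.δL k hS q (q + 1) rfl
  refine ⟨fun q => Nat.casesOn q 0 fun m => Module.finrank k (LinearMap.range (D m)),
    fun q => Module.finrank k (LinearMap.range (F q)), fun q => Module.finrank k (LinearMap.range (G q)),
    rfl, fun q => ⟨?_, ?_, ?_⟩⟩
  · rw [h, ← (F q).finrank_range_add_finrank_ker, add_comm]
    congr 1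
    cases q with
    | zero =>
      haveI : Mono S.f := hS.mono_f
      rw [LinearMap.ker_eq_bot.2 (SerrePn.mapL_zero_injective (k := k) S.f), finrank_bot]
      rfl
    | succ m =>
      refine congrArg (fun W : Submodule k _ => Module.finrank k W) ?_
      ext x
      exact ⟨fun hx => CohLES.exact₁ k hS rfl x hx, by rintro ⟨y, rfl⟩; exact CohLES.mapL_δL k hS rfl y⟩
  · rw [h, ← (G q).finrank_range_add_finrank_ker, add_comm]
    congr 1
    refine congrArg (fun W : Submodule k _ => Module.finrank k W) ?_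
    ext x
    exact ⟨fun hx => CohLES.exact₂ k hS x hx, by rintro ⟨y, rfl⟩; exact CohLES.mapL_comp_eq_zero k y⟩
  · rw [h, ← (D q).finrank_range_add_finrank_ker, add_comm]
    congr 1
    refine congrArg (fun W : Submodule k _ => Module.finrank k W) ?_
    ext x
    exact ⟨fun hx => CohLES.exact₃ k hS rfl x hx, by rintro ⟨y, rfl⟩; exact CohLES.δL_mapL k hS rfl y⟩

theorem hO_succ (e : ℤ) (q : ℕ) (hq : q + 1 ≠ n ∨ -((n : ℤ) + 1) < e) : hO n k e (q + 1) = 0 :=
  haveI := ProjTwist.Pn.subsingleton_twist (n := n) (R := k) e q hq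
  Module.finrank_zero_of_subsingleton

theorem hO_zero_neg (hn : 1 ≤ n) {e : ℤ} (he : e < 0) : hO n k e 0 = 0 :=
  haveI := ProjTwist.Pn.subsingleton_H0 (n := n) (R := k) (d := e) hn he
  Module.finrank_zero_of_subsingleton

theorem hO_zero (d : ℕ) : hO n k (d : ℤ) 0 = (n + d).choose n :=
  (ProjTwist.Pn.h0Equiv n k d).finrank_eq.symm.trans (PlanePts.finrank_forms k n d)

theorem hO_mid {e : ℤ} (h₁ : -(n : ℤ) ≤ e) (h₂ : e ≤ -1) : ∀ q, hO n k e q = 0
  | 0 => hO_zero_neg (by omega) (by omega)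
  | q + 1 => hO_succ e q (Or.inr (by omega))

/-- At most one cohomology group of `O(e)` is nonzero. -/
theorem hO_or (e : ℤ) (q : ℕ) : hO n k e q = 0 ∨ hO n k e (q + 1) = 0 := by
  by_cases hq : q + 1 = n
  · rcases le_or_gt (-(n : ℤ)) e with he | he
    · exact Or.inr (hO_succ e q (Or.inr (by omega)))
    · cases q with
      | zero => exact Or.inl (hO_zero_neg (by omega) (by omega))
      | succ m => exact Or.inl (hO_succ e m (Or.inl (by omega)))
  · exact Or.inr (hO_succ e q (Or.inl hq))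

/-- Twisting on the left. -/
abbrev tw (d : ℤ) : (CohB1.ProjSpace n k).Modules ⥤ (CohB1.ProjSpace n k).Modules := twL n k d

theorem isCoh_tw (d : ℤ) {M : (CohB1.ProjSpace n k).Modules} (hM : Coh.IsCoh M) : Coh.IsCoh ((tw d).obj M) := by
  have hT := SerrePn.isCoh_twist (n := n) (R := k) d
  haveI := hT.1
  haveI := hT.2
  haveI := hM.1
  haveI := hM.2
  exact ⟨LimTop.TensorQC.isQuasicoherent_tensM _ _, LimTop.TensorQC.isFT_tensM _ _⟩

theorem shortExact_tw (d : ℤ) {S : ShortComplex (CohB1.ProjSpace n k).Modules} (hS : S.ShortExact) :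
    ∃ T : ShortComplex (CohB1.ProjSpace n k).Modules, T.ShortExact ∧ T.X₁ = (tw d).obj S.X₁ ∧
      T.X₂ = (tw d).obj S.X₂ ∧ T.X₃ = (tw d).obj S.X₃ := by
  let F := (twEquiv (n := n) (R := k) d).functor
  haveI : F.Additive := Functor.additive_of_preserves_binary_products _
  exact ⟨S.map F, hS.map_of_exact F, rfl, rfl, rfl⟩

theorem tw_unit (d : ℤ) :
    Nonempty ((tw d).obj (Coh.structureModule (CohB1.ProjSpace n k)) ≅ Twist.twistProjSpace n k d) :=
  ⟨(ChgRings.commIso (Twist.twistProjSpace n k d) (Coh.structureModule (CohB1.ProjSpace n k)) :) ≪≫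
    SerrePn.unitTensorNatIso.app _⟩

theorem tw_tensor_twist (d a e : ℤ) (he : d + a = e) (M : (CohB1.ProjSpace n k).Modules) :
    Nonempty ((tw d).obj (CohB1.tensorMod M (Twist.twistProjSpace n k a)) ≅ (tw e).obj M) := by
  obtain ⟨t⟩ := ProjTwist.nonempty_twistProjSpace_tensor n k d a
  exact ⟨(tw d).mapIso (ChgRings.commIso M (Twist.twistProjSpace n k a)) ≪≫
    (SerrePn.tensorCompIso (Twist.twistProjSpace n k d) (Twist.twistProjSpace n k a) _
      (t ≪≫ eqToIso (congrArg (Twist.twistProjSpace n k) he))).app M⟩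

open PnTop (pow)

/-- Cohomology of the twists of `Λ^p O(-1)^m`. -/
theorem h_pow : ∀ (m p : ℕ) (L : (CohB1.ProjSpace n k).Modules), ExtPow.IsExtPow p (pow n k m) L →
    ∀ (d : ℤ) (q : ℕ), h ((tw d).obj L) q = m.choose p * hO n k (d - p) q := by
  intro m
  induction m with
  | zero =>
    intro p L hL d q
    haveI := (PnTop.isCoh_pow n k 0).1
    cases p with
    | zero =>
      obtain ⟨e⟩ := S3203.extPow_iso hL (S3203.isExtPow_zero (pow n k 0))
      obtain ⟨u⟩ := tw_unit (n := n) (k := k) d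
      rw [h_congr ((tw d).mapIso e ≪≫ u), Nat.choose_zero_right, one_mul, Nat.cast_zero, sub_zero]
    | succ p =>
      rw [Nat.choose_zero_succ, zero_mul]
      exact h_isZero (WedgeSeq.isZero_tensM_right (WedgeSeq.isZero_extPow (r := 0)
        ⟨hL.choose, hL.choose_spec⟩ (Nat.succ_pos p) (PnTop.exists_basis_pow n k 0))) q
  | succ m ih =>
    intro p L hL d q
    haveI := (PnTop.isCoh_pow n k (m + 1)).1
    cases p with
    | zero =>
      obtain ⟨e⟩ := S3203.extPow_iso hL (S3203.isExtPow_zero (pow n k (m + 1)))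
      obtain ⟨u⟩ := tw_unit (n := n) (k := k) d
      rw [h_congr ((tw d).mapIso e ≪≫ u), Nat.choose_zero_right, one_mul, Nat.cast_zero, sub_zero]
    | succ p =>
      haveI : (PnTop.splitCx n k m).X₁.IsQuasicoherent := (PnTop.isCoh_pow n k m).1
      haveI : (PnTop.splitCx n k m).X₂.IsQuasicoherent := (PnTop.isCoh_pow n k (m + 1)).1
      haveI : (PnTop.splitCx n k m).X₃.IsQuasicoherent := (ProjTwist.Pn.isCoh_twistProjSpace n k (-1)).1
      haveI := (PnTop.isCoh_pow n k m).1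
      obtain ⟨L', hL'⟩ := ExtPowSt.Exists.exists_isExtPow (p + 1) (pow n k m)
      obtain ⟨L'', hL''⟩ := ExtPowSt.Exists.exists_isExtPow p (pow n k m)
      obtain ⟨T, hT, ⟨e₁⟩, ⟨e₂⟩, ⟨e₃⟩⟩ := WedgeSeq.exists_shortExact (PnTop.shortExact_splitCx n k m)
        (PnTop.exists_basis_invertible (ProjTwist.isInvertible_twistProjSpace n k (-1))) hL' hL hL''
      obtain ⟨U, hU, u₁, u₂, u₃⟩ := shortExact_tw d hT
      have c' := ExtPowSt.isCoh ⟨hL'.choose, hL'.choose_spec⟩ (PnTop.isCoh_pow n k m)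
      have c'' := ExtPowSt.isCoh ⟨hL''.choose, hL''.choose_spec⟩ (PnTop.isCoh_pow n k m)
      have cL := ExtPowSt.isCoh ⟨hL.choose, hL.choose_spec⟩ (PnTop.isCoh_pow n k (m + 1))
      obtain ⟨w⟩ := tw_tensor_twist d (-1) (d - 1) (by ring) L''
      let f₁ : U.X₁ ≅ (tw d).obj L' := eqToIso u₁ ≪≫ (tw d).mapIso e₁
      let f₂ : U.X₂ ≅ (tw d).obj L := eqToIso u₂ ≪≫ (tw d).mapIso e₂
      let f₃ : U.X₃ ≅ (tw (d - 1)).obj L'' := eqToIso u₃ ≪≫ (tw d).mapIso e₃ ≪≫ w
      obtain ⟨r, a, b, r0, hr⟩ := exists_ranks hU (CohDev.isCoh_of_iso f₁.symm (isCoh_tw d c'))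
        (CohDev.isCoh_of_iso f₂.symm (isCoh_tw d cL)) (CohDev.isCoh_of_iso f₃.symm (isCoh_tw _ c''))
      let E : ℤ := d - ((p + 1 : ℕ) : ℤ)
      have key : ∀ q, r q + a q = m.choose (p + 1) * hO n k E q ∧
          b q + r (q + 1) = m.choose p * hO n k E q := fun q => by
        refine ⟨?_, ?_⟩
        · rw [← (hr q).1, h_congr f₁, ih (p + 1) L' hL' d q]
        · rw [← (hr q).2.2, h_congr f₃, ih p L'' hL'' (d - 1) q]
          congr 2
          simp only [E]; push_cast; ring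
      have hr0 : ∀ q, r q = 0 := by
        intro q
        cases q with
        | zero => exact r0
        | succ q =>
          rcases hO_or (n := n) (k := k) E q with h0 | h0
          · have := (key q).2; rw [h0, mul_zero] at this; omega
          · have := (key (q + 1)).1; rw [h0, mul_zero] at this; omega
      rw [← h_congr f₂, (hr q).2.1, Nat.choose_succ_succ', add_mul, add_comm (m.choose p * _)]
      have k1 := key q
      rw [hr0, hr0] at k1
      change a q + b q = m.choose (p + 1) * hO n k E q + m.choose p * hO n k E q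
      omega

variable (n k) in
/-- The sheaf of differentials. -/
abbrev Om : (CohB1.ProjSpace n k).Modules := Omega.sheaf (CohB1.ProjSpace.toSpec n k)

theorem isCoh_Om : Coh.IsCoh (Om n k) :=
  haveI := PnTop.smoothOfRelativeDimension_toSpec n k
  haveI : QuasiSeparated (CohB1.ProjSpace.toSpec n k) :=
    haveI := ProjProper.Basic.isProper_toSpec n k
    inferInstance
  VBLib.isCoh_of_ofRank (CanonTriv.isFinLocFreeOfRank_omega (CohB1.ProjSpace.toSpec n k) n)

/-- The numerics of `0 → Ω^(p+1)(d) → Λ^(p+1) V(d) → Ω^p(d) → 0`. -/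
theorem exists_step {p : ℕ} {L' L'' : (CohB1.ProjSpace n k).Modules} (hL' : ExtPow.IsExtPow (p + 1) (Om n k) L')
    (hL'' : ExtPow.IsExtPow p (Om n k) L'') (d : ℤ) :
    ∃ r a b : ℕ → ℕ, r 0 = 0 ∧ ∀ q, h ((tw d).obj L') q = r q + a q ∧
      (n + 1).choose (p + 1) * hO n k (d - ((p + 1 : ℕ) : ℤ)) q = a q + b q ∧
      h ((tw d).obj L'') q = b q + r (q + 1) := by
  let f : Om n k ⟶ pow n k (n + 1) := (EulerSeq.omegaIsoKK n k).hom ≫ kernel.ι (EulerSeq.eulerMap n k)
  have hw : f ≫ EulerSeq.eulerMap n k = 0 := by rw [Category.assoc, kernel.condition, comp_zero]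
  let S := ShortComplex.mk f (EulerSeq.eulerMap n k) hw
  have hS : S.ShortExact := ShortComplex.shortExact_of_iso
    (ShortComplex.isoMk (EulerSeq.omegaIsoKK n k).symm (Iso.refl _) (Iso.refl _)
      (by simp [S, f]) (by simp [S]) : EulerSeq.eulerCx n k ≅ S) (EulerSeq.shortExact_eulerCx n k)
  haveI : S.X₁.IsQuasicoherent := isCoh_Om.1
  haveI : S.X₂.IsQuasicoherent := (PnTop.isCoh_pow n k (n + 1)).1
  haveI : S.X₃.IsQuasicoherent := (ProjTwist.Pn.isCoh_twistProjSpace n k 0).1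
  obtain ⟨L, hL⟩ := ExtPowSt.Exists.exists_isExtPow (p + 1) S.X₂
  obtain ⟨T, hT, ⟨e₁⟩, ⟨e₂⟩, ⟨e₃⟩⟩ := WedgeSeq.exists_shortExact hS
    (PnTop.exists_basis_invertible (ProjTwist.isInvertible_twistProjSpace n k 0)) hL' hL hL''
  obtain ⟨U, hU, u₁, u₂, u₃⟩ := shortExact_tw d hT
  obtain ⟨w⟩ := tw_tensor_twist d 0 d (add_zero d) L''
  let f₁ : U.X₁ ≅ (tw d).obj L' := eqToIso u₁ ≪≫ (tw d).mapIso e₁
  let f₂ : U.X₂ ≅ (tw d).obj L := eqToIso u₂ ≪≫ (tw d).mapIso e₂
  let f₃ : U.X₃ ≅ (tw d).obj L'' := eqToIso u₃ ≪≫ (tw d).mapIso e₃ ≪≫ w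
  obtain ⟨r, a, b, r0, hr⟩ := exists_ranks hU
    (CohDev.isCoh_of_iso f₁.symm (isCoh_tw d (ExtPowSt.isCoh ⟨hL'.choose, hL'.choose_spec⟩ isCoh_Om)))
    (CohDev.isCoh_of_iso f₂.symm (isCoh_tw d (ExtPowSt.isCoh ⟨hL.choose, hL.choose_spec⟩ (PnTop.isCoh_pow n k (n + 1)))))
    (CohDev.isCoh_of_iso f₃.symm (isCoh_tw d (ExtPowSt.isCoh ⟨hL''.choose, hL''.choose_spec⟩ isCoh_Om)))
  refine ⟨r, a, b, r0, fun q => ⟨?_, ?_, ?_⟩⟩
  · rw [← h_congr f₁, (hr q).1]
  · rw [← h_pow (n + 1) (p + 1) L hL d q, ← h_congr f₂, (hr q).2.1]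
  · rw [← h_congr f₃, (hr q).2.2]

theorem exists_pow_Om (p : ℕ) : ∃ L, ExtPow.IsExtPow p (Om n k) L :=
  haveI := (isCoh_Om (n := n) (k := k)).1
  ExtPowSt.Exists.exists_isExtPow p (Om n k)

theorem h_top_vanish {p : ℕ} (hp : n < p) {L : (CohB1.ProjSpace n k).Modules}
    (hL : ExtPow.IsExtPow p (Om n k) L) (d : ℤ) (q : ℕ) : h ((tw d).obj L) q = 0 := by
  haveI := (isCoh_Om (n := n) (k := k)).1
  haveI := PnTop.smoothOfRelativeDimension_toSpec n k
  haveI : QuasiSeparated (CohB1.ProjSpace.toSpec n k) :=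
    haveI := ProjProper.Basic.isProper_toSpec n k
    inferInstance
  exact h_isZero (WedgeSeq.isZero_tensM_right (WedgeSeq.isZero_extPow (r := n) ⟨hL.choose, hL.choose_spec⟩ hp
    (SmoothImm.exists_basis_omega (CohB1.ProjSpace.toSpec n k) n))) q

theorem h_bottom {L : (CohB1.ProjSpace n k).Modules} (hL : ExtPow.IsExtPow 0 (Om n k) L) (d : ℤ) (q : ℕ) :
    h ((tw d).obj L) q = hO n k d q := by
  haveI := (isCoh_Om (n := n) (k := k)).1
  obtain ⟨e⟩ := S3203.extPow_iso hL (S3203.isExtPow_zero (Om n k))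
  obtain ⟨u⟩ := tw_unit (n := n) (k := k) d
  exact h_congr ((tw d).mapIso e ≪≫ u) q

/-- Positive twists are acyclic. -/
theorem h_pos_succ {d : ℤ} (hd : 1 ≤ d) : ∀ (m p : ℕ), n + 1 ≤ p + m → ∀ (L : (CohB1.ProjSpace n k).Modules),
    ExtPow.IsExtPow p (Om n k) L → ∀ q, h ((tw d).obj L) (q + 1) = 0 := by
  intro m
  induction m with
  | zero => exact fun p hp L hL q => h_top_vanish (by omega) hL d _
  | succ m ih =>
    intro p hp L hL q
    obtain ⟨L', hL'⟩ := exists_pow_Om (n := n) (k := k) (p + 1)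
    obtain ⟨r, a, b, -, hr⟩ := exists_step hL' hL d
    have h1 := hr (q + 1)
    have h2 := (hr (q + 1 + 1)).1
    rw [ih (p + 1) (by omega) L' hL' (q + 1)] at h2
    have hB : (n + 1).choose (p + 1) * hO n k (d - ((p + 1 : ℕ) : ℤ)) (q + 1) = 0 := by
      rcases Nat.lt_or_ge (n + 1) (p + 1) with hlt | hge
      · rw [Nat.choose_eq_zero_of_lt hlt, zero_mul]
      · rw [hO_succ _ q (Or.inr (by push_cast; omega)), mul_zero]
    omega

theorem choose_identity (s p m : ℕ) :
    (s + (p + 1) + m).choose (s + (p + 1)) * (s + p).choose (p + 1) +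
        (s + (p + 1) + m + 1).choose (s + (p + 1)) * (s + p).choose p =
      (p + 1 + m + 1).choose (p + 1) * (p + 1 + m + s).choose (p + 1 + m) := by
  cases s with
  | zero =>
    simp only [zero_add, Nat.choose_succ_self, mul_zero, Nat.choose_self, mul_one, add_zero]
  | succ t =>
    suffices hq : (((t + 1 + (p + 1) + m).choose (t + 1 + (p + 1)) : ℚ) * ((p + 1 + t).choose (p + 1)) +
        ((t + 1 + (p + 1) + (m + 1)).choose (t + 1 + (p + 1))) * ((p + (t + 1)).choose p)) =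
        ((p + 1 + (m + 1)).choose (p + 1)) * ((p + 1 + m + (t + 1)).choose (p + 1 + m)) by
      have hn : (t + 1 + (p + 1) + m).choose (t + 1 + (p + 1)) * (p + 1 + t).choose (p + 1) +
          (t + 1 + (p + 1) + (m + 1)).choose (t + 1 + (p + 1)) * (p + (t + 1)).choose p =
          (p + 1 + (m + 1)).choose (p + 1) * (p + 1 + m + (t + 1)).choose (p + 1 + m) := by exact_mod_cast hq
      rw [show t + 1 + p = p + 1 + t by omega]
      conv_lhs => arg 2; arg 2; rw [show p + 1 + t = p + (t + 1) by omega]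
      rw [show t + 1 + (p + 1) + m + 1 = t + 1 + (p + 1) + (m + 1) by omega,
        show p + 1 + m + 1 = p + 1 + (m + 1) by omega]
      exact hn
    rw [Nat.cast_add_choose, Nat.cast_add_choose, Nat.cast_add_choose, Nat.cast_add_choose,
      Nat.cast_add_choose, Nat.cast_add_choose]
    rw [show t + 1 + (p + 1) + m = (t + p + m + 1) + 1 by omega,
      show t + 1 + (p + 1) + (m + 1) = ((t + p + m + 1) + 1) + 1 by omega,
      show p + 1 + m + (t + 1) = (t + p + m + 1) + 1 by omega,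
      show t + 1 + (p + 1) = (p + t + 1) + 1 by omega,
      show p + 1 + t = p + t + 1 by omega,
      show p + (t + 1) = p + t + 1 by omega,
      show p + 1 + (m + 1) = (p + m + 1) + 1 by omega,
      show p + 1 + m = p + m + 1 by omega]
    simp only [Nat.factorial_succ, Nat.cast_mul, Nat.cast_add, Nat.cast_one]
    field_simp
    ring

/-- `dim H^0(Ω^p(d))` for positive `d`. -/
theorem h_pos_zero {d : ℕ} (hd : 1 ≤ d) : ∀ (p : ℕ), p ≤ n → ∀ (L : (CohB1.ProjSpace n k).Modules),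
    ExtPow.IsExtPow p (Om n k) L → h ((tw (d : ℤ)).obj L) 0 = (d + n - p).choose d * (d - 1).choose p := by
  intro p
  induction p with
  | zero =>
    intro _ L hL
    rw [h_bottom hL, hO_zero, Nat.choose_zero_right, mul_one, Nat.sub_zero, Nat.choose_symm_add, add_comm]
  | succ p ih =>
    intro hp L hL
    obtain ⟨L'', hL''⟩ := exists_pow_Om (n := n) (k := k) p
    obtain ⟨r, a, b, r0, hr⟩ := exists_step hL hL'' (d : ℤ)
    have h0 := hr 0
    have h1 := (hr 1).1
    have hA := h_pos_succ (d := (d : ℤ)) (by exact_mod_cast hd) (n + 1) (p + 1) (by omega) L hL 0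
    simp only [zero_add] at h0 hA
    rw [hA] at h1
    rw [ih (by omega) L'' hL'', r0] at h0
    obtain ⟨m, rfl⟩ : ∃ m, n = p + 1 + m := ⟨n - (p + 1), by omega⟩
    rcases Nat.lt_or_ge d (p + 1) with hlt | hge
    · rw [hO_mid (by push_cast; omega) (by push_cast; omega), mul_zero] at h0
      rw [Nat.choose_eq_zero_of_lt (show d - 1 < p + 1 by omega), mul_zero]
      omega
    · obtain ⟨s, rfl⟩ : ∃ s, d = s + (p + 1) := ⟨d - (p + 1), by omega⟩
      rw [show (((s + (p + 1) : ℕ) : ℤ)) - ((p + 1 : ℕ) : ℤ) = (s : ℤ) by push_cast; ring, hO_zero] at h0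
      have hid := choose_identity s p m
      rw [show s + (p + 1) + (p + 1 + m) - p = s + (p + 1) + m + 1 by omega,
        show s + (p + 1) - 1 = s + p by omega] at h0
      rw [show s + (p + 1) + (p + 1 + m) - (p + 1) = s + (p + 1) + m by omega,
        show s + (p + 1) - 1 = s + p by omega]
      omega

/-- Hodge numbers of projective space. -/
theorem h_zero_twist : ∀ (p : ℕ), p ≤ n → ∀ (L : (CohB1.ProjSpace n k).Modules),
    ExtPow.IsExtPow p (Om n k) L → ∀ q, h ((tw (0 : ℤ)).obj L) q = if q = p then 1 else 0 := by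
  intro p
  induction p with
  | zero =>
    intro _ L hL q
    rw [h_bottom hL]
    cases q with
    | zero =>
      rw [if_pos rfl]
      exact (hO_zero (n := n) (k := k) 0).trans (by simp)
    | succ q => rw [hO_succ 0 q (Or.inr (by omega)), if_neg (Nat.succ_ne_zero q)]
  | succ p ih =>
    intro hp L hL q
    obtain ⟨L'', hL''⟩ := exists_pow_Om (n := n) (k := k) p
    obtain ⟨r, a, b, r0, hr⟩ := exists_step hL hL'' 0
    have hB : ∀ q, a q = 0 ∧ b q = 0 := fun q => by
      have := (hr q).2.1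
      rw [hO_mid (by push_cast; omega) (by push_cast; omega), mul_zero] at this
      omega
    rw [(hr q).1, (hB q).1, add_zero]
    cases q with
    | zero => rw [r0, if_neg (Nat.succ_ne_zero p).symm]
    | succ q =>
      have := (hr q).2.2
      rw [(hB q).2, zero_add, ih (by omega) L'' hL'' q] at this
      rw [← this]
      simp

/-- `L ⊗ O(d) ≅ O(d) ⊗ L`. -/
theorem h_tensor (L : (CohB1.ProjSpace n k).Modules) (d : ℤ) (q : ℕ) :
    h (CohB1.tensorMod L (Twist.twistProjSpace n k d)) q = h ((tw d).obj L) q :=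
  h_congr (ChgRings.commIso L (Twist.twistProjSpace n k d)) q

theorem subsingleton_of_h {L : (CohB1.ProjSpace n k).Modules} {p : ℕ} (hL : ExtPow.IsExtPow p (Om n k) L)
    (d : ℤ) (q : ℕ) (hq : h (CohB1.tensorMod L (Twist.twistProjSpace n k d)) q = 0) :
    Subsingleton (Coh.HH (CohB1.ProjSpace n k) (CohB1.tensorMod L (Twist.twistProjSpace n k d)) q) := by
  have hT : Coh.IsCoh (CohB1.tensorMod L (Twist.twistProjSpace n k d)) :=
    CohDev.isCoh_of_iso (ChgRings.commIso (Twist.twistProjSpace n k d) L)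
      (isCoh_tw d (ExtPowSt.isCoh ⟨hL.choose, hL.choose_spec⟩ isCoh_Om))
  haveI := ProjTwist.Pn.finite_hh (k := k) (n := n) hT q
  exact Module.finrank_zero_iff.1 hq

/-- The vanishing part of the Bott formula. -/
theorem h_vanish {L : (CohB1.ProjSpace n k).Modules} {p : ℕ} (hL : ExtPow.IsExtPow p (Om n k) L)
    {d : ℤ} (hd : d ≠ 0) (q : ℕ) (h0 : ¬ (q = 0 ∧ (p : ℤ) < d)) (h1 : ¬ (q = n ∧ d < (p : ℤ) - n)) :
    h (CohB1.tensorMod L (Twist.twistProjSpace n k d)) q = 0 := by
  rcases Nat.lt_or_ge n p with hp | hp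
  · rw [h_tensor]
    exact h_top_vanish hp hL d q
  have pos : ∀ {e : ℤ}, 0 < e → ∀ {i : ℕ}, i ≤ n → ∀ (M : (CohB1.ProjSpace n k).Modules),
      ExtPow.IsExtPow i (Om n k) M → ∀ j, ¬ (j = 0 ∧ (i : ℤ) < e) → h ((tw e).obj M) j = 0 := by
    intro e he i hi M hM j hj
    cases j with
    | succ j => exact h_pos_succ (by omega) (n + 1) i (by omega) M hM j
    | zero =>
      obtain ⟨e', rfl⟩ := Int.eq_ofNat_of_zero_le he.le
      rw [h_pos_zero (by omega) i hi M hM, Nat.choose_eq_zero_of_lt (show e' - 1 < i by omega), mul_zero]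
  rcases lt_or_gt_of_ne hd with hd | hd
  · rcases Nat.lt_or_ge n q with hq | hq
    · have hc := ExtPowSt.isCoh ⟨hL.choose, hL.choose_spec⟩ (isCoh_Om (n := n) (k := k))
      haveI := SerrePn.subsingleton_HH_of_lt (n := n) (R := k)
        (isCoh_tw d hc).1 hq
      rw [h_tensor]
      exact Module.finrank_zero_of_subsingleton
    · obtain ⟨L', hL'⟩ := exists_pow_Om (n := n) (k := k) (n - p)
      rw [show h _ q = _ from S10931.result k n p q hp hq L L' hL hL' d,
        show Module.finrank k _ = h ((tw (-d)).obj L') (n - q) from h_tensor L' (-d) (n - q)]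
      exact pos (by omega) (Nat.sub_le n p) L' hL' _ (by omega)
  · rw [h_tensor]
    exact pos hd hp L hL q h0

end Groth.Agent.DualAbs.Bott
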