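import Groth.Agent.DualAbs.WedgeSeq
import Groth.Agent.SerrePn.ExtTwist
import Groth.Agent.SerrePn.ExtDual
import Groth.Agent.ProjTwist.Pn.Top
import Groth.Agent.ProjTwist.Pn.H0
import Groth.Agent.ProjProper.Basic
import Groth.Agent.CohLES.Basic

/-!
# Cohomology of exterior powers of differentials on projective space over a ring
-/

set_option autoImplicit false
set_option linter.style.haveILetI false
set_option maxHeartbeats 800000

universe u

open CategoryTheory CategoryTheory.Limits AlgebraicGeometry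

noncomputable section

namespace Groth.Agent.DualAbs.BottRing

open Twist Groth.Agent.SerrePn

variable {n : ℕ} {A : Type u} [CommRing A]

local notation "P" => CohB1.ProjSpace n A

/-- `H^q = 0`. -/
abbrev Vanish (M : (CohB1.ProjSpace n A).Modules) (q : ℕ) : Prop := Subsingleton (Coh.HH P M q)

theorem vanish_congr {M N : (CohB1.ProjSpace n A).Modules} (e : M ≅ N) (q : ℕ) : Vanish M q ↔ Vanish N q :=
  (CohLES.mapEquiv A e q).toEquiv.subsingleton_congr

theorem vanish_isZero {M : (CohB1.ProjSpace n A).Modules} (hM : IsZero M) (q : ℕ) : Vanish M q := by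
  have h1 : CohLES.mapL A (𝟙 M) q = CohLES.mapL A (0 : M ⟶ M) q := by rw [hM.eq_of_src (𝟙 M) 0]
  rw [CohLES.mapL_id, CohLES.mapL_zero] at h1
  exact subsingleton_of_forall_eq 0 fun x => LinearMap.congr_fun h1 x

section LES

variable {S : ShortComplex (CohB1.ProjSpace n A).Modules} (hS : S.ShortExact)

include hS

theorem vanish_mid (q : ℕ) (h₁ : Vanish S.X₁ q) (h₃ : Vanish S.X₃ q) : Vanish S.X₂ q :=
  subsingleton_of_forall_eq 0 fun x => by
    obtain ⟨y, rfl⟩ := CohLES.exact₂ A hS x (h₃.elim _ _)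
    rw [h₁.elim y 0, map_zero]

theorem vanish_left_zero (h₂ : Vanish S.X₂ 0) : Vanish S.X₁ 0 :=
  haveI : Mono S.f := hS.mono_f
  subsingleton_of_forall_eq 0 fun x => by
    have h : CohLES.mapL A S.f 0 x = CohLES.mapL A S.f 0 0 := by rw [h₂.elim (CohLES.mapL A S.f 0 x) 0, map_zero]
    exact (Abelian.Ext.mk₀_bijective _ _).2 x |>.elim fun g hg => by
      subst hg
      have : Mono ((ModShf.toAbFunctor P).map S.f) := inferInstance
      have hz : g ≫ (ModShf.toAbFunctor P).map S.f = 0 := by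
        apply (Abelian.Ext.mk₀_bijective _ _).1
        rw [← Abelian.Ext.mk₀_comp_mk₀, Abelian.Ext.mk₀_zero]
        exact h.trans (map_zero _)
      rw [zero_of_comp_mono _ hz, Abelian.Ext.mk₀_zero]

theorem vanish_right (q : ℕ) (h₂ : Vanish S.X₂ q) (h₁ : Vanish S.X₁ (q + 1)) : Vanish S.X₃ q :=
  subsingleton_of_forall_eq 0 fun x => by
    obtain ⟨y, rfl⟩ := CohLES.exact₃ A hS rfl x (h₁.elim _ _)
    rw [h₂.elim y 0, map_zero]

theorem nonempty_δ (q : ℕ) (h₂ : Vanish S.X₂ q) (h₂' : Vanish S.X₂ (q + 1)) :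
    Nonempty (Coh.HH P S.X₃ q ≃ₗ[A] Coh.HH P S.X₁ (q + 1)) := by
  refine ⟨LinearEquiv.ofBijective (CohLES.δL A hS q (q + 1) rfl) ⟨(injective_iff_map_eq_zero _).2 fun x hx => ?_,
    fun x => CohLES.exact₁ A hS rfl x (h₂'.elim _ _)⟩⟩
  obtain ⟨y, rfl⟩ := CohLES.exact₃ A hS rfl x hx
  rw [h₂.elim y 0, map_zero]

end LES

/-- Twisting on the left. -/
abbrev tw (d : ℤ) : (CohB1.ProjSpace n A).Modules ⥤ (CohB1.ProjSpace n A).Modules := twL n A d

theorem shortExact_tw (d : ℤ) {S : ShortComplex (CohB1.ProjSpace n A).Modules} (hS : S.ShortExact) :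
    ∃ T : ShortComplex (CohB1.ProjSpace n A).Modules, T.ShortExact ∧ T.X₁ = (tw d).obj S.X₁ ∧
      T.X₂ = (tw d).obj S.X₂ ∧ T.X₃ = (tw d).obj S.X₃ := by
  let F := (twEquiv (n := n) (R := A) d).functor
  haveI : F.Additive := Functor.additive_of_preserves_binary_products _
  exact ⟨S.map F, hS.map_of_exact F, rfl, rfl, rfl⟩

theorem tw_tensor_twist (d a e : ℤ) (he : d + a = e) (M : (CohB1.ProjSpace n A).Modules) :
    Nonempty ((tw d).obj (CohB1.tensorMod M (Twist.twistProjSpace n A a)) ≅ (tw e).obj M) := by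
  obtain ⟨t⟩ := ProjTwist.nonempty_twistProjSpace_tensor n A d a
  exact ⟨(tw d).mapIso (ChgRings.commIso M (Twist.twistProjSpace n A a)) ≪≫
    (SerrePn.tensorCompIso (Twist.twistProjSpace n A d) (Twist.twistProjSpace n A a) _
      (t ≪≫ eqToIso (congrArg (Twist.twistProjSpace n A) he))).app M⟩

theorem tw_unit (d : ℤ) :
    Nonempty ((tw d).obj (Coh.structureModule (CohB1.ProjSpace n A)) ≅ Twist.twistProjSpace n A d) :=
  ⟨(ChgRings.commIso (Twist.twistProjSpace n A d) (Coh.structureModule (CohB1.ProjSpace n A)) :) ≪≫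
    SerrePn.unitTensorNatIso.app _⟩

theorem isQCoh_pow : ∀ m : ℕ, (PnTop.pow n A m).IsQuasicoherent
  | 0 => by
    have h0 : 𝟙 (PnTop.pow n A 0) = 0 := Sigma.hom_ext _ _ fun j => j.elim0
    have hz : IsZero (PnTop.pow n A 0) := (IsZero.iff_id_eq_zero _).2 h0
    let S : ShortComplex (CohB1.ProjSpace n A).Modules :=
      ShortComplex.mk (0 : PnTop.pow n A 0 ⟶ Twist.twistProjSpace n A 0) (𝟙 (Twist.twistProjSpace n A 0)) zero_comp
    haveI : (Twist.twistProjSpace n A 0).IsQuasicoherent := ProjTwist.isQCoh_twistProjSpace n A 0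
    have e : PnTop.pow n A 0 ≅ kernel (𝟙 (Twist.twistProjSpace n A 0)) :=
      hz.iso ((isZero_zero _).of_iso (kernel.ofMono _))
    exact (SheafOfModules.isQuasicoherent (CohB1.ProjSpace n A).ringCatSheaf).prop_of_iso e.symm
      (inferInstanceAs (kernel (𝟙 (Twist.twistProjSpace n A 0))).IsQuasicoherent)
  | m + 1 => by
    haveI : (PnTop.splitCx n A m).X₁.IsQuasicoherent := isQCoh_pow m
    haveI : (PnTop.splitCx n A m).X₃.IsQuasicoherent := ProjTwist.isQCoh_twistProjSpace n A (-1)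
    exact QCoh.isQuasicoherent_X₂ (PnTop.splitCx n A m) (PnTop.shortExact_splitCx n A m)

/-- Vanishing for twists of `Λ^p O(-1)^m`. -/
theorem vanish_pow : ∀ (m p : ℕ) (L : (CohB1.ProjSpace n A).Modules), ExtPow.IsExtPow p (PnTop.pow n A m) L →
    ∀ (d : ℤ) (q : ℕ), Vanish (Twist.twistProjSpace n A (d - p)) q → Vanish ((tw d).obj L) q := by
  intro m
  induction m with
  | zero =>
    intro p L hL d q hq
    haveI := isQCoh_pow (n := n) (A := A) 0
    cases p with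
    | zero =>
      obtain ⟨e⟩ := S3203.extPow_iso hL (S3203.isExtPow_zero (PnTop.pow n A 0))
      obtain ⟨u⟩ := tw_unit (n := n) (A := A) d
      exact (vanish_congr ((tw d).mapIso e ≪≫ u) q).2 (by simpa using hq)
    | succ p =>
      exact vanish_isZero (WedgeSeq.isZero_tensM_right (WedgeSeq.isZero_extPow (r := 0)
        ⟨hL.choose, hL.choose_spec⟩ (Nat.succ_pos p) (PnTop.exists_basis_pow n A 0))) q
  | succ m ih =>
    intro p L hL d q hq
    haveI := isQCoh_pow (n := n) (A := A) (m + 1)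
    cases p with
    | zero =>
      obtain ⟨e⟩ := S3203.extPow_iso hL (S3203.isExtPow_zero (PnTop.pow n A (m + 1)))
      obtain ⟨u⟩ := tw_unit (n := n) (A := A) d
      exact (vanish_congr ((tw d).mapIso e ≪≫ u) q).2 (by simpa using hq)
    | succ p =>
      haveI : (PnTop.splitCx n A m).X₁.IsQuasicoherent := isQCoh_pow m
      haveI : (PnTop.splitCx n A m).X₂.IsQuasicoherent := isQCoh_pow (m + 1)
      haveI : (PnTop.splitCx n A m).X₃.IsQuasicoherent := ProjTwist.isQCoh_twistProjSpace n A (-1)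
      haveI := isQCoh_pow (n := n) (A := A) m
      obtain ⟨L', hL'⟩ := ExtPowSt.Exists.exists_isExtPow (p + 1) (PnTop.pow n A m)
      obtain ⟨L'', hL''⟩ := ExtPowSt.Exists.exists_isExtPow p (PnTop.pow n A m)
      obtain ⟨T, hT, ⟨e₁⟩, ⟨e₂⟩, ⟨e₃⟩⟩ := WedgeSeq.exists_shortExact (PnTop.shortExact_splitCx n A m)
        (PnTop.exists_basis_invertible (ProjTwist.isInvertible_twistProjSpace n A (-1))) hL' hL hL''
      obtain ⟨U, hU, u₁, u₂, u₃⟩ := shortExact_tw d hT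
      obtain ⟨w⟩ := tw_tensor_twist d (-1) (d - 1) (by ring) L''
      have h₁ : Vanish U.X₁ q := (vanish_congr (eqToIso u₁ ≪≫ (tw d).mapIso e₁) q).2 (ih (p + 1) L' hL' d q hq)
      have h₃ : Vanish U.X₃ q := (vanish_congr (eqToIso u₃ ≪≫ (tw d).mapIso e₃ ≪≫ w) q).2
        (ih p L'' hL'' (d - 1) q (by rwa [show d - 1 - (p : ℤ) = d - ((p + 1 : ℕ) : ℤ) by push_cast; ring]))
      exact (vanish_congr (eqToIso u₂ ≪≫ (tw d).mapIso e₂) q).1 (vanish_mid hU q h₁ h₃)

/-- The sheaf of differentials. -/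
abbrev Om (n : ℕ) (A : Type u) [CommRing A] : (CohB1.ProjSpace n A).Modules :=
  Omega.sheaf (CohB1.ProjSpace.toSpec n A)

theorem isQCoh_Om : (Om n A).IsQuasicoherent := by
  haveI := PnTop.smoothOfRelativeDimension_toSpec n A
  haveI : IsProper (CohB1.ProjSpace.toSpec n A) := ProjProper.Basic.isProper_toSpec n A
  have h := CanonTriv.isFinLocFreeOfRank_omega (CohB1.ProjSpace.toSpec n A) n
  exact PerfTri.Betti.isQuasicoherent_of_isFinLocFree fun x => by
    obtain ⟨U, hx, e⟩ := h x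
    exact ⟨U, n, hx, e⟩

theorem exists_pow_Om (p : ℕ) : ∃ L, ExtPow.IsExtPow p (Om n A) L :=
  haveI := isQCoh_Om (n := n) (A := A)
  ExtPowSt.Exists.exists_isExtPow p (Om n A)

theorem vanish_top {p : ℕ} (hp : n < p) {L : (CohB1.ProjSpace n A).Modules} (hL : ExtPow.IsExtPow p (Om n A) L)
    (d : ℤ) (q : ℕ) : Vanish ((tw d).obj L) q := by
  haveI := isQCoh_Om (n := n) (A := A)
  haveI := PnTop.smoothOfRelativeDimension_toSpec n A
  haveI : IsProper (CohB1.ProjSpace.toSpec n A) := ProjProper.Basic.isProper_toSpec n A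
  exact vanish_isZero (WedgeSeq.isZero_tensM_right (WedgeSeq.isZero_extPow (r := n) ⟨hL.choose, hL.choose_spec⟩ hp
    (SmoothImm.exists_basis_omega (CohB1.ProjSpace.toSpec n A) n))) q

theorem nonempty_bottom {L : (CohB1.ProjSpace n A).Modules} (hL : ExtPow.IsExtPow 0 (Om n A) L) (d : ℤ) :
    Nonempty ((tw d).obj L ≅ Twist.twistProjSpace n A d) := by
  haveI := isQCoh_Om (n := n) (A := A)
  obtain ⟨e⟩ := S3203.extPow_iso hL (S3203.isExtPow_zero (Om n A))
  obtain ⟨u⟩ := tw_unit (n := n) (A := A) d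
  exact ⟨(tw d).mapIso e ≪≫ u⟩

/-- The twisted exterior powers of the Euler sequence. -/
theorem exists_step {p : ℕ} {L' L'' : (CohB1.ProjSpace n A).Modules} (hL' : ExtPow.IsExtPow (p + 1) (Om n A) L')
    (hL'' : ExtPow.IsExtPow p (Om n A) L'') (d : ℤ) :
    ∃ U : ShortComplex (CohB1.ProjSpace n A).Modules, U.ShortExact ∧ Nonempty (U.X₁ ≅ (tw d).obj L') ∧
      Nonempty (U.X₃ ≅ (tw d).obj L'') ∧
      ∀ q, Vanish (Twist.twistProjSpace n A (d - ((p + 1 : ℕ) : ℤ))) q → Vanish U.X₂ q := by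
  let f : Om n A ⟶ PnTop.pow n A (n + 1) := (EulerSeq.omegaIsoKK n A).hom ≫ kernel.ι (EulerSeq.eulerMap n A)
  have hw : f ≫ EulerSeq.eulerMap n A = 0 := by rw [Category.assoc, kernel.condition, comp_zero]
  let S := ShortComplex.mk f (EulerSeq.eulerMap n A) hw
  have hS : S.ShortExact := ShortComplex.shortExact_of_iso
    (ShortComplex.isoMk (EulerSeq.omegaIsoKK n A).symm (Iso.refl _) (Iso.refl _)
      (by simp [S, f]) (by simp [S]) : EulerSeq.eulerCx n A ≅ S) (EulerSeq.shortExact_eulerCx n A)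
  haveI : S.X₁.IsQuasicoherent := isQCoh_Om
  haveI : S.X₂.IsQuasicoherent := isQCoh_pow (n + 1)
  haveI : S.X₃.IsQuasicoherent := ProjTwist.isQCoh_twistProjSpace n A 0
  obtain ⟨L, hL⟩ := ExtPowSt.Exists.exists_isExtPow (p + 1) S.X₂
  obtain ⟨T, hT, ⟨e₁⟩, ⟨e₂⟩, ⟨e₃⟩⟩ := WedgeSeq.exists_shortExact hS
    (PnTop.exists_basis_invertible (ProjTwist.isInvertible_twistProjSpace n A 0)) hL' hL hL''
  obtain ⟨U, hU, u₁, u₂, u₃⟩ := shortExact_tw d hT
  obtain ⟨w⟩ := tw_tensor_twist d 0 d (add_zero d) L''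
  exact ⟨U, hU, ⟨eqToIso u₁ ≪≫ (tw d).mapIso e₁⟩, ⟨eqToIso u₃ ≪≫ (tw d).mapIso e₃ ≪≫ w⟩, fun q hq =>
    (vanish_congr (eqToIso u₂ ≪≫ (tw d).mapIso e₂) q).2 (vanish_pow (n + 1) (p + 1) L hL d q hq)⟩

theorem vanish_twist {e : ℤ} (h₁ : -(n : ℤ) ≤ e) (h₂ : e ≤ -1) : ∀ q, Vanish (Twist.twistProjSpace n A e) q
  | 0 => ProjTwist.Pn.subsingleton_H0 (by omega) (by omega)
  | q + 1 => ProjTwist.Pn.subsingleton_twist e q (Or.inr (by omega))

/-- The connecting maps `H^q(Ω^p) ≅ H^(q+1)(Ω^(p+1))`. -/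
theorem nonempty_shift {p : ℕ} (hp : p < n) {L' L'' : (CohB1.ProjSpace n A).Modules}
    (hL' : ExtPow.IsExtPow (p + 1) (Om n A) L') (hL'' : ExtPow.IsExtPow p (Om n A) L'') :
    Vanish ((tw 0).obj L') 0 ∧
      ∀ q, Nonempty (Coh.HH P ((tw 0).obj L'') q ≃ₗ[A] Coh.HH P ((tw 0).obj L') (q + 1)) := by
  obtain ⟨U, hU, ⟨e₁⟩, ⟨e₃⟩, h⟩ := exists_step hL' hL'' 0
  have h2 : ∀ q, Vanish U.X₂ q := fun q => h q (vanish_twist (by omega) (by omega) q)
  refine ⟨(vanish_congr e₁ 0).1 (vanish_left_zero hU (h2 0)), fun q => ?_⟩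
  obtain ⟨δ⟩ := nonempty_δ hU q (h2 q) (h2 (q + 1))
  exact ⟨(CohLES.mapEquiv A e₃ q).symm ≪≫ₗ δ ≪≫ₗ CohLES.mapEquiv A e₁ (q + 1)⟩

theorem nonempty_const : Nonempty (Coh.HH P (Twist.twistProjSpace n A 0) 0 ≃ₗ[A] A) :=
  ⟨(ProjTwist.Pn.h0Equiv n A 0).symm ≪≫ₗ
    (LinearEquiv.ofBijective (Algebra.linearMap A (CohB1.polyGrading n A 0))
      (ProjProper.Basic.bijective_algebraMap_zero n A)).symm⟩

/-- `H^q(Ω^p) = 0` for `p ≠ q` and `H^p(Ω^p) = A`. -/
theorem omega_cohomology : ∀ p : ℕ, p ≤ n → ∀ (L : (CohB1.ProjSpace n A).Modules),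
    ExtPow.IsExtPow p (Om n A) L → (∀ q, p ≠ q → Vanish ((tw 0).obj L) q) ∧
      Nonempty (Coh.HH P ((tw 0).obj L) p ≃ₗ[A] A) := by
  intro p
  induction p with
  | zero =>
    intro _ L hL
    obtain ⟨e⟩ := nonempty_bottom hL 0
    refine ⟨fun q hq => ?_, ?_⟩
    · obtain ⟨q, rfl⟩ : ∃ q', q = q' + 1 := ⟨q - 1, by omega⟩
      exact (vanish_congr e _).2 (ProjTwist.Pn.subsingleton_twist 0 q (Or.inr (by omega)))
    · obtain ⟨c⟩ := nonempty_const (n := n) (A := A)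
      exact ⟨CohLES.mapEquiv A e 0 ≪≫ₗ c⟩
  | succ p ih =>
    intro hp L hL
    obtain ⟨L'', hL''⟩ := exists_pow_Om (n := n) (A := A) p
    obtain ⟨h0, hs⟩ := nonempty_shift (by omega) hL hL''
    obtain ⟨hv, ⟨c⟩⟩ := ih (by omega) L'' hL''
    refine ⟨fun q hq => ?_, ?_⟩
    · cases q with
      | zero => exact h0
      | succ q =>
        obtain ⟨e⟩ := hs q
        exact (e.toEquiv.subsingleton_congr).1 (hv q (by omega))
    · obtain ⟨e⟩ := hs p
      exact ⟨e.symm ≪≫ₗ c⟩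

/-- Positive twists are acyclic. -/
theorem vanish_pos {d : ℤ} (hd : 1 ≤ d) : ∀ (m p : ℕ), n + 1 ≤ p + m → ∀ (L : (CohB1.ProjSpace n A).Modules),
    ExtPow.IsExtPow p (Om n A) L → ∀ q, Vanish ((tw d).obj L) (q + 1) := by
  intro m
  induction m with
  | zero => exact fun p hp L hL q => vanish_top (by omega) hL d _
  | succ m ih =>
    intro p hp L hL q
    rcases Nat.lt_or_ge n p with hlt | hge
    · exact vanish_top hlt hL d _
    obtain ⟨L', hL'⟩ := exists_pow_Om (n := n) (A := A) (p + 1)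
    obtain ⟨U, hU, ⟨e₁⟩, ⟨e₃⟩, h⟩ := exists_step hL' hL d
    exact (vanish_congr e₃ _).1 (vanish_right hU (q + 1)
      (h (q + 1) (ProjTwist.Pn.subsingleton_twist _ q (Or.inr (by push_cast; omega))))
      ((vanish_congr e₁ _).2 (ih (p + 1) (by omega) L' hL' (q + 1))))

theorem nonempty_tw_zero (L : (CohB1.ProjSpace n A).Modules) : Nonempty ((tw 0).obj L ≅ L) :=
  ⟨((DCoh.tensorBi (X := P)).mapIso (ProjTwist.twistZeroIso (CohB1.polyGrading n A)).symm).app L ≪≫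
    KFlat.TensorLocFree.unitTensorIso L⟩

end Groth.Agent.DualAbs.BottRing
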