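import Groth.Agent.DualAbs.ClosedDual
import Groth.Agent.S10831

/-!
# Corollaries for closed subschemes of `P^N`
-/

universe u

open CategoryTheory CategoryTheory.Limits CategoryTheory.Abelian AlgebraicGeometry
open Groth.Agent.ProjTwist Groth.Agent.ProjTwist.Pn

noncomputable section

namespace Groth.Agent.DualAbs

theorem dim_le_of_components {X : Type u} [TopologicalSpace X] {r : ℕ}
    (heq : ∀ Z : Set X, Z ∈ irreducibleComponents X → topologicalKrullDim ↥Z = (r : WithBot ℕ∞)) :
    topologicalKrullDim X ≤ (r : WithBot ℕ∞) := by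
  rw [S10831.result X]
  exact iSup₂_le fun Z hZ => (heq Z hZ).le

variable {N : ℕ} {k : Type u} [Field k] {X : Scheme.{u}} (ι : X ⟶ CohB1.ProjSpace N k)
  [IsClosedImmersion ι] [HasInjectiveResolutions (ModSite.Mod (CohB1.ProjSpace N k).sheaf)]
  [ModSite.HasSheafHom (O := (CohB1.ProjSpace N k).sheaf)
    ((Scheme.Modules.pushforward ι).obj (Coh.structureModule X))]

theorem vanish_of_isZero_extSh {p : ℕ} (hp : p ≤ N)
    (h : IsZero ((ModSite.extSh (O := (CohB1.ProjSpace N k).sheaf)
      ((Scheme.Modules.pushforward ι).obj (Coh.structureModule X)) (N - p)).obj (SerrePn.omega N k))) :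
    ∃ m₀ : ℤ, ∀ m : ℤ, m₀ ≤ m → Subsingleton (Coh.HH X (pbTwist ι (-m)) p) := by
  have := SerrePn.isLocallyNoetherian (n := N) (R := k)
  have := isLocallyNoetherian_source ι
  have hO : Coh.IsCoh (Coh.structureModule X) := HomShQC.isCoh_structureModule
  obtain ⟨m₀, hm₀⟩ := (vanish_iff_extSh (show p + (N - p) = N by omega)
    (ProperFin.isCoh_push_of_isFinite ι _ hO)).mpr h
  exact ⟨m₀, fun m hm => @AmpCrit.subsingleton_HH_of_iso _ _ _
    (KFlat.TensorLocFree.unitTensorIso _) p ((subsingleton_twist_iff ι hO (-m) p).mpr (hm₀ m hm))⟩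

end Groth.Agent.DualAbs
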