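import Groth.Agent.DualAbs.ExtCor
import Groth.Agent.S8347
import Groth.Agent.FlatOpen.EquiDim

/-!
# Ext sheaves of a Cohen–Macaulay closed subscheme live in one degree; one row spectral sequences
-/

universe v u

open CategoryTheory CategoryTheory.Limits CategoryTheory.Abelian AlgebraicGeometry

noncomputable section

namespace Groth.Agent.DualAbs

set_option maxHeartbeats 1000000
set_option synthInstance.maxHeartbeats 400000

/-- An `E₂` spectral sequence with one nonzero row. -/
theorem nonempty_iso_of_row {C : Type (u + 1)} [Category.{u} C] [Abelian C]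
    (E : E₂CohomologicalSpectralSequence C) {H : ℤ → C} (a : SpSeq.Abutment E H) (c : ℤ)
    (hz : ∀ p q : ℤ, q ≠ c → IsZero ((E.page 2 le_rfl).X (p, q))) (n : ℤ) (hfin : a.IsFinite n) :
    Nonempty (H n ≅ (E.page 2 le_rfl).X (n - c, c)) := by
  refine S8347.result E a 2 le_rfl (fun _ => c) (fun m q' hq => hz _ _ hq) n hfin.2 ?_ ?_
  · obtain ⟨b, hb⟩ := hfin.1
    exact ⟨fun _ _ => le_top, fun x hx => hb ▸ hx ⟨b, rfl⟩⟩
  · refine ⟨le_rfl, fun r h₀ hr => ⟨?_, ?_⟩⟩
    · exact (SpSeqLib.isZero_of_le E 2 le_rfl _ (hz _ (c - (1 - r)) (by omega)) r hr).eq_of_src _ _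
    · exact (SpSeqLib.isZero_of_le E 2 le_rfl _ (hz _ (c + (1 - r)) (by omega)) r hr).eq_of_tgt _ _

variable {P Y : Scheme.{u}} (j : Y ⟶ P) [IsClosedImmersion j]

theorem dim_stalk_sub_eq (k : Type u) [Field k] [P.Over (Spec (CommRingCat.of k))]
    [LocallyOfFiniteType (P ↘ Spec (CommRingCat.of k))] {n s : ℕ}
    (hP : ∀ Z ∈ irreducibleComponents P, topologicalKrullDim Z = (n : WithBot ℕ∞))
    (hY : ∀ Z ∈ irreducibleComponents Y, topologicalKrullDim Z = (s : WithBot ℕ∞)) (z : Y) :
    ∃ a b : ℕ, ringKrullDim (P.presheaf.stalk (j z)) = a ∧ ringKrullDim (Y.presheaf.stalk z) = b ∧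
      a + s = b + n := by
  letI : Y.Over (Spec (CommRingCat.of k)) := ⟨j ≫ (P ↘ Spec (CommRingCat.of k))⟩
  have : LocallyOfFiniteType (Y ↘ Spec (CommRingCat.of k)) :=
    inferInstanceAs (LocallyOfFiniteType (j ≫ (P ↘ Spec (CommRingCat.of k))))
  obtain ⟨a, ha, hae, -⟩ := FlatOpen.EquiDim.coheight_add_dimPt k
    ((FlatOpen.EquiDim.irreducibleComponents_dimPt_iff k n).mp hP) (j z)
  obtain ⟨b, hb, hbe, -⟩ := FlatOpen.EquiDim.coheight_add_dimPt k
    ((FlatOpen.EquiDim.irreducibleComponents_dimPt_iff k s).mp hY) z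
  refine ⟨a, b, ?_, ?_, ?_⟩
  · rw [ringKrullDim_stalk_eq_coheight, ha]; rfl
  · rw [ringKrullDim_stalk_eq_coheight, hb]; rfl
  · have h := height_map j z
    rw [VarDim.height_eq_dimPt k (j z), VarDim.height_eq_dimPt k z] at h
    have h' : VarDim.dimPt k P (j z) = VarDim.dimPt k Y z := by exact_mod_cast h
    omega

/-- `ℰxt^q(j_* O_Y, G) = 0` above the codimension, `Y` Cohen–Macaulay, `P` regular. -/
theorem isZero_extSh_of_gt (k : Type u) [Field k] [P.Over (Spec (CommRingCat.of k))]
    [LocallyOfFiniteType (P ↘ Spec (CommRingCat.of k))] [IsLocallyNoetherian P]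
    (hreg : ∀ p : P, IsRegularLocalRing (P.presheaf.stalk p)) {n s : ℕ} (hsn : s ≤ n)
    (hP : ∀ Z ∈ irreducibleComponents P, topologicalKrullDim Z = (n : WithBot ℕ∞))
    (hCM : ∀ y : Y, LocCoh.IsCohenMacaulayLocalRing (Y.presheaf.stalk y))
    (hY : ∀ Z ∈ irreducibleComponents Y, topologicalKrullDim Z = (s : WithBot ℕ∞))
    (G : P.Modules)
    [ModSite.HasSheafHom (O := P.sheaf) ((Scheme.Modules.pushforward j).obj (Coh.structureModule Y))]
    [HasInjectiveResolutions (ModSite.Mod P.sheaf)] {q : ℕ} (hq : n - s < q) :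
    IsZero ((ModSite.extSh (O := P.sheaf)
      ((Scheme.Modules.pushforward j).obj (Coh.structureModule Y)) q).obj G) := by
  have := LocallyOfFiniteType.isLocallyNoetherian j
  rw [isZero_extSh_iff _ G (ProperFin.isCoh_push_of_isFinite j _ HomShQC.isCoh_structureModule) q]
  intro y
  have hpd : HasProjectiveDimensionLE ((DerSch.stalkFunctor P y).obj
      ((Scheme.Modules.pushforward j).obj (Coh.structureModule Y))) (n - s) := by
    by_cases hy : y ∈ Set.range j
    · obtain ⟨z, rfl⟩ := hy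
      have := hreg (j z)
      obtain ⟨a, b, ha, hb, hab⟩ := dim_stalk_sub_eq j k hP hY z
      refine pd_push_unit j z ha (b := b) ?_ (by omega)
      have h1 := (hCM z).supportDim_eq_depth
      rw [Module.supportDim_self_eq_ringKrullDim, hb] at h1
      exact_mod_cast h1.symm
    · have : Subsingleton (((Scheme.Modules.pushforward j).obj
          (Coh.structureModule Y)).presheaf.stalk y) :=
        ClUnit.subsingleton_stalk_pushforward j _ y
          ⟨(Set.range j)ᶜ, j.isClosedEmbedding.isClosed_range.isOpen_compl⟩ hy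
          (le_bot_iff.mp fun z hz => hz ⟨z, rfl⟩)
      exact RegLoc.PD.pd_of_projective (R := P.presheaf.stalk y)
        (((Scheme.Modules.pushforward j).obj (Coh.structureModule Y)).presheaf.stalk y) (n - s)
  exact HasProjectiveDimensionLT.subsingleton _ (n - s + 1) q (by omega) _

end Groth.Agent.DualAbs
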