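import Groth.Agent.CycLib.SheafSpec
import Groth.Agent.VarDim.Curve
import Groth.Prelude.Def_CohB1
import Mathlib.Topology.KrullDimension
import Mathlib.RingTheory.KrullDimension.Module
import Mathlib.Topology.Sober

/-!
# The dimension of a stalk module and the dimension of the support
-/

universe u

open CategoryTheory AlgebraicGeometry TopologicalSpace

noncomputable section

namespace Groth.Agent.DualAbs

theorem le_iff_specializes {X : Scheme.{u}} (a b : X) : a ≤ b ↔ b ⤳ a := Iff.rfl

/-- `dim M_x + dim {x}⁻ ≤ dim Supp M`. -/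
theorem supportDim_stalk_add_le {X : Scheme.{u}} [IsLocallyNoetherian X] {M : X.Modules}
    (hM : Coh.IsCoh M) (x : X) [Module.Finite (X.presheaf.stalk x) (M.presheaf.stalk x)] :
    Module.supportDim (X.presheaf.stalk x) (M.presheaf.stalk x) + ((Order.height x : ℕ∞) : WithBot ℕ∞) ≤
      topologicalKrullDim ↥(CohB1.support M) := by
  have := hM.1
  let Z := {ζ : X // ζ ∈ CohB1.support M}
  have hZ : IsClosed (CohB1.support M) := by
    have e : CohB1.support M = {x | Nontrivial (M.presheaf.stalk x)} :=
      Set.ext fun y => not_subsingleton_iff_nontrivial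
    rw [e]
    exact CycLib.isClosed_support M hM
  by_cases hx : x ∈ CohB1.support M
  swap
  · have : Subsingleton (M.presheaf.stalk x) := not_not.mp hx
    rw [(Module.supportDim_eq_bot_iff_subsingleton _ _).2 this, WithBot.bot_add]
    exact bot_le
  have : Nonempty Z := ⟨⟨x, hx⟩⟩
  let z : Z := ⟨x, hx⟩
  have hh : Order.height x ≤ Order.height z := by
    refine Order.height_le fun l hl => ?_
    have hmem : ∀ i, l i ∈ CohB1.support M := fun i => by
      have h : l i ≤ x := hl ▸ l.monotone (Fin.le_last i)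
      exact ((le_iff_specializes _ _).1 h).mem_closed hZ hx
    let l' : LTSeries Z := LTSeries.mk l.length (fun i => ⟨l i, hmem i⟩) fun i j h => l.strictMono h
    exact le_of_eq_of_le (rfl : (l.length : ℕ∞) = l'.length)
      (Order.length_le_height (show l'.last ≤ z from hl.le))
  have hc : Module.supportDim (X.presheaf.stalk x) (M.presheaf.stalk x) ≤
      ((Order.coheight z : ℕ∞) : WithBot ℕ∞) := by
    refine iSup_le fun l => ?_
    have hpt : ∀ i, ∃ ζ : Z, x ≤ ζ.1 ∧ ∃ h : ζ.1 ⤳ x, CycLib.ptPrime x ζ.1 h = (l i).1 := fun i => by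
      obtain ⟨ζ, h, hP⟩ := CycLib.exists_ptPrime x (l i).1
      have hn : Nontrivial (M.presheaf.stalk ζ) := by
        rw [CycLib.nontrivial_stalk_iff_le M h]
        have := Module.mem_support_iff_of_finite.1 (l i).2
        rw [← hP] at this
        exact this
      exact ⟨⟨ζ, fun hs => not_subsingleton _ hs⟩, (le_iff_specializes _ _).2 h, h, hP⟩
    choose ζ hxζ h hP using hpt
    let l' : LTSeries Z := LTSeries.mk l.length (fun i => ζ (Fin.rev i)) fun i j hij => by
      have hlt : (l (Fin.rev j)).1 < (l (Fin.rev i)).1 := l.strictMono (Fin.rev_lt_rev.mpr hij)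
      have hs : (ζ (Fin.rev j)).1 ⤳ (ζ (Fin.rev i)).1 := by
        rw [← CycLib.ptPrime_le_iff (h _) (h _)]
        show (CycLib.ptPrime x _ (h _)).asIdeal ≤ (CycLib.ptPrime x _ (h _)).asIdeal
        rw [hP, hP]
        exact hlt.le
      refine lt_of_le_not_ge ((le_iff_specializes _ _).2 hs) fun hge => hlt.not_ge ?_
      rw [← hP, ← hP]
      exact (CycLib.ptPrime_le_iff (h _) (h _)).2 ((le_iff_specializes _ _).1 hge)
    exact WithBot.coe_le_coe.2 (le_of_eq_of_le (rfl : (l.length : ℕ∞) = l'.length)
      (Order.length_le_coheight (show z ≤ l'.head from hxζ _)))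
  let φ : Z → IrreducibleCloseds ↥(CohB1.support M) := fun w =>
    ⟨closure {(⟨w.1, w.2⟩ : ↥(CohB1.support M))}, isIrreducible_singleton.closure, isClosed_closure⟩
  have hsp : ∀ a b : ↥(CohB1.support M), closure {a} ⊆ closure {b} ↔ a.1 ≤ b.1 := fun a b => by
    rw [← specializes_iff_closure_subset, subtype_specializes_iff]
    exact (le_iff_specializes _ _).symm
  have hφ : StrictMono φ := fun a b hab => lt_of_le_not_ge ((hsp _ _).2 hab.le) fun hge =>
    hab.not_ge ((hsp _ _).1 hge)
  calc Module.supportDim (X.presheaf.stalk x) (M.presheaf.stalk x) + ((Order.height x : ℕ∞) : WithBot ℕ∞)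
      ≤ ((Order.coheight z : ℕ∞) : WithBot ℕ∞) + ((Order.height z : ℕ∞) : WithBot ℕ∞) :=
        add_le_add hc (WithBot.coe_le_coe.2 hh)
    _ ≤ Order.krullDim Z := by
        rw [← WithBot.coe_add, add_comm, Order.krullDim_eq_iSup_height_add_coheight_of_nonempty]
        exact WithBot.coe_le_coe.2 (le_iSup (fun a : Z => Order.height a + Order.coheight a) z)
    _ ≤ topologicalKrullDim ↥(CohB1.support M) := Order.krullDim_le_of_strictMono φ hφ

end Groth.Agent.DualAbs
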