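import Groth.Agent.DualAbs.ClosedStalk
import Groth.Agent.DualAbs.CMExt
import Groth.Agent.DualAbs.SuppDim
import Groth.Agent.VBLib.Basic

/-!
# Stalks of the dualizing sheaf of an equidimensional closed subscheme of `P^n`
-/

universe u

open CategoryTheory CategoryTheory.Limits AlgebraicGeometry

noncomputable section

namespace Groth.Agent.DualAbs

set_option maxHeartbeats 1000000
set_option synthInstance.maxHeartbeats 400000

variable {k : Type u} [Field k] {n r : ℕ} {X : Scheme.{u}} (ι : X ⟶ CohB1.ProjSpace n k)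
  [IsClosedImmersion ι]

theorem ringKrullDim_push_eq (hr : r ≤ n)
    (heq : ∀ Z : Set ↥X, Z ∈ irreducibleComponents ↥X → topologicalKrullDim ↥Z = (r : WithBot ℕ∞))
    (x : X) : ringKrullDim (X.presheaf.stalk x) + ((n - r : ℕ) : WithBot ℕ∞) =
      ringKrullDim ((CohB1.ProjSpace n k).presheaf.stalk (ι x)) := by
  letI : (CohB1.ProjSpace n k).Over (Spec (CommRingCat.of k)) := ⟨CohB1.ProjSpace.toSpec n k⟩
  have : LocallyOfFiniteType (CohB1.ProjSpace n k ↘ Spec (CommRingCat.of k)) :=
    ProjTwist.Pn.locallyOfFiniteType_toSpec n k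
  have := S18573.irreducibleSpace_projSpace n k
  obtain ⟨a, b, ha, hb, hab⟩ := dim_stalk_sub_eq (n := n) (s := r) ι k (fun Z hZ => by
    rw [irreducibleComponents_eq_singleton, Set.mem_singleton_iff] at hZ
    subst hZ
    rw [IsHomeomorph.topologicalKrullDim_eq _ (Homeomorph.Set.univ _).isHomeomorph]
    exact S10829.result k n) heq x
  rw [ha, hb]
  exact_mod_cast (show b + (n - r) = a by omega)

theorem ringKrullDim_stalk_generic {X : Scheme.{u}} (x : X)
    (hx : closure ({x} : Set X) ∈ irreducibleComponents X) : ringKrullDim (X.presheaf.stalk x) = 0 := by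
  rw [ringKrullDim_stalk_eq_coheight, show Order.coheight x = 0 from
    Order.coheight_eq_zero.2 fun b hb =>
      (le_iff_specializes _ _).2 ((FlatMor.GenericPts.closure_mem_irreducibleComponents_iff x).1 hx b
        ((le_iff_specializes _ _).1 hb))]
  rfl

end Groth.Agent.DualAbs
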