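import Groth.Agent.DualAbs.Closed
import Groth.Agent.DualAbs.Depth
import Groth.Agent.AuslBuchs.Basic

/-!
# Cohen–Macaulayness of a closed subscheme of `P^N` and negative twists
-/

universe u

open CategoryTheory CategoryTheory.Limits CategoryTheory.Abelian AlgebraicGeometry
open Groth.Agent.ProjTwist Groth.Agent.ProjTwist.Pn Groth.Agent.PullStalk.Sky

noncomputable section

namespace Groth.Agent.DualAbs

set_option maxHeartbeats 1000000
set_option synthInstance.maxHeartbeats 400000

section Stalk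

variable {Z Y : Scheme.{u}} (i : Z ⟶ Y) [IsClosedImmersion i]

/-- Depth of a stalk of a push forward along a closed immersion. -/
theorem depth_push [IsLocallyNoetherian Y] [IsLocallyNoetherian Z] (M : Z.Modules) (z : Z) :
    LocCoh.depth (Y.presheaf.stalk (i z)) (((Scheme.Modules.pushforward i).obj M).presheaf.stalk (i z)) =
      LocCoh.depth (Z.presheaf.stalk z) (M.presheaf.stalk z) := by
  let A := Y.presheaf.stalk (i z)
  let B := Z.presheaf.stalk z
  letI : Algebra A B := (i.stalkMap z).hom.toAlgebra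
  letI : Module A (M.presheaf.stalk z) := Module.compHom _ (algebraMap A B)
  haveI : IsScalarTower A B (M.presheaf.stalk z) := IsScalarTower.of_algebraMap_smul fun _ _ => rfl
  have hs : Function.Surjective (algebraMap A B) := i.stalkMap_surjective z
  let ψ : ((Scheme.Modules.pushforward i).obj M).presheaf.stalk (i z) →ₗ[A] M.presheaf.stalk z :=
    { toFun := TopCat.Presheaf.stalkPushforward AddCommGrpCat i.base M.presheaf z
      map_add' := map_add
        (TopCat.Presheaf.stalkPushforward AddCommGrpCat i.base M.presheaf z).hom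
      map_smul' := fun r t => stalkPushforward_smul i M z r t }
  have hψ : Function.Bijective ψ :=
    ClUnit.stalkPushforward_bijective i _ i.isClosedEmbedding.isInducing z
  rw [Depth.depth_eq_idealDepth, Depth.idealDepth_congr (LinearEquiv.ofBijective ψ hψ),
    ← Depth.idealDepth_map_of_surjective (N := M.presheaf.stalk z) hs (IsLocalRing.maximalIdeal A),
    IsLocalRing.map_maximalIdeal_of_surjective _ hs]
  rfl

end Stalk

variable {N : ℕ} {k : Type u} [Field k] {X : Scheme.{u}} (ι : X ⟶ CohB1.ProjSpace N k)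
  [IsClosedImmersion ι]

/-- Vanishing upstairs and downstairs. -/
theorem subsingleton_twist_iff {F : X.Modules} (hF : Coh.IsCoh F) (m : ℤ) (j : ℕ) :
    Subsingleton (Coh.HH X (CohB1.tensorMod F (pbTwist ι m)) j) ↔
      Subsingleton (Coh.HH (CohB1.ProjSpace N k) (twF ((Scheme.Modules.pushforward ι).obj F) m) j) := by
  obtain ⟨a⟩ := AmpCrit.ProjForm.nonempty_projIso ι F (isInvertible_twistProjSpace N k m)
  have := (isCoh_pbTwist ι m).1
  have := hF.1
  have hq : Coh.IsQCoh (CohB1.tensorMod F (pbTwist ι m)) := LimTop.TensorQC.isQuasicoherent_tensM F _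
  refine ⟨fun h => ?_, fun h => subsingleton_HH_of_push ι hq (subsingleton_HH_iso a h)⟩
  have : Coh.IsQCoh (CohB1.tensorMod F (pbTwist ι m)) := hq
  obtain ⟨e⟩ := S0012.result ι (CohB1.tensorMod F (pbTwist ι m)) j
  exact subsingleton_HH_iso a.symm (@Equiv.subsingleton _ _ e.symm.toEquiv h)

/-- Depth at closed points controls negative twists. -/
theorem exists_vanish_of_depth {F : X.Modules} (hF : Coh.IsCoh F) {n : ℕ}
    (h : ∀ z : X, IsClosed ({z} : Set X) →
      (n : ℕ∞) ≤ LocCoh.depth (X.presheaf.stalk z) (F.presheaf.stalk z)) :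
    ∃ q₀ : ℕ, ∀ q : ℕ, q₀ ≤ q → ∀ j : ℕ, j < n →
      Subsingleton (Coh.HH X (CohB1.tensorMod F (pbTwist ι (-(q : ℤ)))) j) := by
  have := SerrePn.isLocallyNoetherian (n := N) (R := k)
  have := isLocallyNoetherian_source ι
  rcases n with _ | n
  · exact ⟨0, fun _ _ j hj => absurd hj (Nat.not_lt_zero j)⟩
  obtain ⟨m₀, hm₀⟩ := (depth_iff_vanish _ (ProperFin.isCoh_push_of_isFinite ι _ hF) n).mpr fun y hy => by
    by_cases hr : y ∈ Set.range ι
    · obtain ⟨z, rfl⟩ := hr
      have hz : IsClosed ({z} : Set X) := by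
        rw [← ι.isClosedEmbedding.injective.preimage_image (s := ({z} : Set X)), Set.image_singleton]
        exact hy.preimage ι.continuous
      exact lt_of_lt_of_le (by exact_mod_cast Nat.lt_succ_self n) ((h z hz).trans_eq (depth_push ι F z).symm)
    · rw [depth_eq_top (ClUnit.subsingleton_stalk_pushforward ι _ y
        ⟨(Set.range ι)ᶜ, ι.isClosedEmbedding.isClosed_range.isOpen_compl⟩ hr
        (le_bot_iff.mp fun z hz => hz ⟨z, rfl⟩))]
      exact ENat.coe_lt_top n
  refine ⟨m₀.toNat, fun q hq j hj => (subsingleton_twist_iff ι hF _ j).mpr ?_⟩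
  exact hm₀ (q : ℤ) (by omega) j (by omega)

/-- Vanishing for negative twists of `O_X` gives Cohen–Macaulay of dimension `n` at closed points. -/
theorem cm_of_vanish {n : ℕ} (hn : topologicalKrullDim ↥X = n)
    (h : ∃ q₀ : ℕ, ∀ q : ℕ, q₀ ≤ q → ∀ j : ℕ, j < n →
      Subsingleton (Coh.HH X (pbTwist ι (-(q : ℤ))) j)) :
    ∀ x : X, IsClosed ({x} : Set ↥X) →
      LocCoh.IsCohenMacaulayLocalRing (X.presheaf.stalk x) ∧ ringKrullDim (X.presheaf.stalk x) = n := by
  have := SerrePn.isLocallyNoetherian (n := N) (R := k)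
  have := isLocallyNoetherian_source ι
  intro x hx
  have hO : Coh.IsCoh (Coh.structureModule X) := HomShQC.isCoh_structureModule
  obtain ⟨q₀, hq₀⟩ := h
  have hdepth : (n : ℕ∞) ≤ LocCoh.depth (X.presheaf.stalk x) (X.presheaf.stalk x) := by
    rcases n with _ | n
    · exact bot_le
    have hy : IsClosed ({ι x} : Set (CohB1.ProjSpace N k)) := by
      rw [← Set.image_singleton]
      exact ι.isClosedEmbedding.isClosedMap _ hx
    have := (depth_iff_vanish _ (ProperFin.isCoh_push_of_isFinite ι _ hO) n).mp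
      ⟨q₀, fun m hm j hj => by
        obtain ⟨q, rfl⟩ : ∃ q : ℕ, m = q := ⟨m.toNat, by omega⟩
        exact (subsingleton_twist_iff ι hO _ j).mp (@AmpCrit.subsingleton_HH_of_iso _ _ _
          (KFlat.TensorLocFree.unitTensorIso (pbTwist ι (-(q : ℤ)))).symm j
          (hq₀ q (by omega) j (by omega)))⟩ (ι x) hy
    rw [depth_push, Depth.depth_eq_idealDepth,
      Depth.idealDepth_congr (HomShQC.unitStalk x).symm] at this
    rw [Nat.cast_succ]
    exact Order.add_one_le_of_lt this
  have hd : ringKrullDim (X.presheaf.stalk x) ≤ (n : WithBot ℕ∞) :=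
    hn ▸ Props.NormalCM.ringKrullDim_stalk_le X x
  have hle : ((LocCoh.depth (X.presheaf.stalk x) (X.presheaf.stalk x) : ℕ∞) : WithBot ℕ∞) ≤
      ringKrullDim (X.presheaf.stalk x) :=
    (Depth.depth_le_supportDim (R := X.presheaf.stalk x) (M := X.presheaf.stalk x)).trans
      (Module.supportDim_le_ringKrullDim _ _)
  have hnd : (n : WithBot ℕ∞) ≤
      ((LocCoh.depth (X.presheaf.stalk x) (X.presheaf.stalk x) : ℕ∞) : WithBot ℕ∞) := by
    exact_mod_cast hdepth
  refine ⟨⟨?_⟩, le_antisymm hd (hnd.trans hle)⟩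
  rw [Module.supportDim_self_eq_ringKrullDim]
  exact le_antisymm (hd.trans hnd) hle

/-- Free stalks have the depth of the ring. -/
theorem le_depth_stalk {F : X.Modules} (hF : FlatMod.IsFinLocFree F) (hC : Coh.IsCoh F) {n : ℕ}
    (z : X) [IsNoetherianRing (X.presheaf.stalk z)]
    (hd : LocCoh.depth (X.presheaf.stalk z) (X.presheaf.stalk z) = (n : ℕ∞)) :
    (n : ℕ∞) ≤ LocCoh.depth (X.presheaf.stalk z) (F.presheaf.stalk z) := by
  have := hC.1
  obtain ⟨hfree, hfin⟩ := Props.QProj.free_stalk F hF z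
  have h := AuslBuchs.le_depth_free hd
    (Fintype.card (Module.Free.ChooseBasisIndex (X.presheaf.stalk z) (F.presheaf.stalk z)))
  rw [Depth.depth_eq_idealDepth, Depth.idealDepth_congr
    (Module.Free.chooseBasis (X.presheaf.stalk z) (F.presheaf.stalk z)).equivFun]
  rw [Depth.depth_eq_idealDepth] at h
  rwa [Depth.idealDepth_congr (LinearEquiv.funCongrLeft (X.presheaf.stalk z) (X.presheaf.stalk z)
    (Fintype.equivFin _))] at h

theorem isFinLocFree_structureModule (ι : X ⟶ CohB1.ProjSpace N k) :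
    FlatMod.IsFinLocFree (Coh.structureModule X) :=
  KFlat.LocFree.isFinLocFree_of_iso
    ((Scheme.Modules.pullback ι).mapIso (twistZeroIso (CohB1.polyGrading N k)).symm ≪≫
      QCoh.pullbackUnitIso ι)
    (ProjForm.isFinLocFree_of_isInvertible
      (PicCl.isInvertible_pullback ι (isInvertible_twistProjSpace N k 0)))

/-- CM at closed points iff negative twists of bundles have no low cohomology. -/
theorem cm_iff_vanish {n : ℕ} (hn : topologicalKrullDim ↥X = n) :
    (∀ x : X, IsClosed ({x} : Set ↥X) →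
      LocCoh.IsCohenMacaulayLocalRing (X.presheaf.stalk x) ∧ ringKrullDim (X.presheaf.stalk x) = n) ↔
    ∀ F : X.Modules, FlatMod.IsFinLocFree F → ∃ q₀ : ℕ, ∀ q : ℕ, q₀ ≤ q → ∀ j : ℕ, j < n →
      Subsingleton (Coh.HH X (CohB1.tensorMod F (pbTwist ι (-(q : ℤ)))) j) := by
  have := SerrePn.isLocallyNoetherian (n := N) (R := k)
  have := isLocallyNoetherian_source ι
  refine ⟨fun hCM F hF => exists_vanish_of_depth ι (PerfTri.Bounded.isCoh_of_isFinLocFree hF)
    fun z hz => ?_, fun h => cm_of_vanish ι hn ?_⟩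
  · obtain ⟨hc, hd⟩ := hCM z hz
    refine le_depth_stalk hF (PerfTri.Bounded.isCoh_of_isFinLocFree hF) z ?_
    have h1 := hc.supportDim_eq_depth
    rw [Module.supportDim_self_eq_ringKrullDim, hd] at h1
    exact_mod_cast h1.symm
  · obtain ⟨q₀, hq₀⟩ := h _ (isFinLocFree_structureModule ι)
    exact ⟨q₀, fun q hq j hj => @AmpCrit.subsingleton_HH_of_iso _ _ _
      (KFlat.TensorLocFree.unitTensorIso _) j (hq₀ q hq j hj)⟩

end Groth.Agent.DualAbs
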