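import Groth.Agent.DualAbs.ExtStalk
import Groth.Agent.DualAbs.CMCrit
import Groth.Agent.DualCx.GorNormal
import Groth.Agent.InjMod.StalkExt
import Groth.Agent.LocCoh.SupportDimVanish
import Groth.Agent.InjHull.Basic
import Groth.Agent.S2943
import Groth.Agent.S0342
import Groth.Agent.CycLib.FibreDim

/-!
# `Ext` sheaves into invertible modules: vanishing below the codimension, local cohomology form
-/

universe u

open CategoryTheory CategoryTheory.Limits CategoryTheory.Abelian AlgebraicGeometry
open Groth.Agent.ProjTwist Groth.Agent.ProjTwist.Pn Groth.Agent.PullStalk.Sky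

noncomputable section

namespace Groth.Agent.DualAbs

set_option maxHeartbeats 1000000
set_option synthInstance.maxHeartbeats 400000

section Algebra

open IsLocalRing

variable {A : Type u} [CommRing A] [IsLocalRing A]

theorem subsingleton_hom_hull_iff {E : Type u} [AddCommGroup E] [Module A E]
    {f : ResidueField A →ₗ[A] E} (hf : _root_.InjHull.IsInjectiveHull f) (Q : Type u) [AddCommGroup Q]
    [Module A Q] : Subsingleton (Q →ₗ[A] E) ↔ Subsingleton Q := by
  refine ⟨fun h => subsingleton_of_forall_eq 0 fun x => ?_, fun h => ?_⟩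
  · by_contra hx
    have hE : Module.Injective A E := hf.isInjective
    let I := LinearMap.ker (LinearMap.toSpanSingleton A Q x)
    have hI : I ≤ maximalIdeal A := le_maximalIdeal fun htop => hx (by
      simpa [I] using (htop.ge (Submodule.mem_top (x := (1 : A)))))
    let g : (A ⧸ I) →ₗ[A] E := Submodule.liftQ I (f.comp (Algebra.linearMap A (ResidueField A))) fun a ha => by
      rw [LinearMap.mem_ker, LinearMap.comp_apply, Algebra.linearMap_apply,
        ResidueField.algebraMap_eq, (residue_eq_zero_iff a).mpr (hI ha), map_zero]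
    let j : (A ⧸ I) →ₗ[A] Q := Submodule.liftQ I (LinearMap.toSpanSingleton A Q x) le_rfl
    obtain ⟨l, hl⟩ := hE.out j (LinearMap.ker_eq_bot.mp (Submodule.ker_liftQ_eq_bot _ _ _ le_rfl)) g
    have h1 := hl (Submodule.Quotient.mk 1)
    rw [show l = 0 from h.elim _ _] at h1
    have h2 : f (algebraMap A (ResidueField A) 1) = 0 := h1.symm
    have h3 := hf.toIsEssentialInj.injective (h2.trans (map_zero f).symm)
    exact one_ne_zero (α := ResidueField A) ((map_one (algebraMap A (ResidueField A))).symm.trans h3)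
  · exact subsingleton_of_forall_eq 0 fun φ => LinearMap.ext fun x => by
      rw [Subsingleton.elim x 0, map_zero, map_zero]

/-- Local duality, as a vanishing statement. -/
theorem subsingleton_H_iff {A : Type u} [CommRing A] [IsRegularLocalRing A] {r : ℕ}
    (hr : ringKrullDim A = r) (M : Type u) [AddCommGroup M] [Module A M] [Module.Finite A M] {i : ℕ}
    (hi : i ≤ r) :
    Subsingleton (_root_.LocCoh.H (maximalIdeal A) i M) ↔
      Subsingleton (Abelian.Ext (ModuleCat.of A M) (ModuleCat.of A A) (r - i)) := by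
  obtain ⟨E, _, _, f, hf⟩ := InjHull.Basic.exists_isInjectiveHull (R := A) (ResidueField A)
  obtain ⟨e⟩ := S2943.result A r hr E f hf M i hi
  rw [e.toEquiv.subsingleton_congr, subsingleton_hom_hull_iff hf]
  exact (OldExt.oldExtEquiv A (ModuleCat.of A M) (ModuleCat.of A A) (r - i)).toEquiv.subsingleton_congr

end Algebra

section ExtSheaf

variable {X : Scheme.{u}}

theorem isZero_of_stalks {G : X.Modules} (h : ∀ x : X, Subsingleton (G.presheaf.stalk x)) : IsZero G := by
  refine (IsZero.iff_id_eq_zero _).mpr (Scheme.Modules.hom_ext _ _ fun U => ?_)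
  ext m
  exact TopCat.Presheaf.section_ext (⟨G.presheaf, G.isSheaf⟩ : TopCat.Sheaf AddCommGrpCat X) U _ _
    fun x hx => @Subsingleton.elim _ (h x) _ _

/-- Vanishing of an Ext sheaf, stalk by stalk. -/
theorem isZero_extSh_iff [IsLocallyNoetherian X] (F G : X.Modules)
    [ModSite.HasSheafHom (O := X.sheaf) F] [HasInjectiveResolutions (ModSite.Mod X.sheaf)]
    (hF : Coh.IsCoh F) (i : ℕ) :
    IsZero ((ModSite.extSh (O := X.sheaf) F i).obj G) ↔
      ∀ x : X, Subsingleton (Ext ((DerSch.stalkFunctor X x).obj F) ((DerSch.stalkFunctor X x).obj G) i) := by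
  refine ⟨fun h x => ?_, fun h => isZero_of_stalks fun x => ?_⟩
  · obtain ⟨e⟩ := InjMod.nonempty_stalk_extSh_equiv F G (HomShEval.QCoh.isFP_of_isCoh F hF) x i
    have : Subsingleton ((DerSch.stalkFunctor X x).obj ((ModSite.extSh (O := X.sheaf) F i).obj G)) :=
      ModuleCat.subsingleton_of_isZero ((DerSch.stalkFunctor X x).map_isZero h)
    exact e.symm.toEquiv.subsingleton
  · obtain ⟨e⟩ := InjMod.nonempty_stalk_extSh_equiv F G (HomShEval.QCoh.isFP_of_isCoh F hF) x i
    have := h x
    exact e.toEquiv.subsingleton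

end ExtSheaf

variable {N : ℕ} {k : Type u} [Field k]

theorem stalkExtVanish_iff_omega (j : ℕ) (G : (CohB1.ProjSpace N k).Modules) (y : CohB1.ProjSpace N k) :
    StalkExtVanish j G y ↔ Subsingleton (Ext ((DerSch.stalkFunctor (CohB1.ProjSpace N k) y).obj G)
      ((DerSch.stalkFunctor (CohB1.ProjSpace N k) y).obj (SerrePn.omega N k)) j) := by
  rw [stalkExt_iff j G 0 y]
  exact ⟨subsingleton_ext_congr (Iso.refl _) ((DerSch.stalkFunctor _ y).mapIso (twZero _)) j,
    subsingleton_ext_congr (Iso.refl _) ((DerSch.stalkFunctor _ y).mapIso (twZero _).symm) j⟩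

/-- The negative twists against the Ext sheaf into `ω`. -/
theorem vanish_iff_extSh {i j : ℕ} (hij : i + j = N) {F : (CohB1.ProjSpace N k).Modules}
    (hF : Coh.IsCoh F) [ModSite.HasSheafHom (O := (CohB1.ProjSpace N k).sheaf) F]
    [HasInjectiveResolutions (ModSite.Mod (CohB1.ProjSpace N k).sheaf)] :
    (∃ m₀ : ℤ, ∀ m : ℤ, m₀ ≤ m → Subsingleton (Coh.HH (CohB1.ProjSpace N k) (twF F (-m)) i)) ↔
      IsZero ((ModSite.extSh (O := (CohB1.ProjSpace N k).sheaf) F j).obj (SerrePn.omega N k)) := by
  have := SerrePn.isLocallyNoetherian (n := N) (R := k)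
  rw [isZero_extSh_iff F _ hF j]
  obtain ⟨h1, h2⟩ := vanish_iff_stalkExt hij hF
  exact ⟨fun h y => (stalkExtVanish_iff_omega j F y).mp (h1 h y),
    fun h => h2 fun y _ => (stalkExtVanish_iff_omega j F y).mpr (h y)⟩

section Grade

variable {P X : Scheme.{u}} (ι : X ⟶ P) [IsClosedImmersion ι]

/-- The support of the stalk of `ι_* O_X` has at most the dimension of `O_{X,z}`. -/
theorem supportDim_push_le [IsLocallyNoetherian P] (z : X) :
    Module.supportDim (P.presheaf.stalk (ι z))
      (((Scheme.Modules.pushforward ι).obj (Coh.structureModule X)).presheaf.stalk (ι z)) ≤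
      ringKrullDim (X.presheaf.stalk z) := by
  have := LocallyOfFiniteType.isLocallyNoetherian ι
  let A := P.presheaf.stalk (ι z)
  let B := X.presheaf.stalk z
  letI : Algebra A B := (ι.stalkMap z).hom.toAlgebra
  letI : Module A ((Coh.structureModule X).presheaf.stalk z) := Module.compHom _ (algebraMap A B)
  haveI : IsScalarTower A B ((Coh.structureModule X).presheaf.stalk z) :=
    IsScalarTower.of_algebraMap_smul fun _ _ => rfl
  let ψ : ((Scheme.Modules.pushforward ι).obj (Coh.structureModule X)).presheaf.stalk (ι z) →ₗ[A]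
      (Coh.structureModule X).presheaf.stalk z :=
    { toFun := TopCat.Presheaf.stalkPushforward AddCommGrpCat ι.base (Coh.structureModule X).presheaf z
      map_add' := map_add
        (TopCat.Presheaf.stalkPushforward AddCommGrpCat ι.base (Coh.structureModule X).presheaf z).hom
      map_smul' := fun r t => stalkPushforward_smul ι _ z r t }
  have hψ : Function.Bijective ψ :=
    ClUnit.stalkPushforward_bijective ι _ ι.isClosedEmbedding.isInducing z
  let ε : (Coh.structureModule X).presheaf.stalk z ≃ₗ[A] B :=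
    (InjMod.unitStalkEquiv z).symm.restrictScalars A
  have hs : Function.Surjective (Algebra.linearMap A B) := ι.stalkMap_surjective z
  rw [Module.supportDim_eq_of_equiv ((LinearEquiv.ofBijective ψ hψ).trans ε),
    ← Module.supportDim_eq_of_equiv (LinearMap.quotKerEquivOfSurjective _ hs),
    Module.supportDim_quotient_eq_ringKrullDim]
  exact le_of_eq (ringKrullDim_eq_of_ringEquiv
    (RingHom.quotientKerEquivOfSurjective (f := algebraMap A B) hs))

theorem height_map (z : X) : Order.height (ι z) = Order.height z := by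
  have h1 := CycLib.topologicalKrullDim_closure X z
  have h2 := CycLib.topologicalKrullDim_closure P (ι z)
  have e : closure ({ι z} : Set P) = ι '' closure ({z} : Set X) := by
    rw [← ι.isClosedEmbedding.closure_image_eq, Set.image_singleton]
  have h3 : topologicalKrullDim (closure ({ι z} : Set P)) = topologicalKrullDim (closure ({z} : Set X)) := by
    rw [e]
    exact (IsHomeomorph.topologicalKrullDim_eq _
      (ι.isClosedEmbedding.isEmbedding.homeomorphImage _).isHomeomorph).symm
  rw [h1, h2] at h3
  exact_mod_cast h3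

theorem dim_stalk_add_le (k : Type u) [Field k] [P.Over (Spec (CommRingCat.of k))]
    [LocallyOfFiniteType (P ↘ Spec (CommRingCat.of k))] {n r : ℕ}
    (hP : ∀ Z ∈ irreducibleComponents P, topologicalKrullDim Z = (n : WithBot ℕ∞))
    (hr : topologicalKrullDim X + (r : WithBot ℕ∞) ≤ (n : WithBot ℕ∞)) (z : X) :
    ringKrullDim (X.presheaf.stalk z) + (r : WithBot ℕ∞) ≤ ringKrullDim (P.presheaf.stalk (ι z)) := by
  obtain ⟨c, hc, he, -⟩ := FlatOpen.EquiDim.coheight_add_dimPt k
    ((FlatOpen.EquiDim.irreducibleComponents_dimPt_iff k n).mp hP) (ι z)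
  have hh : Order.height z = (VarDim.dimPt k P (ι z) : ℕ∞) := by
    rw [← height_map ι z, VarDim.height_eq_dimPt k (ι z)]
  have : Nonempty X := ⟨z⟩
  have hk : ((Order.height z + Order.coheight z : ℕ∞) : WithBot ℕ∞) ≤ topologicalKrullDim X := by
    rw [show topologicalKrullDim X = Order.krullDim X from
      (@Order.krullDim_eq_of_orderIso _ _ _ _ (irreducibleSetEquivPoints (α := X))),
      Order.krullDim_eq_iSup_height_add_coheight_of_nonempty]
    exact WithBot.coe_le_coe.mpr (le_iSup (fun a : X => Order.height a + Order.coheight a) z)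
  have hall : ((Order.height z + Order.coheight z + r : ℕ∞) : WithBot ℕ∞) ≤ (n : WithBot ℕ∞) :=
    le_trans ((WithBot.coe_add _ _).le.trans (add_le_add hk le_rfl)) hr
  rw [ringKrullDim_stalk_eq_coheight, ringKrullDim_stalk_eq_coheight, hc]
  rw [hh] at hall
  generalize Order.coheight z = c' at hall ⊢
  have hall' : (VarDim.dimPt k P (ι z) : ℕ∞) + c' + (r : ℕ∞) ≤ (n : ℕ∞) := WithBot.coe_le_coe.mp hall
  cases c' with
  | top => simp at hall'
  | coe c' =>
    have h4 : VarDim.dimPt k P (ι z) + c' + r ≤ n := by exact_mod_cast hall'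
    exact_mod_cast (show c' + r ≤ c by omega)

/-- `ℰxt^q(ι_* O_X, E) = 0` below the codimension, `P` regular, `E` locally free. -/
theorem isZero_extSh_of_lt (k : Type u) [Field k] [P.Over (Spec (CommRingCat.of k))]
    [LocallyOfFiniteType (P ↘ Spec (CommRingCat.of k))] [IsLocallyNoetherian P]
    (hreg : ∀ p : P, IsRegularLocalRing (P.presheaf.stalk p)) {n r : ℕ}
    (hP : ∀ Z ∈ irreducibleComponents P, topologicalKrullDim Z = (n : WithBot ℕ∞))
    (hr : topologicalKrullDim X + (r : WithBot ℕ∞) ≤ (n : WithBot ℕ∞))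
    {E : P.Modules} (hE : FlatMod.IsFinLocFree E)
    [ModSite.HasSheafHom (O := P.sheaf) ((Scheme.Modules.pushforward ι).obj (Coh.structureModule X))]
    [HasInjectiveResolutions (ModSite.Mod P.sheaf)] {q : ℕ} (hq : q < r) :
    IsZero ((ModSite.extSh (O := P.sheaf)
      ((Scheme.Modules.pushforward ι).obj (Coh.structureModule X)) q).obj E) := by
  have := LocallyOfFiniteType.isLocallyNoetherian ι
  have hM : Coh.IsCoh ((Scheme.Modules.pushforward ι).obj (Coh.structureModule X)) :=
    ProperFin.isCoh_push_of_isFinite ι _ HomShQC.isCoh_structureModule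
  rw [isZero_extSh_iff _ E hM q]
  intro y
  let M := (DerSch.stalkFunctor P y).obj ((Scheme.Modules.pushforward ι).obj (Coh.structureModule X))
  by_cases hy : y ∈ Set.range ι
  · obtain ⟨z, rfl⟩ := hy
    have := hreg (ι z)
    have : _root_.LocCoh.IsGorensteinLocalRing (P.presheaf.stalk (ι z)) := S0342.result _
    obtain ⟨c, hc, -, -⟩ := FlatOpen.EquiDim.coheight_add_dimPt k
      ((FlatOpen.EquiDim.irreducibleComponents_dimPt_iff k n).mp hP) (ι z)
    have hd : ringKrullDim (P.presheaf.stalk (ι z)) = c := by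
      rw [ringKrullDim_stalk_eq_coheight, hc]
      rfl
    have hfin : Module.Finite (P.presheaf.stalk (ι z))
        (((Scheme.Modules.pushforward ι).obj (Coh.structureModule X)).presheaf.stalk (ι z)) := by
      obtain ⟨_, ⟨U, hU, rfl⟩, hyU, -⟩ := P.isBasis_affineOpens.exists_subset_of_mem_open
        (Set.mem_univ (ι z)) isOpen_univ
      have := hM.1
      have := CohDev.finite_sections hM hU
      exact Props.QProj.finite_stalk _ hU hyU
    have h0 := DualCx.GorNormal.subsingleton_ext hd
      (((Scheme.Modules.pushforward ι).obj (Coh.structureModule X)).presheaf.stalk (ι z)) r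
      (le_trans (add_le_add (supportDim_push_le ι z) le_rfl) (dim_stalk_add_le ι k hP hr z)) q hq
    have := (PerfTri.Bounded.isCoh_of_isFinLocFree hE).1
    obtain ⟨hfree, hfinE⟩ := Props.QProj.free_stalk E hE (ι z)
    refine subsingleton_ext_congr (Iso.refl _)
      (((Module.Free.chooseBasis (P.presheaf.stalk (ι z)) (E.presheaf.stalk (ι z))).equivFun.trans
        (LinearEquiv.funCongrLeft (P.presheaf.stalk (ι z)) (P.presheaf.stalk (ι z))
          (Fintype.equivFin _).symm)).symm.toModuleIso) q
      (ExtVanish.subsingleton_ext_pi h0 _)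
  · have hz : Subsingleton M :=
      ClUnit.subsingleton_stalk_pushforward ι _ y
        ⟨(Set.range ι)ᶜ, ι.isClosedEmbedding.isClosed_range.isOpen_compl⟩ hy
        (le_bot_iff.mp fun z hz => hz ⟨z, rfl⟩)
    have hM0 : IsZero M := ModuleCat.isZero_of_subsingleton _
    exact subsingleton_of_forall_eq 0 fun e => by
      rw [← Ext.mk₀_id_comp e, hM0.eq_of_src (𝟙 _) 0, Ext.mk₀_zero, Ext.zero_comp]

end Grade

end Groth.Agent.DualAbs
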