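import Groth.Agent.DualAbs.SuppDim
import Groth.Agent.DualAbs.ExtCor
import Groth.Agent.FlatMisc.FibreDimScheme
import Groth.Agent.S11919
import Groth.Agent.SpSeqLib.Basic
import Groth.Agent.AmpCrit.TwistDev
import Groth.Agent.S2768
import Groth.Agent.CurveDVR.Stalk

/-!
# Global Ext groups below the codimension of the support
-/

universe u

open CategoryTheory CategoryTheory.Limits CategoryTheory.Abelian AlgebraicGeometry

noncomputable section

namespace Groth.Agent.DualAbs

set_option maxHeartbeats 1000000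
set_option synthInstance.maxHeartbeats 400000

/-- An abutment vanishes when the whole antidiagonal does. -/
theorem isZero_of_antidiagonal {C : Type (u + 1)} [Category.{u} C] [Abelian C]
    (E : E₂CohomologicalSpectralSequence C) {H : ℤ → C} (a : SpSeq.Abutment E H) (n : ℤ)
    (hfin : a.IsFinite n) (hz : ∀ p q : ℤ, p + q = n → IsZero ((E.page 2 le_rfl).X (p, q))) :
    IsZero (H n) := by
  obtain ⟨⟨l, hl⟩, ⟨h, hh⟩⟩ := hfin
  have hl' : a.fil n l = ⊤ := hl
  have hh' : a.fil n h = ⊥ := hh
  have hp : ∀ p, IsZero (SpSeq.grPiece (a.fil n) (a.anti n) p) := fun p => by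
    have := SpSeqLib.isZero_grPiece E a 2 le_rfl (p, n - p) (hz p (n - p) (add_sub_cancel p n))
    dsimp only at this
    rwa [show p + (n - p) = n by omega] at this
  have e : (⊤ : Subobject (H n)) ≤ ⊥ := by
    rw [← hl', ← hh']
    rcases le_total l h with hlh | hlh
    · exact (SpSeqLib.eq_of_grPiece_isZero _ (a.anti n) l h hlh fun s _ _ => hp s).ge
    · exact a.anti n hlh
  rw [IsZero.iff_id_eq_zero]
  have : IsIso ((⊥ : Subobject (H n)).arrow) :=
    (Subobject.isIso_arrow_iff_eq_top _).2 (top_le_iff.1 e)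
  rw [← cancel_epi ((⊥ : Subobject (H n)).arrow), Category.comp_id, comp_zero]
  exact Subobject.bot_arrow

variable (k : Type u) [Field k] {X : Scheme.{u}} [X.Over (Spec (CommRingCat.of k))]

theorem localDim_eq_of_smooth {n : ℕ} [SmoothOfRelativeDimension n (X ↘ Spec (CommRingCat.of k))] (x : X) :
    FlatMor.localDim X x = (n : WithBot ℕ∞) := by
  let f := X ↘ Spec (CommRingCat.of k)
  have h := S2768.result n f x
  rw [FlatMisc.FibreDimScheme.fibreDimAt_eq] at h
  have hu : (f ⁻¹' {f x}) = Set.univ := Set.eq_univ_of_forall fun y =>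
    show f y = f x from Subsingleton.elim (α := PrimeSpectrum k) _ _
  let e : ↥(f ⁻¹' {f x}) ≃ₜ X := (Homeomorph.setCongr hu).trans (Homeomorph.Set.univ X)
  refine le_antisymm ?_ ?_
  · rw [← h]
    exact FlatMisc.FibreDimScheme.localDim_homeo e ⟨x, rfl⟩
  · rw [← h]
    exact FlatMisc.FibreDimScheme.localDim_homeo e.symm x

theorem ringKrullDim_stalk_smooth {n : ℕ} [SmoothOfRelativeDimension n (X ↘ Spec (CommRingCat.of k))]
    (x : X) : ∃ a b : ℕ, ringKrullDim (X.presheaf.stalk x) = a ∧ Order.height x = b ∧ a + b = n := by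
  have : Smooth (X ↘ Spec (CommRingCat.of k)) :=
    SmoothOfRelativeDimension.smooth (n := n) (X ↘ Spec (CommRingCat.of k))
  obtain ⟨c, hc, hld⟩ := VarDim.localDim_eq_coheight_add k x
  rw [localDim_eq_of_smooth k (n := n) x] at hld
  refine ⟨c, VarDim.dimPt k X x, ?_, VarDim.height_eq_dimPt k x, by exact_mod_cast hld.symm⟩
  rw [ringKrullDim_stalk_eq_coheight, hc]
  rfl

theorem subsingleton_ext_of_codim {n : ℕ}
    [SmoothOfRelativeDimension n (X ↘ Spec (CommRingCat.of k))] [HasExt.{u} X.Modules]
    {F : X.Modules} (hF : Coh.IsCoh F) {L : X.Modules} (hL : FlatMod.IsFinLocFree L) {p : ℕ}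
    (hsupp : topologicalKrullDim ↥(CohB1.support F) + (p : WithBot ℕ∞) ≤ (n : WithBot ℕ∞)) {i : ℕ}
    (hi : i < p) : Subsingleton (Ext F L i) := by
  have : Smooth (X ↘ Spec (CommRingCat.of k)) :=
    SmoothOfRelativeDimension.smooth (n := n) (X ↘ Spec (CommRingCat.of k))
  have := LocallyOfFiniteType.isLocallyNoetherian (X ↘ Spec (CommRingCat.of k))
  have : ModSite.HasSheafHom (O := X.sheaf) F := KFlat.hasSheafHom _ _
  haveI : EnoughInjectives (ModSite.Mod X.sheaf) := GrothSS.Main.enoughInjectives
  haveI : HasInjectiveResolutions (ModSite.Mod X.sheaf) := inferInstance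
  have hzero : ∀ q < p, IsZero ((ModSite.extSh (O := X.sheaf) F q).obj L) := fun q hq => by
    rw [isZero_extSh_iff F L hF q]
    intro x
    have hreg : IsRegularLocalRing (X.presheaf.stalk x) :=
      CurveDVR.isRegularLocalRing_stalk (X ↘ Spec (CommRingCat.of k)) x
    have : _root_.LocCoh.IsGorensteinLocalRing (X.presheaf.stalk x) := S0342.result _
    obtain ⟨a, b, ha, hb, hab⟩ := ringKrullDim_stalk_smooth k (n := n) x
    have hfin : Module.Finite (X.presheaf.stalk x) (F.presheaf.stalk x) := by
      obtain ⟨_, ⟨U, hU, rfl⟩, hxU, -⟩ := X.isBasis_affineOpens.exists_subset_of_mem_open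
        (Set.mem_univ x) isOpen_univ
      have := hF.1
      have := CohDev.finite_sections hF hU
      exact Props.QProj.finite_stalk _ hU hxU
    have hd : Module.supportDim (X.presheaf.stalk x) (F.presheaf.stalk x) + (p : WithBot ℕ∞) ≤
        (a : WithBot ℕ∞) := by
      have h := supportDim_stalk_add_le hF x
      rw [hb] at h
      generalize Module.supportDim (X.presheaf.stalk x) (F.presheaf.stalk x) = d at h ⊢
      have h2 := le_trans (add_le_add h le_rfl) hsupp
      cases d with
      | bot => rw [WithBot.bot_add]; exact bot_le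
      | coe d =>
        have h3 : d + (b : ℕ∞) + (p : ℕ∞) ≤ (n : ℕ∞) := WithBot.coe_le_coe.mp h2
        cases d with
        | top => simp at h3
        | coe d =>
          have : d + b + p ≤ n := by exact_mod_cast h3
          exact_mod_cast (show d + p ≤ a by omega)
    rw [← ha] at hd
    have h0 := DualCx.GorNormal.subsingleton_ext ha (F.presheaf.stalk x) p hd q hq
    have := (PerfTri.Bounded.isCoh_of_isFinLocFree hL).1
    obtain ⟨hfree, hfinL⟩ := Props.QProj.free_stalk L hL x
    exact subsingleton_ext_congr (Iso.refl _)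
      (((Module.Free.chooseBasis (X.presheaf.stalk x) (L.presheaf.stalk x)).equivFun.trans
        (LinearEquiv.funCongrLeft (X.presheaf.stalk x) (X.presheaf.stalk x)
          (Fintype.equivFin _).symm)).symm.toModuleIso) q
      (ExtVanish.subsingleton_ext_pi h0 _)
  obtain ⟨E, a, hfin, -, hE⟩ := S11919.result X F L
  have h := isZero_of_antidiagonal E a (i : ℤ) (hfin _) fun p' q' hpq => by
    obtain ⟨e⟩ := hE p' q'
    refine IsZero.of_iso ?_ e
    split_ifs with hc
    · obtain ⟨hp0, hq0⟩ := hc
      have := AmpCrit.TwistDev.subsingleton_HH_of_isZero (hzero q'.toNat (by omega)) p'.toNat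
      exact AddCommGrpCat.isZero_of_subsingleton _
    · exact isZero_zero _
  rw [if_pos (Int.natCast_nonneg i), Int.toNat_natCast] at h
  exact AddCommGrpCat.subsingleton_of_isZero h

end Groth.Agent.DualAbs
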