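import Groth.Agent.CohBase.PushEdge
import Groth.Agent.CohLES.Basic
import Groth.Prelude.Def_KLin

/-!
# `H^p(Y, f_* G) ≅ H^p(X, G)` for affine `f`, linearly and naturally
-/

open CategoryTheory CategoryTheory.Limits AlgebraicGeometry TopologicalSpace

universe u

noncomputable section

namespace Groth.Agent.DualAbs

open CohBase.PushEdge

variable (k : Type u) [CommRing k] {X Y : Scheme.{u}} [X.Over (Spec (CommRingCat.of k))]
  [Y.Over (Spec (CommRingCat.of k))] (f : X ⟶ Y) [f.IsOver (Spec (CommRingCat.of k))]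

omit [X.Over (Spec (CommRingCat.of k))] [Y.Over (Spec (CommRingCat.of k))]
  [f.IsOver (Spec (CommRingCat.of k))] in
theorem pushEdge_map {G G' : X.Modules} (φ : G ⟶ G') (p : ℕ)
    (x : Coh.HH Y ((Scheme.Modules.pushforward f).obj G) p) :
    CohPull.pushEdge f G' p (Sheaf.H.map
        ((ModShf.toAbFunctor Y).map ((Scheme.Modules.pushforward f).map φ)) p x) =
      Sheaf.H.map ((ModShf.toAbFunctor X).map φ) p (CohPull.pushEdge f G p x) := by
  rw [pushEdge_eq, pushEdge_eq]
  exact CohBase.edge_map f.base (edgeNat f) φ p x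

theorem push_map_smulMod (G : X.Modules) (a : k) :
    (Scheme.Modules.pushforward f).map (Formal.smulMod k G a) =
      Formal.smulMod k ((Scheme.Modules.pushforward f).obj G) a := by
  rw [← KLin.smul_id, ← KLin.smul_id, Functor.map_smul]
  exact congrArg (a • ·) ((Scheme.Modules.pushforward f).map_id G)

/-- The edge map, as a linear map. -/
def pushEdgeL (G : X.Modules) (p : ℕ) :
    Coh.HH Y ((Scheme.Modules.pushforward f).obj G) p →ₗ[k] Coh.HH X G p where
  toFun := CohPull.pushEdge f G p
  map_add' := map_add _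
  map_smul' a x := by
    rw [RingHom.id_apply]
    show CohPull.pushEdge f G p (Sheaf.H.map ((ModShf.toAbFunctor Y).map
        (Formal.smulMod k ((Scheme.Modules.pushforward f).obj G) a)) p x) =
      Sheaf.H.map ((ModShf.toAbFunctor X).map (Formal.smulMod k G a)) p (CohPull.pushEdge f G p x)
    rw [← push_map_smulMod k f G a, pushEdge_map]

theorem pushEdgeL_mapL {G G' : X.Modules} (φ : G ⟶ G') (p : ℕ)
    (x : Coh.HH Y ((Scheme.Modules.pushforward f).obj G) p) :
    pushEdgeL k f G' p (CohLES.mapL k ((Scheme.Modules.pushforward f).map φ) p x) =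
      CohLES.mapL k φ p (pushEdgeL k f G p x) :=
  pushEdge_map f φ p x

theorem pushEdgeL_bijective [IsAffineHom f] [HasInjectiveResolutions X.Modules] (G : X.Modules)
    (hG : Coh.IsQCoh G) (p : ℕ) : Function.Bijective (pushEdgeL k f G p) :=
  have : G.IsQuasicoherent := hG
  bijective f p G fun q => isZero_Rpush_of_isAffineHom f G q

/-- The edge isomorphism. -/
def pushEquiv [IsAffineHom f] [HasInjectiveResolutions X.Modules] (G : X.Modules)
    (hG : Coh.IsQCoh G) (p : ℕ) :
    Coh.HH Y ((Scheme.Modules.pushforward f).obj G) p ≃ₗ[k] Coh.HH X G p :=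
  LinearEquiv.ofBijective (pushEdgeL k f G p) (pushEdgeL_bijective k f G hG p)

end Groth.Agent.DualAbs
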