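import Groth.Agent.DualAbs.Basic
import Groth.Agent.SerrePn.ExtDual
import Mathlib.Algebra.Homology.DerivedCategory.Ext.Map

/-!
# The Yoneda pairing `Ext^i(F, ω) × H^q(F) → H^n(ω) → k`
-/

open CategoryTheory CategoryTheory.Limits AlgebraicGeometry CategoryTheory.Abelian

universe u

noncomputable section

namespace Groth.Agent.DualAbs

set_option maxHeartbeats 1000000
set_option synthInstance.maxHeartbeats 400000

variable {k : Type u} [Field k] {X : Scheme.{u}} [X.Over (Spec (CommRingCat.of k))] {n : ℕ}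
  {ω : X.Modules} [HasExt.{u} X.Modules]

theorem mapL_smulMod (M : X.Modules) (a : k) (q : ℕ) (x : Coh.HH X M q) :
    CohLES.mapL k (Formal.smulMod k M a) q x = a • x := rfl

theorem comp_smulMod {M : X.Modules} {i : ℕ} (a : k) (x : Ext M ω i) :
    (Ext.mk₀ (Formal.smulMod k M a)).comp x (zero_add i) = a • x := by
  rw [← KLin.smul_id (A := k) M a, Ext.mk₀_smul, Ext.smul_comp, Ext.mk₀_id_comp]

theorem smulMod_comp {M : X.Modules} {i : ℕ} (a : k) (x : Ext M ω i) :
    x.comp (Ext.mk₀ (Formal.smulMod k ω a)) (add_zero i) = a • x := by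
  rw [← KLin.smul_id (A := k) ω a, Ext.smul_eq_comp_mk₀]

variable (k) in
/-- An extension class moves cohomology up. -/
def yon {M : X.Modules} {i q : ℕ} (h : q + i = n) (x : Ext M ω i) :
    Coh.HH X M q →ₗ[k] Coh.HH X ω n where
  toFun y := Ext.comp y (x.mapExactFunctor (ModShf.toAbFunctor X)) h
  map_add' y z := Ext.add_comp _ _ _ _
  map_smul' a y := by
    rw [← mapL_smulMod M a q y, RingHom.id_apply, ← mapL_smulMod ω a n]
    show Ext.comp (Ext.comp y (Ext.mk₀ ((ModShf.toAbFunctor X).map (Formal.smulMod k M a)))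
        (add_zero q)) (x.mapExactFunctor (ModShf.toAbFunctor X)) h =
      Ext.comp (Ext.comp y (x.mapExactFunctor (ModShf.toAbFunctor X)) h)
        (Ext.mk₀ ((ModShf.toAbFunctor X).map (Formal.smulMod k ω a))) (add_zero n)
    rw [← Ext.mapExactFunctor_mk₀, ← Ext.mapExactFunctor_mk₀, Ext.comp_assoc_of_second_deg_zero,
      Ext.comp_assoc_of_third_deg_zero, ← Ext.mapExactFunctor_comp, ← Ext.mapExactFunctor_comp,
      comp_smulMod, smulMod_comp]

theorem yon_apply {M : X.Modules} {i q : ℕ} (h : q + i = n) (x : Ext M ω i) (y : Coh.HH X M q) :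
    yon k h x y = Ext.comp y (x.mapExactFunctor (ModShf.toAbFunctor X)) h := rfl

variable (t : Coh.HH X ω n →ₗ[k] k)

/-- The Yoneda pairing followed by the trace. -/
def yPair {M : X.Modules} {i q : ℕ} (h : q + i = n) :
    Ext M ω i →ₗ[k] Module.Dual k (Coh.HH X M q) where
  toFun x := t.comp (yon k h x)
  map_add' x x' := LinearMap.ext fun y => by
    rw [LinearMap.add_apply, LinearMap.comp_apply, LinearMap.comp_apply, LinearMap.comp_apply,
      yon_apply, yon_apply, yon_apply, Ext.mapExactFunctor_add, Ext.comp_add, map_add]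
  map_smul' a x := LinearMap.ext fun y => by
    rw [RingHom.id_apply, LinearMap.smul_apply, LinearMap.comp_apply, LinearMap.comp_apply,
      ← map_smul, ← map_smul, ← mapL_smulMod M a q y, ← comp_smulMod a x]
    congr 1
    rw [yon_apply, yon_apply, CohLES.mapL_apply]
    show _ = Ext.comp (Ext.comp y (Ext.mk₀ ((ModShf.toAbFunctor X).map (Formal.smulMod k M a)))
      (add_zero q)) _ h
    rw [Ext.mapExactFunctor_comp, Ext.mapExactFunctor_mk₀, Ext.comp_assoc_of_second_deg_zero]

theorem yPair_apply {M : X.Modules} {i q : ℕ} (h : q + i = n) (x : Ext M ω i) (y : Coh.HH X M q) :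
    yPair t h x y = t (yon k h x y) := rfl

theorem yPair_comp {M N : X.Modules} (f : M ⟶ N) {i q : ℕ} (h : q + i = n) (x : Ext N ω i) :
    yPair t h ((Ext.mk₀ f).comp x (zero_add i)) = (CohLES.mapL k f q).dualMap (yPair t h x) := by
  refine LinearMap.ext fun y => ?_
  show t (yon k h _ y) = t (yon k h x (CohLES.mapL k f q y))
  congr 1
  show Ext.comp y _ h = Ext.comp (Ext.comp y (Ext.mk₀ ((ModShf.toAbFunctor X).map f)) (add_zero q)) _ h
  rw [Ext.mapExactFunctor_comp, Ext.mapExactFunctor_mk₀, Ext.comp_assoc_of_second_deg_zero]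

theorem yPair_extClass {S : ShortComplex X.Modules} (hS : S.ShortExact) {i j q q' : ℕ}
    (hq : q + 1 = q') (hj : 1 + i = j) (h : q' + i = n) (x : Ext S.X₁ ω i) :
    yPair t (show q + j = n by omega) (hS.extClass.comp x hj) =
      (CohLES.δL k hS q q' hq).dualMap (yPair t h x) := by
  refine LinearMap.ext fun y => ?_
  show t (yon k (show q + j = n by omega) _ y) = t (yon k h x (CohLES.δL k hS q q' hq y))
  congr 1
  show Ext.comp y ((hS.extClass.comp x hj).mapExactFunctor (ModShf.toAbFunctor X))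
      (show q + j = n by omega) =
    Ext.comp (Ext.comp y (CohLES.shortExact_map hS).extClass hq)
      (x.mapExactFunctor (ModShf.toAbFunctor X)) h
  rw [Ext.mapExactFunctor_comp, Ext.mapExactFunctor_extClass]
  exact (Ext.comp_assoc _ _ _ _ _ (by omega)).symm

theorem yPair_mk₀ {M : X.Modules} (φ : M ⟶ ω) :
    yPair t (add_zero n) (Ext.mk₀ φ) = pairing k n ω t M φ := by
  refine LinearMap.ext fun y => ?_
  rw [yPair_apply, yon_apply, Ext.mapExactFunctor_mk₀]
  rfl

/-- Covers effacing `Ext^i(-, ω)`, `1 ≤ i ≤ s`, and the cohomology in degrees `n - s, …, n - 1`. -/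
def HasRangeCovers (k : Type u) [Field k] [X.Over (Spec (CommRingCat.of k))] (n s : ℕ)
    (ω : X.Modules) : Prop :=
  ∀ F : X.Modules, Coh.IsCoh F → ∃ (E : X.Modules) (g : E ⟶ F), Epi g ∧ Coh.IsCoh E ∧
    (∀ q < n, n ≤ q + s → Subsingleton (Coh.HH X E q)) ∧ ∀ i < s, Subsingleton (Ext E ω (i + 1))

variable {t}

theorem yPair_zero_bijective (h : IsDualizing k n ω t) (F : X.Modules) (hF : Coh.IsCoh F) {q : ℕ}
    (hq : q + 0 = n) : Function.Bijective (yPair (M := F) t hq) := by
  obtain rfl : q = n := by omega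
  have : ∀ φ, yPair t hq (Ext.mk₀ φ) = pairing k q ω t F φ := fun φ => yPair_mk₀ t φ
  refine ⟨fun x y hxy => ?_, fun ψ => ?_⟩
  · obtain ⟨a, rfl⟩ := (Ext.mk₀_bijective _ _).2 x
    obtain ⟨b, rfl⟩ := (Ext.mk₀_bijective _ _).2 y
    rw [this, this] at hxy
    rw [(pairing_bijective h F hF).1 hxy]
  · obtain ⟨φ, hφ⟩ := (pairing_bijective h F hF).2 ψ
    exact ⟨Ext.mk₀ φ, (this φ).trans hφ⟩

/-- Duality in the range given by the covers. -/
theorem yPair_bijective [IsLocallyNoetherian X] (h : IsDualizing k n ω t) {s : ℕ}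
    (hc : HasRangeCovers k n s ω) : ∀ (i : ℕ), i ≤ s → ∀ (F : X.Modules), Coh.IsCoh F →
      ∀ (q : ℕ) (hq : q + i = n), Function.Bijective (yPair (M := F) t hq) := by
  intro i
  induction i with
  | zero => exact fun _ F hF q hq => yPair_zero_bijective h F hF hq
  | succ i ih =>
    intro his F hF q hq
    obtain ⟨E, g, hg, hE, hE₁, hE₂⟩ := hc F hF
    have hS : (ShortComplex.mk (kernel.ι g) g (kernel.condition g)).ShortExact :=
      { exact := ShortComplex.exact_of_f_is_kernel _ (kernelIsKernel g) }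
    have hK : Coh.IsCoh (kernel g) := CohDev.isCoh_kernel g hE hF.1
    have hi : (q + 1) + i = n := by omega
    have hδ : Function.Injective (CohLES.δL k hS q (q + 1) rfl) := by
      refine (injective_iff_map_eq_zero _).mpr fun x hx => ?_
      have := hE₁ q (by omega) (by omega)
      obtain ⟨y, rfl⟩ := CohLES.exact₃ k hS rfl x hx
      rw [Subsingleton.elim (α := Coh.HH X E q) y 0]
      exact map_zero _
    have hsurj : ∀ x : Ext F ω (i + 1), ∃ z : Ext (kernel g) ω i,
        hS.extClass.comp z (add_comm 1 i) = x := fun x => by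
      have := hE₂ i (by omega)
      exact Ext.contravariant_sequence_exact₃ hS _ x
        (Subsingleton.elim (α := Ext E ω (i + 1)) _ _) (add_comm 1 i)
    refine ⟨(injective_iff_map_eq_zero _).mpr fun x hx => ?_, fun ψ => ?_⟩
    · obtain ⟨z, rfl⟩ := hsurj x
      rw [yPair_extClass t hS rfl (add_comm 1 i) hi] at hx
      have hz : yPair t hi z ∈ LinearMap.range (CohLES.mapL k (kernel.ι g) (q + 1)).dualMap := by
        rw [LinearMap.range_dualMap_eq_dualAnnihilator_ker, Submodule.mem_dualAnnihilator]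
        intro y hy
        obtain ⟨w, rfl⟩ := CohLES.exact₁ k hS (rfl : q + 1 = q + 1) y hy
        exact LinearMap.congr_fun hx w
      obtain ⟨χ, hχ⟩ := hz
      obtain ⟨w, rfl⟩ := (ih (by omega) E hE (q + 1) hi).2 χ
      have : z = (Ext.mk₀ (kernel.ι g)).comp w (zero_add i) :=
        (ih (by omega) _ hK (q + 1) hi).1 ((yPair_comp t (kernel.ι g) hi w).trans hχ).symm
      rw [this, ← Ext.comp_assoc hS.extClass (Ext.mk₀ (kernel.ι g)) w (add_zero 1) (zero_add i)
        (by omega)]
      exact (congrArg (fun e => Ext.comp e w (add_comm 1 i)) hS.extClass_comp).trans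
        (Ext.zero_comp ..)
    · obtain ⟨χ, hχ⟩ := LinearMap.dualMap_surjective_of_injective hδ ψ
      obtain ⟨z, rfl⟩ := (ih (by omega) _ hK (q + 1) hi).2 χ
      exact ⟨hS.extClass.comp z (add_comm 1 i),
        (yPair_extClass t hS rfl (add_comm 1 i) hi z).trans hχ⟩

theorem nonempty_ext_equiv_dual [IsLocallyNoetherian X] (h : IsDualizing k n ω t) {s : ℕ}
    (hc : HasRangeCovers k n s ω) {i : ℕ} (hi : i ≤ s) (hin : i ≤ n) (F : X.Modules)
    (hF : Coh.IsCoh F) : Nonempty (Ext F ω i ≃ₗ[k] Module.Dual k (Coh.HH X F (n - i))) :=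
  ⟨LinearEquiv.ofBijective _ (yPair_bijective h hc i hi F hF (n - i) (Nat.sub_add_cancel hin))⟩

theorem HasAcyclicCovers.range (hc : HasAcyclicCovers n ω) (s : ℕ) :
    HasRangeCovers k n s ω := fun F hF =>
  let ⟨E, g, hg, hE, h₁, h₂⟩ := hc F hF
  ⟨E, g, hg, hE, fun q hq _ => h₁ q hq, fun i _ => h₂ i⟩

end Groth.Agent.DualAbs
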