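import Groth.Agent.DualAbs.AdjExt
import Groth.Agent.DualAbs.Yoneda
import Groth.Agent.DualAbs.PushCoh
import Groth.Agent.DualAbs.ExtCor
import Groth.Agent.ChgRings.Derived
import Groth.Agent.SiteCoh.ExtDerived
import Groth.Agent.GrothSS.Main
import Groth.Agent.S10943
import Groth.Agent.ZClosLib.CohDescent

/-!
# The dualizing sheaf of a closed subscheme of `P^N` as an Ext sheaf
-/

universe u

open CategoryTheory CategoryTheory.Limits CategoryTheory.Abelian AlgebraicGeometry MonoidalCategory
open Groth.Agent.ProjTwist Groth.Agent.ProjTwist.Pn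

noncomputable section

namespace Groth.Agent.DualAbs

set_option maxHeartbeats 1000000
set_option synthInstance.maxHeartbeats 400000

section Unit

variable {X : Scheme.{u}}

/-- `- ⊗ O` is the identity. -/
def tensRUnitIso : ChgRings.tensR (X := X) (Coh.structureModule X) ≅ 𝟭 X.Modules :=
  NatIso.ofComponents (fun A => ChgRings.commIso A _ ≪≫ KFlat.TensorLocFree.unitTensorIso A)
    (fun {A B} f => by
      refine (Category.assoc _ _ _).symm.trans ?_
      refine Eq.trans ?_ (Category.assoc _ _ _).symm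
      refine (congrArg (· ≫ _) ?_).trans ((Category.assoc _ _ _).trans
        (congrArg (_ ≫ ·) (SerrePn.unitTensor_natural f)))
      refine ((ModSite.shPre X.sheaf).map_comp _ _).symm.trans
        (Eq.trans ?_ ((ModSite.shPre X.sheaf).map_comp _ _))
      exact congrArg _ (BraidedCategory.braiding_naturality_left _ _))

variable {P : Scheme.{u}} (ι : X ⟶ P) [IsClosedImmersion ι]

/-- `ι_*` is left adjoint to the change of rings functor. -/
def pushAdj : Scheme.Modules.pushforward ι ⊣ ChgRings.T ι (Coh.structureModule X) :=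
  (ChgRings.adjT ι (Coh.structureModule X)).ofNatIsoLeft
    (Functor.isoWhiskerRight tensRUnitIso (Scheme.Modules.pushforward ι) ≪≫ Functor.leftUnitor _)

theorem isCoh_of_push {M : X.Modules}
    (h : Coh.IsCoh ((Scheme.Modules.pushforward ι).obj M)) : Coh.IsCoh M :=
  have := Props.KilledSub.isIso_counit ι M
  CohDev.isCoh_of_iso (asIso ((Scheme.Modules.pullbackPushforwardAdjunction ι).counit.app M))
    (ZClosLib.CohDescent.isCoh_pullback ι _ h)

end Unit

variable {N : ℕ} {k : Type u} [Field k]

theorem isDualizing_projSpace :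
    IsDualizing k N (SerrePn.omega N k) (SerrePn.trace N k) := fun F hF ψ =>
  SerrePn.existsUnique_trace F hF ψ

theorem hasAcyclicCovers_projSpace [HasExt.{u} (CohB1.ProjSpace N k).Modules] :
    HasAcyclicCovers N (SerrePn.omega N k) := fun F hF => by
  obtain ⟨κ, hκ, d, π, hπ, hd⟩ := SerrePn.exists_epi F hF (N + 1)
  exact ⟨SerrePn.negSum (n := N) (k := k) d, π, hπ,
    SerrePn.isCoh_coprod _ fun j => SerrePn.isCoh_twist _,
    fun q hq => SerrePn.subsingleton_HH_negSum d hd q hq,
    fun i => SerrePn.subsingleton_ext_negSum d hd i⟩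

variable {X : Scheme.{u}} (ι : X ⟶ CohB1.ProjSpace N k) [IsClosedImmersion ι]
  [HasInjectiveResolutions (ModSite.Mod (CohB1.ProjSpace N k).sheaf)]
  [ModSite.HasSheafHom (O := (CohB1.ProjSpace N k).sheaf)
    ((Scheme.Modules.pushforward ι).obj (Coh.structureModule X))]

theorem isCoh_extSh_omega (q : ℕ) :
    Coh.IsCoh ((ModSite.extSh (O := (CohB1.ProjSpace N k).sheaf)
      ((Scheme.Modules.pushforward ι).obj (Coh.structureModule X)) q).obj (SerrePn.omega N k)) := by
  have := SerrePn.isLocallyNoetherian (n := N) (R := k)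
  have := isLocallyNoetherian_source ι
  have : IsProper (CohB1.ProjSpace.toSpec N k) := ProjProper.Basic.isProper_toSpec N k
  have : CompactSpace (CohB1.ProjSpace N k) := by
    have := QuasiCompact.compactSpace_of_compactSpace (CohB1.ProjSpace.toSpec N k)
    exact this
  have : IsNoetherian (CohB1.ProjSpace N k) := {}
  exact S10943.result _ _ _ (ProperFin.isCoh_push_of_isFinite ι _ HomShQC.isCoh_structureModule)
    (SerrePn.isCoh_twist _) q

theorem isCoh_of_extSh {q : ℕ} {ω : X.Modules}
    (hω : Nonempty ((Scheme.Modules.pushforward ι).obj ω ≅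
      (ModSite.extSh (O := (CohB1.ProjSpace N k).sheaf)
        ((Scheme.Modules.pushforward ι).obj (Coh.structureModule X)) q).obj (SerrePn.omega N k))) :
    Coh.IsCoh ω :=
  isCoh_of_push ι (CohDev.isCoh_of_iso hω.some.symm (isCoh_extSh_omega ι q))

theorem isZero_extSh_below {n : ℕ} (hn : n ≤ N) (hdim : topologicalKrullDim ↥X ≤ (n : WithBot ℕ∞))
    {q : ℕ} (hq : q < N - n) :
    IsZero ((ModSite.extSh (O := (CohB1.ProjSpace N k).sheaf)
      ((Scheme.Modules.pushforward ι).obj (Coh.structureModule X)) q).obj (SerrePn.omega N k)) := by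
  letI : (CohB1.ProjSpace N k).Over (Spec (CommRingCat.of k)) := ⟨CohB1.ProjSpace.toSpec N k⟩
  have : LocallyOfFiniteType (CohB1.ProjSpace N k ↘ Spec (CommRingCat.of k)) :=
    ProjTwist.Pn.locallyOfFiniteType_toSpec N k
  have := SerrePn.isLocallyNoetherian (n := N) (R := k)
  have := S18573.irreducibleSpace_projSpace N k
  refine isZero_extSh_of_lt (n := N) ι k (fun p => isRegularLocalRing_stalk p) (fun Z hZ => ?_) ?_
    (isFinLocFree_twist _) hq
  · rw [irreducibleComponents_eq_singleton, Set.mem_singleton_iff] at hZ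
    subst hZ
    rw [IsHomeomorph.topologicalKrullDim_eq _ (Homeomorph.Set.univ _).isHomeomorph]
    exact S10829.result k N
  · refine (add_le_add hdim le_rfl).trans ?_
    rw [← Nat.cast_add, Nat.add_sub_cancel' hn]

variable [X.Over (Spec (CommRingCat.of k))]

/-- The Ext sheaf `ℰxt^(N-n)(ι_* O_X, ω_P)` represents the dual of `H^n`. -/
theorem exists_isDualizing_closed (hι : ι ≫ CohB1.ProjSpace.toSpec N k = X ↘ Spec (CommRingCat.of k))
    {n : ℕ} (hn : n ≤ N) (hdim : topologicalKrullDim ↥X ≤ (n : WithBot ℕ∞)) {ω : X.Modules}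
    (hω : Nonempty ((Scheme.Modules.pushforward ι).obj ω ≅
      (ModSite.extSh (O := (CohB1.ProjSpace N k).sheaf)
        ((Scheme.Modules.pushforward ι).obj (Coh.structureModule X)) (N - n)).obj (SerrePn.omega N k))) :
    ∃ t : Coh.HH X ω n →ₗ[k] k, IsDualizing k n ω t := by
  have := SerrePn.isLocallyNoetherian (n := N) (R := k)
  have := isLocallyNoetherian_source ι
  have : ι.IsOver (Spec (CommRingCat.of k)) := ⟨hι⟩
  have : EnoughInjectives (CohB1.ProjSpace N k).Modules :=
    GrothSS.Main.enoughInjectives (A := ModSite.Mod (CohB1.ProjSpace N k).sheaf)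
  have : HasExt.{u} (CohB1.ProjSpace N k).Modules := hasExt_of_enoughInjectives.{u} _
  have hO : FlatMod.IsFinLocFree (Coh.structureModule X) := isFinLocFree_structureModule ι
  let T := ChgRings.T ι (Coh.structureModule X)
  let K := injectiveResolution (SerrePn.omega N k)
  have hinj : ∀ q, Injective ((AdjExt.J K T).X q) := fun q =>
    ChgRings.injective_T ι hO _ (K.injective q)
  have hlow : ∀ q < N - n, (AdjExt.J K T).ExactAt q := fun q hq => by
    rw [HomologicalComplex.exactAt_iff_isZero_homology]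
    refine IsZero.of_iso ?_ (K.isoRightDerivedObj T q).symm
    have h0 : IsZero ((Scheme.Modules.pushforward ι).obj ((T.rightDerived q).obj (SerrePn.omega N k))) :=
      (isZero_extSh_below ι hn hdim hq).of_iso
        ((ChgRings.pushDerivedTIso ι (Coh.structureModule X) q).app _)
    rw [IsZero.iff_id_eq_zero] at h0 ⊢
    apply (Props.KilledSub.fullyFaithful ι).map_injective
    rw [CategoryTheory.Functor.map_id, CategoryTheory.Functor.map_zero]
    exact h0
  obtain ⟨η, hη⟩ := AdjExt.exists_universal (pushAdj ι) K hinj (N - n) hlow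
  obtain ⟨e'⟩ := ChgRings.nonempty_derivedT_iso ι (N - n) hω
  let e : (AdjExt.J K T).homology (N - n) ≅ ω := (K.isoRightDerivedObj T (N - n)).symm ≪≫ e'
  let η' : Ext ((Scheme.Modules.pushforward ι).obj ω) (SerrePn.omega N k) (N - n) :=
    (Ext.mk₀ ((Scheme.Modules.pushforward ι).map e.inv)).comp η (zero_add _)
  have hη' : ∀ F : X.Modules, Function.Bijective fun φ : F ⟶ ω =>
      (Ext.mk₀ ((Scheme.Modules.pushforward ι).map φ)).comp η' (zero_add _) := fun F => by
    have : (fun φ : F ⟶ ω => (Ext.mk₀ ((Scheme.Modules.pushforward ι).map φ)).comp η' (zero_add _)) =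
        (fun φ : F ⟶ _ => (Ext.mk₀ ((Scheme.Modules.pushforward ι).map φ)).comp η (zero_add _)) ∘
          fun φ => φ ≫ e.inv := by
      funext φ
      simp only [η', Function.comp_apply, Functor.map_comp]
      rw [← Ext.mk₀_comp_mk₀, Ext.comp_assoc_of_second_deg_zero]
    rw [this]
    exact (hη F).comp e.symm.homToEquiv.bijective
  have hωc : Coh.IsCoh ω := isCoh_of_extSh ι hω
  have hq : n + (N - n) = N := Nat.add_sub_cancel' hn
  let yp := fun {M : (CohB1.ProjSpace N k).Modules} =>
    yPair (M := M) (SerrePn.trace N k) (i := N - n) hq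
  let t : Coh.HH X ω n →ₗ[k] k :=
    (yp η').comp (pushEquiv k ι ω hωc.1 n).symm.toLinearMap
  refine ⟨t, fun F hF ψ => ?_⟩
  have hb : Function.Bijective fun φ : F ⟶ ω =>
      (pushEquiv k ι F hF.1 n).symm.toLinearMap.dualMap
        (yp ((Ext.mk₀ ((Scheme.Modules.pushforward ι).map φ)).comp η' (zero_add _))) :=
    ((LinearEquiv.dualMap (pushEquiv k ι F hF.1 n).symm).bijective).comp
      ((yPair_bijective isDualizing_projSpace ((hasAcyclicCovers_projSpace).range N) (N - n)
        (Nat.sub_le _ _) _ (ProperFin.isCoh_push_of_isFinite ι F hF) n hq).comp (hη' F))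
  have key : ∀ (φ : F ⟶ ω) (x : Coh.HH X F n),
      (pushEquiv k ι F hF.1 n).symm.toLinearMap.dualMap
        (yp ((Ext.mk₀ ((Scheme.Modules.pushforward ι).map φ)).comp η' (zero_add _))) x =
      t (Sheaf.H.map ((SheafOfModules.toSheaf X.ringCatSheaf).map φ) n x) := fun φ x => by
    show yp _ ((pushEquiv k ι F hF.1 n).symm x) =
      yp η' ((pushEquiv k ι ω hωc.1 n).symm (CohLES.mapL k φ n x))
    rw [show yp ((Ext.mk₀ ((Scheme.Modules.pushforward ι).map φ)).comp η' (zero_add _)) =
      (CohLES.mapL k ((Scheme.Modules.pushforward ι).map φ) n).dualMap (yp η') from yPair_comp ..,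
      LinearMap.dualMap_apply]
    congr 1
    apply (pushEquiv k ι ω hωc.1 n).injective
    rw [LinearEquiv.apply_symm_apply]
    show pushEdgeL k ι ω n _ = _
    rw [pushEdgeL_mapL]
    congr 1
    exact (pushEquiv k ι F hF.1 n).apply_symm_apply x
  obtain ⟨φ, hφ⟩ := hb.2 ψ
  refine ⟨φ, fun x => (LinearMap.congr_fun hφ x).symm.trans (key φ x), fun φ' h' => hb.1 ?_⟩
  refine Eq.trans ?_ hφ.symm
  exact LinearMap.ext fun x => (key φ' x).trans (h' x).symm

theorem exists_ext_range_vanish [HasExt.{u} X.Modules] {n s : ℕ} {ω : X.Modules}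
    (hω : Coh.IsCoh ω)
    (hv : ∀ q, n ≤ q + s → q < n → ∃ m₀ : ℤ, ∀ m : ℤ, m₀ ≤ m → Subsingleton (Coh.HH X (pbTwist ι (-m)) q)) :
    HasRangeCovers k n s ω := by
  classical
  have := SerrePn.isLocallyNoetherian (n := N) (R := k)
  have := isLocallyNoetherian_source ι
  let M : ℕ → ℤ := fun q => if h : n ≤ q + s ∧ q < n then (hv q h.1 h.2).choose else 0
  let d₀ := (Finset.range n).sup fun q => (M q).toNat
  obtain ⟨d₁, hd₁⟩ := exists_ext_pbTwist_vanish ι hω
  intro F hF
  obtain ⟨κ, hκ, m, π, hπ, hm⟩ := SerrePn.exists_epi ((Scheme.Modules.pushforward ι).obj F)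
    (ProperFin.isCoh_push_of_isFinite ι _ hF) (max d₀ d₁)
  have : PreservesColimitsOfSize.{u, u} (Scheme.Modules.pullback ι) :=
    (Scheme.Modules.pullbackPushforwardAdjunction ι).leftAdjoint_preservesColimits
  let e := PreservesCoproduct.iso (Scheme.Modules.pullback ι)
    fun l => Twist.twistProjSpace N k (-(m l : ℤ))
  have : IsIso ((Scheme.Modules.pullbackPushforwardAdjunction ι).counit.app F) :=
    Props.KilledSub.isIso_counit ι F
  have : (Scheme.Modules.pullback ι).PreservesEpimorphisms :=
    Functor.preservesEpimorphisms_of_adjunction (Scheme.Modules.pullbackPushforwardAdjunction ι)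
  refine ⟨∐ fun l => pbTwist ι (-(m l : ℤ)), e.inv ≫ (Scheme.Modules.pullback ι).map π ≫
    (Scheme.Modules.pullbackPushforwardAdjunction ι).counit.app F, inferInstance,
    SerrePn.isCoh_coprod _ fun l => isCoh_pbTwist ι _, fun q hq hqs => ?_, fun i _ => ?_⟩
  · refine CohLES.subsingleton_coprod k _ q fun l => ?_
    refine (hv q hqs hq).choose_spec _ ?_
    have h1 : (M q).toNat ≤ d₀ :=
      Finset.le_sup (f := fun q => (M q).toNat) (Finset.mem_range.2 hq)
    have h2 : M q = (hv q hqs hq).choose := dif_pos ⟨hqs, hq⟩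
    have := hm l
    omega
  · exact SerrePn.subsingleton_ext_coprod _ _ _ fun l =>
      hd₁ (m l) ((le_max_right _ _).trans (hm l)) i

end Groth.Agent.DualAbs
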