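import Groth.Agent.DualAbs.PnTop
import Groth.Agent.DualAbs.ClosedStalkProj
import Groth.Agent.DualAbs.ExtCodim
import Groth.Agent.DualAbs.ClosedDualCor
import Groth.Agent.CycLib.FibreDim
import Groth.Agent.Depth.CM
import Groth.Agent.CurveDVR.Stalk
import Groth.Agent.S11906

/-!
# Top differentials are the dualizing sheaf of a smooth projective scheme
-/

set_option autoImplicit false
set_option linter.style.haveILetI false
set_option maxHeartbeats 800000

universe u

open CategoryTheory CategoryTheory.Limits AlgebraicGeometry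

noncomputable section

namespace Groth.Agent.DualAbs.SmoothDual

variable (k : Type u) [Field k] {r : ℕ} {X : Scheme.{u}} [X.Over (Spec (CommRingCat.of k))]
  [SmoothOfRelativeDimension r (X ↘ Spec (CommRingCat.of k))]

include k in
theorem topologicalKrullDim_component (Z : Set X) (hZ : Z ∈ irreducibleComponents X) :
    topologicalKrullDim ↥Z = (r : WithBot ℕ∞) := by
  have : Smooth (X ↘ Spec (CommRingCat.of k)) :=
    SmoothOfRelativeDimension.smooth (n := r) (X ↘ Spec (CommRingCat.of k))
  obtain ⟨η, hη⟩ := QuasiSober.sober hZ.1 (isClosed_of_mem_irreducibleComponents Z hZ)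
  have hη' : closure ({η} : Set X) = Z := hη.def
  subst hη'
  obtain ⟨a, b, ha, hb, hab⟩ := ringKrullDim_stalk_smooth k (n := r) η
  rw [ringKrullDim_stalk_generic η hZ] at ha
  have ha0 : a = 0 := by exact_mod_cast ha.symm
  rw [CycLib.topologicalKrullDim_closure, hb, show b = r by omega]
  rfl

include k in
theorem topologicalKrullDim_eq [Nonempty X] : topologicalKrullDim X = (r : WithBot ℕ∞) := by
  refine le_antisymm (dim_le_of_components (topologicalKrullDim_component k (r := r))) ?_
  obtain ⟨Z, hZ, -⟩ := exists_mem_irreducibleComponents_subset_of_isIrreducible {Classical.arbitrary X}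
    isIrreducible_singleton
  rw [← topologicalKrullDim_component k (r := r) Z hZ]
  exact (isClosed_of_mem_irreducibleComponents Z hZ).isClosedEmbedding_subtypeVal.isInducing.topologicalKrullDim_le

include k in
theorem cm_closed (x : X) (hx : IsClosed ({x} : Set X)) :
    _root_.LocCoh.IsCohenMacaulayLocalRing (X.presheaf.stalk x) ∧ ringKrullDim (X.presheaf.stalk x) = r := by
  have : Smooth (X ↘ Spec (CommRingCat.of k)) :=
    SmoothOfRelativeDimension.smooth (n := r) (X ↘ Spec (CommRingCat.of k))
  have := CurveDVR.isRegularLocalRing_stalk (X ↘ Spec (CommRingCat.of k)) x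
  refine ⟨Depth.isCohenMacaulayLocalRing_of_isRegularLocalRing, ?_⟩
  obtain ⟨a, b, ha, hb, hab⟩ := ringKrullDim_stalk_smooth k (n := r) x
  have h0 : Order.height x = 0 := Order.height_eq_zero.mpr fun y hy => by
    have hy' : x ⤳ y := hy
    have : y ∈ ({x} : Set X) := hx.closure_eq ▸ specializes_iff_mem_closure.mp hy'
    rw [Set.mem_singleton_iff.mp this]
  have hb0 : b = 0 := by exact_mod_cast hb.symm.trans h0
  rw [ha, show a = r by omega]

variable {n : ℕ} (ι : X ⟶ CohB1.ProjSpace n k) [IsClosedImmersion ι]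

/-- The top forms of a smooth closed subscheme of projective space form a dualizing sheaf. -/
theorem exists_isDualizing (hι : ι ≫ CohB1.ProjSpace.toSpec n k = X ↘ Spec (CommRingCat.of k))
    (hr : r ≤ n) (Ω : X.Modules)
    (hΩ : ExtPow.IsExtPow r (Omega.sheaf (X ↘ Spec (CommRingCat.of k))) Ω) :
    ∃ t : Coh.HH X Ω r →ₗ[k] k, ∀ F : X.Modules, Coh.IsCoh F → ∀ ψ : Coh.HH X F r →ₗ[k] k,
      ∃! φ : F ⟶ Ω, ∀ x : Coh.HH X F r,
        ψ x = t (Sheaf.H.map ((SheafOfModules.toSheaf X.ringCatSheaf).map φ) r x) := by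
  haveI : IsLocallyNoetherian (CohB1.ProjSpace n k) := SerrePn.isLocallyNoetherian (n := n) (R := k)
  haveI := PnTop.smoothOfRelativeDimension_toSpec n k
  haveI : ModSite.HasSheafHom (O := (CohB1.ProjSpace n k).sheaf)
      ((Scheme.Modules.pushforward ι).obj (Coh.structureModule X)) := KFlat.hasSheafHom _ _
  haveI : EnoughInjectives (ModSite.Mod (CohB1.ProjSpace n k).sheaf) := GrothSS.Main.enoughInjectives
  haveI : HasInjectiveResolutions (ModSite.Mod (CohB1.ProjSpace n k).sheaf) := inferInstance
  obtain ⟨L, hL⟩ := haveI := (VBLib.isCoh_of_ofRank (CanonTriv.isFinLocFreeOfRank_omega (CohB1.ProjSpace.toSpec n k) n)).1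
    ExtPowSt.Exists.exists_isExtPow n (Omega.sheaf (CohB1.ProjSpace.toSpec n k))
  obtain ⟨e⟩ := PnTop.nonempty_top_iso n k hL
  obtain ⟨f⟩ := S11906.result (Spec (CommRingCat.of k)) (CohB1.ProjSpace n k) X (CohB1.ProjSpace.toSpec n k)
    (X ↘ Spec (CommRingCat.of k)) ι hι n r L hL Ω hΩ
  exact exists_isDualizing_closed ι hι hr (dim_le_of_components (topologicalKrullDim_component k (r := r)))
    ⟨f ≪≫ (ModSite.extSh (O := (CohB1.ProjSpace n k).sheaf)
      ((Scheme.Modules.pushforward ι).obj (Coh.structureModule X)) (n - r)).mapIso e⟩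

include ι in
/-- The top forms of a smooth closed subscheme of projective space are coherent. -/
theorem isCoh_top (hι : ι ≫ CohB1.ProjSpace.toSpec n k = X ↘ Spec (CommRingCat.of k)) (Ω : X.Modules)
    (hΩ : ExtPow.IsExtPow r (Omega.sheaf (X ↘ Spec (CommRingCat.of k))) Ω) : Coh.IsCoh Ω := by
  haveI := isLocallyNoetherian_source ι
  haveI : IsProper (CohB1.ProjSpace.toSpec n k) := ProjProper.Basic.isProper_toSpec n k
  haveI : QuasiSeparated (X ↘ Spec (CommRingCat.of k)) := by rw [← hι]; infer_instance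
  exact ExtPowSt.isCoh ⟨hΩ.choose, hΩ.choose_spec⟩
    (VBLib.isCoh_of_ofRank (CanonTriv.isFinLocFreeOfRank_omega (X ↘ Spec (CommRingCat.of k)) r))

include ι in
theorem le_dim_of_nonempty [Nonempty X] : r ≤ n :=
  le_dim ι (topologicalKrullDim_eq k (r := r))

end Groth.Agent.DualAbs.SmoothDual
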