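import Groth.Agent.CIProj49.Sheaf
import Groth.Agent.AmpCrit.ProjForm
import Groth.Agent.EulerChar.Cartier
import Groth.Agent.EulerChar.Push
import Groth.Agent.HilbLoc.Normal
import Groth.Agent.CohDev.TensorCoh
import Groth.Agent.KFlat.PullTensor
import Groth.Agent.CohLES.Basic
import Groth.Agent.DualAbs.Bott
import Groth.Agent.CohTop.Vanishing
import Groth.Agent.ProjProper.Basic
import Groth.Agent.DualAbs.SmoothDual
import Groth.Agent.SurfRR.Basic
import Groth.Agent.S10829

/-!
# Cohomology of twists on complete intersections of positive dimension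
-/

set_option autoImplicit false
set_option linter.style.haveILetI false

universe u

open CategoryTheory CategoryTheory.Limits AlgebraicGeometry TopologicalSpace

noncomputable section

namespace Groth.Agent.DualAbs.CICoh

/-! ## Numerics -/

/-- The function `x ↦ h^D(P^D, O(x))`. -/
def B (D : ℕ) (x : ℤ) : ℕ := if x < 0 then (-x - 1).toNat.choose D else 0

theorem B_step (D : ℕ) (hD : 1 ≤ D) (x : ℤ) : B D (x - 1) = B D x + B (D - 1) x := by
  obtain ⟨D, rfl⟩ : ∃ e, D = e + 1 := ⟨D - 1, by omega⟩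
  rcases lt_trichotomy x 0 with hx | rfl | hx
  · rw [B, if_pos (by omega), B, if_pos hx, B, if_pos hx, show (-(x - 1) - 1).toNat = (-x - 1).toNat + 1 by omega,
      Nat.choose_succ_succ, Nat.add_sub_cancel, add_comm]
  · simp [B]
  · rw [B, if_neg (by omega), B, if_neg (by omega), B, if_neg (by omega)]

theorem B_sub (D : ℕ) (hD : 1 ≤ D) (x : ℤ) : ∀ d : ℕ,
    B D (x - d) = B D x + ∑ j ∈ Finset.range d, B (D - 1) (x - j)
  | 0 => by simp
  | d + 1 => by
    rw [Finset.sum_range_succ, ← add_assoc, ← B_sub D hD x d, show x - ((d + 1 : ℕ) : ℤ) = x - d - 1 by omega]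
    exact B_step D hD _

theorem B_eq_zero_iff (D : ℕ) (x : ℤ) : B D x = 0 ↔ -(D : ℤ) - 1 < x := by
  unfold B
  split_ifs with h
  · rw [Nat.choose_eq_zero_iff]; omega
  · exact ⟨fun _ => by omega, fun _ => rfl⟩

/-- `g` is a nonempty sum of translates of `B D`, the largest translation being `σ`. -/
def IsB (D : ℕ) (σ : ℤ) (g : ℤ → ℕ) : Prop :=
  ∃ M : Multiset ℤ, σ ∈ M ∧ (∀ s ∈ M, s ≤ σ) ∧ ∀ c, g c = (M.map fun s => B D (c - s)).sum

theorem IsB.eq_zero_iff {D : ℕ} {σ : ℤ} {g : ℤ → ℕ} (h : IsB D σ g) (c : ℤ) :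
    g c = 0 ↔ σ - D - 1 < c := by
  obtain ⟨M, hσ, hle, hg⟩ := h
  rw [hg, Multiset.sum_eq_zero_iff]
  simp only [Multiset.mem_map, forall_exists_index, and_imp, forall_apply_eq_imp_iff₂, B_eq_zero_iff]
  exact ⟨fun h => by have := h σ hσ; omega, fun h s hs => by have := hle s hs; omega⟩

theorem IsB.step {D : ℕ} (hD : 1 ≤ D) {σ : ℤ} {f g : ℤ → ℕ} (h : IsB D σ f) {d : ℕ} (hd : 1 ≤ d)
    (hg : ∀ c, f (c - d) = f c + g c) : IsB (D - 1) (σ + d - 1) g := by
  obtain ⟨M, hσ, hle, hf⟩ := h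
  refine ⟨M.bind fun s => (Multiset.range d).map fun j : ℕ => s + (j : ℤ), ?_, ?_, fun c => ?_⟩
  · exact Multiset.mem_bind.2 ⟨σ, hσ, Multiset.mem_map.2 ⟨d - 1, Multiset.mem_range.2 (by omega), by omega⟩⟩
  · intro t ht
    obtain ⟨s, hs, ht⟩ := Multiset.mem_bind.1 ht
    obtain ⟨j, hj, rfl⟩ := Multiset.mem_map.1 ht
    have := Multiset.mem_range.1 hj
    have := hle s hs
    omega
  · have h1 := hg c
    rw [hf, hf, Multiset.map_congr rfl (fun s _ => by
      rw [show c - (d : ℤ) - s = c - s - d by ring, B_sub D hD (c - s) d]), Multiset.sum_map_add] at h1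
    rw [Multiset.map_bind, Multiset.sum_bind, ← Nat.add_left_cancel h1]
    refine congrArg Multiset.sum (Multiset.map_congr rfl fun s _ => ?_)
    rw [Multiset.map_map]
    refine congrArg Multiset.sum (Multiset.map_congr rfl fun j _ => ?_)
    show B (D - 1) (c - s - j) = B (D - 1) (c - (s + j))
    rw [sub_add_eq_sub_sub]

/-! ## Schemes -/

/-- The support of an effective Cartier ideal has smaller dimension. -/
theorem dim_support_le {X : Scheme.{u}} {D : X.IdealSheafData} (hD : BlowUp.IsEffCartierIdeal D) {d : ℕ}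
    (hdim : topologicalKrullDim X ≤ ((d + 1 : ℕ) : WithBot ℕ∞)) :
    topologicalKrullDim ↥(D.support : Set X) ≤ (d : WithBot ℕ∞) := by
  refine iSup_le fun l => ?_
  obtain ⟨g, hg⟩ := QuasiSober.sober
    (l.last.isIrreducible'.image Subtype.val continuous_subtype_val.continuousOn)
    (D.support.isClosed.isClosedEmbedding_subtypeVal.isClosedMap _ l.last.isClosed')
  have hgD : g ∈ (D.support : Set X) := by
    obtain ⟨z, -, hz⟩ := hg.mem
    exact hz ▸ z.2
  obtain ⟨w, hwg, hne⟩ : ∃ w : X, w ⤳ g ∧ w ≠ g := by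
    by_contra h
    push Not at h
    exact IdealSh.Regular.not_mem_support_of_maximal hD g h hgD
  let emb := D.support.isClosed.isClosedEmbedding_subtypeVal
  let l' : LTSeries (IrreducibleCloseds X) :=
    l.map (IrreducibleCloseds.map Subtype.val emb.continuous)
      (IrreducibleCloseds.map_strictMono_of_isInducing emb.isInducing)
  let top : IrreducibleCloseds X := ⟨closure {w}, isIrreducible_singleton.closure, isClosed_closure⟩
  have hlt : l'.last < top := by
    have he : (l'.last : Set X) = closure {g} :=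
      (emb.isClosedMap _ l.last.isClosed').closure_eq.trans hg.def.symm
    refine lt_of_le_of_ne (show (l'.last : Set X) ⊆ closure {w} from he ▸ hwg.closure_subset) fun h => hne ?_
    have h' : closure {g} = closure {w} := he.symm.trans (congrArg (fun s : IrreducibleCloseds X => (s : Set X)) h)
    exact ((inseparable_iff_closure_eq.2 h').eq).symm
  have h := (Order.LTSeries.length_le_krullDim (l'.snoc top hlt)).trans hdim
  have h1 : ((l.length + 1 : ℕ) : WithBot ℕ∞) ≤ ((d + 1 : ℕ) : WithBot ℕ∞) := h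
  have h2 : l.length + 1 ≤ d + 1 := by exact_mod_cast h1
  exact_mod_cast (by omega : l.length ≤ d)

theorem dim_subscheme_le {X : Scheme.{u}} {D : X.IdealSheafData} (hD : BlowUp.IsEffCartierIdeal D) {d : ℕ}
    (hdim : topologicalKrullDim X ≤ ((d + 1 : ℕ) : WithBot ℕ∞)) :
    topologicalKrullDim D.subscheme ≤ (d : WithBot ℕ∞) := by
  refine le_trans ?_ (dim_support_le hD hdim)
  let f : D.subscheme → ↥(D.support : Set X) := fun z =>
    ⟨D.subschemeι z, by rw [← Scheme.IdealSheafData.range_subschemeι]; exact ⟨z, rfl⟩⟩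
  exact Topology.IsInducing.topologicalKrullDim_le (f := f)
    (Topology.IsInducing.of_comp (D.subschemeι.continuous.subtype_mk _) continuous_subtype_val
      D.subschemeι.isEmbedding.isInducing)

theorem map_comap {X Y : Scheme.{u}} (f : X ⟶ Y) [IsClosedImmersion f] (J : Y.IdealSheafData) :
    (J.comap f).map f = J ⊔ f.ker := by
  refine Scheme.IdealSheafData.ext (funext fun U => ?_)
  rw [Scheme.IdealSheafData.ideal_map_of_isAffineHom, Scheme.IdealSheafData.ideal_sup, Pi.sup_apply,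
    IdealSh.Comap.ideal_comap_app J f U (U.2.preimage f),
    Ideal.comap_map_of_surjective _ (f.app_surjective U.1 U.2), Scheme.Hom.ker_apply]
  rfl

/-! ## Long exact sequence numerics -/

variable {k : Type u} [Field k]

/-- The numerics of the long exact sequence on a proper scheme. -/
theorem exists_ranks {X : Scheme.{u}} [X.Over (Spec (CommRingCat.of k))] [IsProper (X ↘ Spec (CommRingCat.of k))]
    {S : ShortComplex X.Modules} (hS : S.ShortExact)
    (h₁ : Coh.IsCoh S.X₁) (h₂ : Coh.IsCoh S.X₂) (h₃ : Coh.IsCoh S.X₃) :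
    ∃ r a b : ℕ → ℕ, r 0 = 0 ∧ ∀ q, Module.finrank k (Coh.HH X S.X₁ q) = r q + a q ∧
      Module.finrank k (Coh.HH X S.X₂ q) = a q + b q ∧ Module.finrank k (Coh.HH X S.X₃ q) = b q + r (q + 1) := by
  haveI := EulerChar.isLocallyNoetherian k (X := X)
  haveI := fun q => EulerChar.finite_HH k S.X₁ h₁ q
  haveI := fun q => EulerChar.finite_HH k S.X₂ h₂ q
  haveI := fun q => EulerChar.finite_HH k S.X₃ h₃ q
  let F := fun q => CohLES.mapL k S.f q
  let G := fun q => CohLES.mapL k S.g q
  let D := fun q => CohLES.δL k hS q (q + 1) rfl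
  refine ⟨fun q => Nat.casesOn q 0 fun m => Module.finrank k (LinearMap.range (D m)),
    fun q => Module.finrank k (LinearMap.range (F q)), fun q => Module.finrank k (LinearMap.range (G q)),
    rfl, fun q => ⟨?_, ?_, ?_⟩⟩
  · rw [← (F q).finrank_range_add_finrank_ker, add_comm]
    congr 1
    cases q with
    | zero =>
      haveI : Mono S.f := hS.mono_f
      rw [LinearMap.ker_eq_bot.2 (SerrePn.mapL_zero_injective (k := k) S.f), finrank_bot]
      rfl
    | succ m =>
      refine congrArg (fun W : Submodule k _ => Module.finrank k W) ?_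
      ext x
      exact ⟨fun hx => CohLES.exact₁ k hS rfl x hx, by rintro ⟨y, rfl⟩; exact CohLES.mapL_δL k hS rfl y⟩
  · rw [← (G q).finrank_range_add_finrank_ker, add_comm]
    congr 1
    refine congrArg (fun W : Submodule k _ => Module.finrank k W) ?_
    ext x
    exact ⟨fun hx => CohLES.exact₂ k hS x hx, by rintro ⟨y, rfl⟩; exact CohLES.mapL_comp_eq_zero k y⟩
  · rw [← (D q).finrank_range_add_finrank_ker, add_comm]
    congr 1
    refine congrArg (fun W : Submodule k _ => Module.finrank k W) ?_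
    ext x
    exact ⟨fun hx => CohLES.exact₃ k hS rfl x hx, by rintro ⟨y, rfl⟩; exact CohLES.δL_mapL k hS rfl y⟩

/-! ## Twists on closed subschemes of projective space -/

variable {n : ℕ}

local notation "P" => CohB1.ProjSpace n k
local notation "O(" c ")" => Twist.twistProjSpace n k c

instance : IsProper ((CohB1.ProjSpace n k) ↘ Spec (CommRingCat.of k)) := ProjProper.Basic.isProper_toSpec n k

/-- `dim H^q(V(I), O(c))`, computed on projective space. -/
def H (I : (CohB1.ProjSpace n k).IdealSheafData) (c : ℤ) (q : ℕ) : ℕ :=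
  Module.finrank k (Coh.HH P (CohB1.tensorMod O(c) (ClSub.quotMod I)) q)

variable {Y : Scheme.{u}} [Y.Over (Spec (CommRingCat.of k))] (ι : Y ⟶ CohB1.ProjSpace n k) [IsClosedImmersion ι]
  (w : ι ≫ CohB1.ProjSpace.toSpec n k = Y ↘ Spec (CommRingCat.of k))

omit [Y.Over (Spec (CommRingCat.of k))] in
theorem isCoh_pull (c : ℤ) : Coh.IsCoh ((Scheme.Modules.pullback ι).obj O(c)) := by
  haveI : IsLocallyNoetherian P := EulerChar.isLocallyNoetherian k
  haveI : IsLocallyNoetherian Y := LocallyOfFiniteType.isLocallyNoetherian ι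
  exact VBLib.isCoh_of_isFinLocFree (ProjForm.isFinLocFree_of_isInvertible
    (PicCl.isInvertible_pullback ι (ProjTwist.isInvertible_twistProjSpace n k c)))

include w in
theorem finrank_pull (c : ℤ) (q : ℕ) :
    Module.finrank k (Coh.HH Y ((Scheme.Modules.pullback ι).obj O(c)) q) = H ι.ker c q := by
  obtain ⟨a⟩ := AmpCrit.ProjForm.nonempty_projIso ι (Coh.structureModule Y)
    (ProjTwist.isInvertible_twistProjSpace n k c)
  obtain ⟨E⟩ := EulerChar.nonempty_pushEquiv (A := k) ι w
    (CohB1.tensorMod (Coh.structureModule Y) ((Scheme.Modules.pullback ι).obj O(c)))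
    (CohDev.isCoh_of_iso (ProjTwist.oneTens _).symm (isCoh_pull ι c)).1 q
  exact ((SurfRR.hhEquiv k (ProjTwist.tensComm _ _ ≪≫
    ProjTwist.tensCongr (HilbLoc.quotModIso ι) (Iso.refl _) ≪≫ a) q) ≪≫ₗ E ≪≫ₗ
    SurfRR.hhEquiv k (ProjTwist.oneTens _) q).finrank_eq.symm

theorem H_bot (c : ℤ) (q : ℕ) : H (⊥ : (CohB1.ProjSpace n k).IdealSheafData) c q = DualAbs.Bott.hO n k c q := by
  have hker : (𝟙 P : P ⟶ P).ker = ⊥ := by
    rw [← Scheme.IdealSheafData.map_bot, Scheme.IdealSheafData.map_id]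
  rw [← hker, ← finrank_pull (k := k) (𝟙 P) (Category.id_comp _) c q]
  exact (SurfRR.hhEquiv k ((Scheme.Modules.pullbackId P).app O(c)) q).finrank_eq

include w in
/-- Cutting by a Cartier hypersurface. -/
theorem step {d D : ℕ} (F : LefPen.Form n k d) (hF : F.1 ≠ 0)
    (hI : BlowUp.IsEffCartierIdeal ((LefPen.hypIdeal F).comap ι))
    (hdim : topologicalKrullDim Y ≤ ((D + 2 : ℕ) : WithBot ℕ∞))
    (hY : ∀ c q, 1 ≤ q → q ≠ D + 2 → H ι.ker c q = 0) (c : ℤ) :
    (∀ q, 1 ≤ q → q ≠ D + 1 → H (LefPen.hypIdeal F ⊔ ι.ker) c q = 0) ∧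
      H ι.ker (c - d) (D + 2) = H ι.ker c (D + 2) + H (LefPen.hypIdeal F ⊔ ι.ker) c (D + 1) ∧
      H ι.ker c 0 = H ι.ker (c - d) 0 + H (LefPen.hypIdeal F ⊔ ι.ker) c 0 := by
  let J := (LefPen.hypIdeal F).comap ι
  haveI : IsProper (Y ↘ Spec (CommRingCat.of k)) := by
    rw [← w]
    haveI := ProjProper.Basic.isProper_toSpec n k
    infer_instance
  haveI := EulerChar.isLocallyNoetherian k (X := Y)
  haveI := EulerChar.isNoetherian k (X := Y)
  letI : J.subscheme.Over (Spec (CommRingCat.of k)) := ⟨J.subschemeι ≫ (Y ↘ Spec (CommRingCat.of k))⟩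
  have wJ : (J.subschemeι ≫ ι) ≫ CohB1.ProjSpace.toSpec n k = J.subscheme ↘ Spec (CommRingCat.of k) := by
    rw [Category.assoc, w]
    rfl
  haveI : IsProper (J.subscheme ↘ Spec (CommRingCat.of k)) :=
    inferInstanceAs (IsProper (J.subschemeι ≫ (Y ↘ Spec (CommRingCat.of k))))
  have hker : (J.subschemeι ≫ ι).ker = LefPen.hypIdeal F ⊔ ι.ker := by
    rw [Scheme.Hom.ker_comp, Scheme.IdealSheafData.ker_subschemeι, map_comap]
  have hV : PicF.IsInvertible ((Scheme.Modules.pullback ι).obj O(c)) :=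
    PicCl.isInvertible_pullback ι (ProjTwist.isInvertible_twistProjSpace n k c)
  have hV1 := ProjTwist.isFinLocFreeOfRank_one hV
  obtain ⟨e0⟩ := PicAlg.nonempty_pullback_idealMod ι (LefPen.hypIdeal F) (CIProj49.isEffCartier_hyp _ hF) hI
  obtain ⟨e1⟩ := CIProj49.nonempty_hypIso F hF
  obtain ⟨t⟩ := ProjTwist.nonempty_twistProjSpace_tensor n k c (-(d : ℤ))
  let eA : CohB1.tensorMod ((Scheme.Modules.pullback ι).obj O(c)) (ClSub.idealMod J) ≅
      (Scheme.Modules.pullback ι).obj O(c - d) :=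
    ProjTwist.tensCongr (Iso.refl _) (e0.symm ≪≫ (Scheme.Modules.pullback ι).mapIso e1) ≪≫
      (KFlat.PullTensor.pullTensorIso ι _ _).symm ≪≫
      (Scheme.Modules.pullback ι).mapIso (t ≪≫ eqToIso (congrArg _ (sub_eq_add_neg c (d : ℤ)).symm))
  obtain ⟨a⟩ := AmpCrit.ProjForm.nonempty_projIso J.subschemeι (Coh.structureModule J.subscheme) hV
  let eZ : (Scheme.Modules.pullback J.subschemeι).obj ((Scheme.Modules.pullback ι).obj O(c)) ≅
      (Scheme.Modules.pullback (J.subschemeι ≫ ι)).obj O(c) :=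
    (Scheme.Modules.pullbackComp J.subschemeι ι).app O(c)
  let T := (DCoh.tensorBi (X := Y)).obj ((Scheme.Modules.pullback ι).obj O(c))
  have hS : ((ShortComplex.mk (ClSub.idealModι J) (ClSub.toSubscheme J) (kernel.condition _)).map T).ShortExact :=
    CohDev.tens_shortExact hV1 (EulerChar.shortExact_ideal J)
  have hJ : PicF.IsInvertible (ClSub.idealMod J) := IdealSh.IdealMod.isInvertible_of_isEffCartierIdeal J hI
  obtain ⟨r, a', b, r0, hr⟩ := exists_ranks (k := k) hS
    (CohDev.isCoh_tens hV1 (VBLib.isCoh_of_isFinLocFree (ProjForm.isFinLocFree_of_isInvertible hJ)))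
    (CohDev.isCoh_tens hV1 (SurfRR.isCoh_structure k)) (CohDev.isCoh_tens hV1 (EulerChar.isCoh_quotMod k _))
  have h1 : ∀ q, r q + a' q = H ι.ker (c - d) q := fun q =>
    (hr q).1.symm.trans ((SurfRR.hhEquiv k eA q).finrank_eq.trans (finrank_pull ι w (c - d) q))
  have h2 : ∀ q, a' q + b q = H ι.ker c q := fun q =>
    (hr q).2.1.symm.trans ((SurfRR.hhEquiv k (ProjTwist.tensOne _) q).finrank_eq.trans (finrank_pull ι w c q))
  have hq : Coh.IsQCoh (CohB1.tensorMod (Coh.structureModule J.subscheme)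
      ((Scheme.Modules.pullback J.subschemeι).obj ((Scheme.Modules.pullback ι).obj O(c)))) :=
    (CohDev.isCoh_of_iso (ProjTwist.oneTens _ ≪≫ eZ).symm (isCoh_pull _ c)).1
  have h3' : ∀ q, b q + r (q + 1) =
      Module.finrank k (Coh.HH J.subscheme ((Scheme.Modules.pullback (J.subschemeι ≫ ι)).obj O(c)) q) := fun q => by
    obtain ⟨E⟩ := EulerChar.nonempty_pushEquiv (A := k) J.subschemeι rfl _ hq q
    exact (hr q).2.2.symm.trans ((SurfRR.hhEquiv k (ProjTwist.tensComm _ (ClSub.quotMod J) ≪≫ a) q) ≪≫ₗ E ≪≫ₗ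
      SurfRR.hhEquiv k (ProjTwist.oneTens _ ≪≫ eZ) q).finrank_eq
  have h3 : ∀ q, b q + r (q + 1) = H (LefPen.hypIdeal F ⊔ ι.ker) c q := fun q => by
    rw [h3', finrank_pull _ wJ, hker]
  have hvan : ∀ q, D + 2 ≤ q → b q + r (q + 1) = 0 := fun q hq' => by
    rw [h3']
    haveI := EulerChar.isNoetherian k (X := J.subscheme)
    haveI : Subsingleton (Coh.HH J.subscheme ((Scheme.Modules.pullback (J.subschemeι ≫ ι)).obj O(c)) q) :=
      CohTop.Vanishing.grothendieck_vanishing (X := J.subscheme.toPresheafedSpace.carrier) (D + 1)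
        (dim_subscheme_le hI hdim) (Coh.toAb _) q (by omega)
    exact Module.finrank_zero_of_subsingleton
  refine ⟨fun q hq1 hqD => ?_, ?_, ?_⟩
  · rcases Nat.lt_or_ge q (D + 2) with hlt | hge
    · have := h1 (q + 1); have := h2 q; have := h3 q
      have := hY (c - d) (q + 1) (by omega) (by omega); have := hY c q hq1 (by omega)
      omega
    · have := hvan q hge; have := h3 q; omega
  · have := h1 (D + 2); have := h2 (D + 2); have := hvan (D + 2) le_rfl; have := h2 (D + 1); have := h3 (D + 1)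
    have := hY c (D + 1) (by omega) (by omega)
    simp only [show D + 1 + 1 = D + 2 from rfl] at *
    omega
  · have := h1 0; have := h2 0; have := h3 0; have := h1 1
    have := hY (c - d) 1 le_rfl (by omega)
    simp only [zero_add] at *
    omega

/-! ## Complete intersections -/

section CI

open Groth.Agent.SepTang48 (D isAffineOpen_D)
open Groth.Agent.LefHyp (setOne)
open Groth.Agent.CIProj49

variable {r : ℕ} {a : Fin r → ℕ} (G : ∀ i : Fin r, LefPen.Form n k (a i))
  (hr : r ≤ n) (ha : ∀ i, 1 ≤ a i)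
  (hdim : topologicalKrullDim (LefPen.ciIdeal G).subscheme ≤ ((n - r : ℕ) : WithBot ℕ∞))

include hr ha hdim in
theorem nzd_chart {m : ℕ} (hm : m < r) (j : Fin (n + 1)) (c : Γ(P, Groth.Agent.SepTang48.D k n j))
    (h : LefPen.dehom (G ⟨m, hm⟩) j * c ∈
      (LefPen.ciIdeal (pre G m hm.le)).ideal ⟨_, isAffineOpen_D k n j⟩) :
    c ∈ (LefPen.ciIdeal (pre G m hm.le)).ideal ⟨_, isAffineOpen_D k n j⟩ := by
  obtain ⟨c, rfl⟩ := (chartRingEquiv j).surjective c
  rw [ciIdeal_ideal] at h ⊢
  rw [← chartRingEquiv_setOne, ← map_mul] at h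
  refine Ideal.mem_map_of_mem _ (chart_mem_of_mul_mem hr (fun i => (G i).1)
    (fun i => (MvPolynomial.mem_homogeneousSubmodule _ _).1 (G i).2) ha
    (fun j => (dim_chart_le G j).trans hdim) hm j ?_)
  obtain ⟨x, hx, he⟩ := (Ideal.mem_map_iff_of_surjective _ (chartRingEquiv j).surjective).1 h
  exact (chartRingEquiv j).injective he ▸ hx

include hr ha hdim in
theorem form_ne_zero {m : ℕ} (hm : m < r) : (G ⟨m, hm⟩).1 ≠ 0 := by
  intro h0
  have h1 := mem_of_mul_mem hr (fun i => (G i).1)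
    (fun i => (MvPolynomial.mem_homogeneousSubmodule _ _).1 (G i).2) ha
    (fun j => (dim_chart_le G j).trans hdim) hm (z := 1) (by rw [h0, zero_mul]; exact Ideal.zero_mem _)
  have hle := CIntNormal.le_vertex (fun l : Fin m => (G (l.castLE hm.le)).1) (fun l => a (l.castLE hm.le))
    (fun l => (MvPolynomial.mem_homogeneousSubmodule _ _).1 (G _).2) (fun l => ha _)
  have := hle h1
  rw [RingHom.mem_ker, map_one] at this
  exact one_ne_zero this

include hr ha hdim in
theorem isEffCartier_step {Y : Scheme.{u}} (ι : Y ⟶ P) [IsClosedImmersion ι] {m : ℕ} (hm : m < r)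
    (hι : ι.ker = LefPen.ciIdeal (pre G m hm.le)) :
    BlowUp.IsEffCartierIdeal ((LefPen.hypIdeal (G ⟨m, hm⟩)).comap ι) := by
  intro y
  obtain ⟨j, hj⟩ := Opens.mem_iSup.1 ((ProjTwist.iSup_stdOpen n k).ge (Opens.mem_top (ι y)))
  let U : (CohB1.ProjSpace n k).affineOpens := ⟨Groth.Agent.SepTang48.D k n j, isAffineOpen_D k n j⟩
  let V : Y.affineOpens := ⟨ι ⁻¹ᵁ U.1, U.2.preimage ι⟩
  refine ⟨V, hj, (ι.app U.1).hom (LefPen.dehom (G ⟨m, hm⟩) j), ?_, ?_⟩
  · rw [mem_nonZeroDivisors_iff_right]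
    intro x hx
    obtain ⟨c, rfl⟩ := ι.app_surjective U.1 U.2 x
    have hc := nzd_chart G hr ha hdim hm j c
      (by
        rw [← hι, Scheme.Hom.ker_apply, RingHom.mem_ker, map_mul, mul_comm]
        exact hx)
    rwa [← hι, Scheme.Hom.ker_apply, RingHom.mem_ker] at hc
  · refine (IdealSh.Comap.ideal_comap_span_singleton _ ι U V le_rfl
      (a := LefPen.dehom (G ⟨m, hm⟩) j) ?_).trans ?_
    · exact (LefHyp.hypIdeal_ideal_of_le (G ⟨m, hm⟩) j U le_rfl).trans
        (congrArg (fun z => Ideal.span {z}) (QCoh.rres_self _ _))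
    · rw [Scheme.Hom.appLE_eq_app]

omit hr ha hdim in
theorem ciIdeal_pre_succ {m : ℕ} (hm : m < r) :
    LefPen.ciIdeal (pre G (m + 1) hm) = LefPen.hypIdeal (G ⟨m, hm⟩) ⊔ LefPen.ciIdeal (pre G m hm.le) := by
  refine le_antisymm (iSup_le fun l => ?_) (sup_le ?_ (iSup_le fun l => ?_))
  · induction l using Fin.lastCases with
    | last => exact le_sup_left
    | cast l => exact le_sup_of_le_right (le_iSup (fun j => LefPen.hypIdeal (pre G m hm.le j)) l)
  · exact le_iSup (fun j => LefPen.hypIdeal (pre G (m + 1) hm j)) (Fin.last m)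
  · exact le_iSup (fun j => LefPen.hypIdeal (pre G (m + 1) hm j)) l.castSucc

/-- The degree shift after `m` hypersurfaces. -/
def shift (a : Fin r → ℕ) (m : ℕ) (hm : m ≤ r) : ℤ := ∑ l : Fin m, ((a (l.castLE hm) : ℤ) - 1)

include ha hdim in
/-- Cohomology of the twists on a complete intersection of positive dimension. -/
theorem cohomology (hrn : r < n) : ∀ (m : ℕ) (hm : m ≤ r),
    topologicalKrullDim (LefPen.ciIdeal (pre G m hm)).subscheme ≤ ((n - m : ℕ) : WithBot ℕ∞) ∧
    (∀ c q, 1 ≤ q → q ≠ n - m → H (LefPen.ciIdeal (pre G m hm)) c q = 0) ∧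
      IsB (n - m) (shift a m hm) (fun c => H (LefPen.ciIdeal (pre G m hm)) c (n - m)) := by
  intro m
  induction m with
  | zero =>
    intro hm
    have hI : LefPen.ciIdeal (pre G 0 hm) = ⊥ := iSup_of_empty _
    refine ⟨?_, fun c q hq1 hqn => ?_, {0}, by simp [shift], by simp [shift], fun c => ?_⟩
    · refine le_trans ((LefPen.ciIdeal (pre G 0 hm)).subschemeι.isEmbedding.isInducing.topologicalKrullDim_le) ?_
      exact (S10829.result k n).le
    · rw [hI, H_bot]
      obtain ⟨q, rfl⟩ : ∃ e, q = e + 1 := ⟨q - 1, by omega⟩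
      exact DualAbs.Bott.hO_succ c q (Or.inl (by omega))
    · simp only [hI, H_bot, Nat.sub_zero, Multiset.map_singleton, Multiset.sum_singleton, sub_zero]
      obtain ⟨n', rfl⟩ : ∃ e, n = e + 1 := ⟨n - 1, by omega⟩
      rcases le_or_gt c (-((n' + 1 : ℕ) : ℤ) - 1) with hc | hc
      · obtain ⟨j, rfl⟩ : ∃ j : ℕ, c = -((n' + 1 : ℕ) + 1 + (j : ℤ)) :=
          ⟨(-c - ((n' + 1 : ℕ) : ℤ) - 1).toNat, by omega⟩
        refine (ProjTwist.Pn.topEquiv (n' + 1) k j).finrank_eq.trans ((PlanePts.finrank_forms k (n' + 1) j).trans ?_)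
        rw [B, if_pos (by omega)]
        congr 1
        omega
      · rw [DualAbs.Bott.hO_succ c n' (Or.inr (by omega)), (B_eq_zero_iff _ _).2 (by omega)]
  | succ m ih =>
    intro hm
    obtain ⟨hdimm, hvan, hB⟩ := ih (Nat.le_of_succ_le hm)
    let I := LefPen.ciIdeal (pre G m (Nat.le_of_succ_le hm))
    have hI : I.subschemeι.ker = I := Scheme.IdealSheafData.ker_subschemeι I
    obtain ⟨D, hD⟩ : ∃ D, n - m = D + 2 := ⟨n - m - 2, by omega⟩
    have hD1 : n - (m + 1) = D + 1 := by omega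
    letI : I.subscheme.Over (Spec (CommRingCat.of k)) := ⟨I.subschemeι ≫ CohB1.ProjSpace.toSpec n k⟩
    have hc := isEffCartier_step G (by omega) ha hdim I.subschemeι (m := m) hm hI
    have hF := form_ne_zero G (by omega) ha hdim (m := m) hm
    have hst := fun c => step I.subschemeι rfl (G ⟨m, hm⟩) hF hc (D := D) (hD ▸ hdimm)
      (fun c q h1 h2 => by rw [hI]; exact hvan c q h1 (by omega)) c
    have hsup : LefPen.hypIdeal (G ⟨m, hm⟩) ⊔ I.subschemeι.ker = LefPen.ciIdeal (pre G (m + 1) hm) := by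
      rw [hI, ciIdeal_pre_succ G hm]
    rw [hsup, hI] at hst
    rw [hD1]
    refine ⟨?_, fun c q h1 h2 => (hst c).1 q h1 h2, ?_⟩
    · let J := (LefPen.hypIdeal (G ⟨m, hm⟩)).comap I.subschemeι
      have hker : (J.subschemeι ≫ I.subschemeι).ker = LefPen.ciIdeal (pre G (m + 1) hm) := by
        rw [Scheme.Hom.ker_comp, Scheme.IdealSheafData.ker_subschemeι, map_comap, hsup]
      rw [← hker, ← (J.subschemeι ≫ I.subschemeι).toImage.homeomorph.isHomeomorph.topologicalKrullDim_eq]
      exact dim_subscheme_le hc (hdimm.trans (by rw [hD]))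
    · have h := hB.step (d := a ⟨m, hm⟩) (by omega) (ha _) (g := fun c => H (LefPen.ciIdeal (pre G (m + 1) hm)) c (D + 1))
        (fun c => by simp only [hD]; exact (hst c).2.1)
      have hsh : shift a (m + 1) hm = shift a m (Nat.le_of_succ_le hm) + (a ⟨m, hm⟩ : ℤ) - 1 := by
        rw [shift, Fin.sum_univ_castSucc]
        show shift a m (Nat.le_of_succ_le hm) + ((a ⟨m, hm⟩ : ℤ) - 1) = _
        ring
      rw [hsh]
      rwa [show n - m - 1 = D + 1 by omega] at h

include ha hdim in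
/-- Global sections of nonpositive twists. -/
theorem cohomology_zero (hrn : r < n) : ∀ (m : ℕ) (hm : m ≤ r), ∀ c : ℤ, c ≤ 0 →
    H (LefPen.ciIdeal (pre G m hm)) c 0 = if c = 0 then 1 else 0 := by
  intro m
  induction m with
  | zero =>
    intro hm c hc
    have hI : LefPen.ciIdeal (pre G 0 hm) = ⊥ := iSup_of_empty _
    rw [hI, H_bot]
    rcases eq_or_lt_of_le hc with rfl | hlt
    · simpa using DualAbs.Bott.hO_zero (n := n) (k := k) 0
    · rw [if_neg hlt.ne]
      exact DualAbs.Bott.hO_zero_neg (by omega) hlt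
  | succ m ih =>
    intro hm c hc
    obtain ⟨hdimm, hvan, -⟩ := cohomology G ha hdim hrn m (Nat.le_of_succ_le hm)
    let I := LefPen.ciIdeal (pre G m (Nat.le_of_succ_le hm))
    have hI : I.subschemeι.ker = I := Scheme.IdealSheafData.ker_subschemeι I
    obtain ⟨D, hD⟩ : ∃ D, n - m = D + 2 := ⟨n - m - 2, by omega⟩
    letI : I.subscheme.Over (Spec (CommRingCat.of k)) := ⟨I.subschemeι ≫ CohB1.ProjSpace.toSpec n k⟩
    have hst := (step I.subschemeι rfl (G ⟨m, hm⟩) (form_ne_zero G (by omega) ha hdim (m := m) hm)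
      (isEffCartier_step G (by omega) ha hdim I.subschemeι (m := m) hm hI) (D := D) (hD ▸ hdimm)
      (fun c q h1 h2 => by rw [hI]; exact hvan c q h1 (by omega)) c).2.2
    rw [hI, ← ciIdeal_pre_succ G hm] at hst
    have h1 := ih (Nat.le_of_succ_le hm) c hc
    have := ha ⟨m, hm⟩
    have h2 := ih (Nat.le_of_succ_le hm) (c - (a ⟨m, hm⟩ : ℤ)) (by omega)
    rw [if_neg (by omega)] at h2
    simp only [I] at hst
    omega

end CI

end Groth.Agent.DualAbs.CICoh
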