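import Groth.Agent.DualAbs.PnTop
import Groth.Agent.ExtFilt.Sheaf
import Groth.Agent.DualAbs.ExtCor
import Groth.Agent.ExtPowSt.Exists
import Groth.Agent.S3203

/-!
# Exterior powers of an extension by a rank-one module

`0 → Λ^(p+1) E' → Λ^(p+1) E → Λ^p E' ⊗ E'' → 0` for `0 → E' → E → E'' → 0` with `E''` of rank one.
-/

set_option autoImplicit false
set_option linter.style.haveILetI false

universe u

open CategoryTheory CategoryTheory.Limits AlgebraicGeometry TensorProduct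

noncomputable section

namespace Groth.Agent.DualAbs.WedgeSeq

open Groth.Agent.PullStalk.Exact Groth.Agent.Omega.Stalks
  Groth.Agent.ExtPowSt Groth.Agent.KFlat.StalkTensor Groth.Agent.ExtFilt.Sheaf

variable {X : Scheme.{u}}

theorem isZero_extPow {i r : ℕ} {E L : X.Modules} [E.IsQuasicoherent] (Φ : Sys i E L) (hi : r < i)
    (hb : ∀ x, Nonempty (Module.Basis (Fin r) (X.presheaf.stalk x) (E.presheaf.stalk x))) : IsZero L := by
  refine DualAbs.isZero_of_stalks fun x => ?_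
  have : IsEmpty (Set.powersetCard (Fin r) i) := ⟨fun s => by
    have h : s.1.card = i := s.2
    have := s.1.card_le_univ
    rw [h, Fintype.card_fin] at this
    omega⟩
  haveI := ((hb x).some.exteriorPower i).repr.toEquiv.subsingleton
  exact (stalkEquiv Φ x).toEquiv.subsingleton

theorem isZero_tensM_right {L L' : X.Modules} (h : IsZero L') : IsZero (tensM L L') := by
  refine DualAbs.isZero_of_stalks fun x => ?_
  haveI : Subsingleton (L'.presheaf.stalk x) := subsingleton_of_forall_eq 0 fun t => by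
    rw [show t = stalkLin (𝟙 L') x t from by rw [Omega.ProdDiff.stalkLin_id],
      show 𝟙 L' = 0 from h.eq_of_src _ _, stalkLin_zero]
  haveI : Subsingleton (L.presheaf.stalk x ⊗[X.presheaf.stalk x] L'.presheaf.stalk x) :=
    subsingleton_of_forall_eq 0 fun t => by
      induction t using TensorProduct.induction_on with
      | zero => rfl
      | tmul a b => rw [Subsingleton.elim b 0, tmul_zero]
      | add a b ha hb => rw [ha, hb, add_zero]
  exact (stalkTensorEquiv L L' x).toEquiv.subsingleton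

variable {S : ShortComplex X.Modules} [S.X₁.IsQuasicoherent] [S.X₂.IsQuasicoherent] [S.X₃.IsQuasicoherent]
  (hS : S.ShortExact)
  (hb : ∀ x, Nonempty (Module.Basis (Fin 1) (X.presheaf.stalk x) (S.X₃.presheaf.stalk x)))

include hS hb

/-- The low steps of the filtration are everything. -/
theorem isZero_Q : ∀ (i : ℕ) {n : ℕ} {L : X.Modules} (Φ : Sys n S.X₂ L), i + 1 ≤ n → IsZero (Q Φ S.f i) := by
  intro i
  induction i with
  | zero =>
    exact fun Φ _ => DualAbs.isZero_of_stalks fun x => subsingleton_of_forall_eq 0 (Q_zero_eq_zero Φ S.f x)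
  | succ i ih =>
    intro n L Φ hn
    obtain ⟨j, rfl⟩ : ∃ j, n = i + (j + 2) := ⟨n - i - 2, by omega⟩
    obtain ⟨L', hL'⟩ := Exists.exists_isExtPow i S.X₁
    obtain ⟨L'', hL''⟩ := Exists.exists_isExtPow (j + 2) S.X₃
    obtain ⟨T, hT, h₁, h₂, h₃⟩ := ExtFilt.Sheaf.exists_shortExact (f := S.f) (g := S.g)
      ⟨hL'.choose, hL'.choose_spec⟩ Φ ⟨hL''.choose, hL''.choose_spec⟩
      (fun x => (stalk_exact hS x).1) (fun x => (stalk_exact hS x).2.2) (fun x => (stalk_exact hS x).2.1)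
      (fun x => Module.Projective.of_basis (hb x).some)
    have z₁ : IsZero T.X₁ := h₁ ▸ isZero_tensM_right
      (isZero_extPow (r := 1) ⟨hL''.choose, hL''.choose_spec⟩ (by omega) hb)
    have z₃ : IsZero T.X₃ := h₃ ▸ ih Φ (by omega)
    haveI := hT.isIso_g_iff.2 z₁
    exact h₂ ▸ z₃.of_iso (asIso T.g)

/-- The wedge sequence. -/
theorem exists_shortExact {p : ℕ} {L' L L'' : X.Modules} (hL' : ExtPow.IsExtPow (p + 1) S.X₁ L')
    (hL : ExtPow.IsExtPow (p + 1) S.X₂ L) (hL'' : ExtPow.IsExtPow p S.X₁ L'') :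
    ∃ T : ShortComplex X.Modules, T.ShortExact ∧ Nonempty (T.X₁ ≅ L') ∧ Nonempty (T.X₂ ≅ L) ∧
      Nonempty (T.X₃ ≅ CohB1.tensorMod L'' S.X₃) := by
  let Φ : Sys (p + 1) S.X₂ L := ⟨hL.choose, hL.choose_spec⟩
  have h0 := S3203.isExtPow_zero (X := X) S.X₃
  have h1 := S3203.isExtPow_one (X := X) S.X₃
  obtain ⟨T, hT, h₁, h₂, h₃⟩ := ExtFilt.Sheaf.exists_shortExact (f := S.f) (g := S.g) (j := 0)
    ⟨hL'.choose, hL'.choose_spec⟩ Φ ⟨h0.choose, h0.choose_spec⟩
    (fun x => (stalk_exact hS x).1) (fun x => (stalk_exact hS x).2.2) (fun x => (stalk_exact hS x).2.1)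
    (fun x => Module.Projective.of_basis (hb x).some)
  obtain ⟨U, hU, k₁, k₂, k₃⟩ := ExtFilt.Sheaf.exists_shortExact (f := S.f) (g := S.g) (i := p) (j := 1)
    ⟨hL''.choose, hL''.choose_spec⟩ Φ ⟨h1.choose, h1.choose_spec⟩
    (fun x => (stalk_exact hS x).1) (fun x => (stalk_exact hS x).2.2) (fun x => (stalk_exact hS x).2.1)
    (fun x => Module.Projective.of_basis (hb x).some)
  haveI := isIso_π_last Φ S.f
  haveI := hU.isIso_f_iff.2 (k₃ ▸ isZero_Q hS hb p Φ le_rfl)
  exact ⟨T, hT,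
    ⟨eqToIso h₁ ≪≫ ChgRings.commIso L' _ ≪≫ KFlat.TensorLocFree.unitTensorIso L'⟩,
    ⟨eqToIso h₂ ≪≫ (asIso (ExtFilt.Stalkwise.quotπ (St Φ S.f (p + 1 + 1)))).symm⟩,
    ⟨eqToIso (h₃.trans k₂.symm) ≪≫ (asIso U.f).symm ≪≫ eqToIso k₁⟩⟩

end Groth.Agent.DualAbs.WedgeSeq
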