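import Groth.Agent.DualAbs.CICoh
import Groth.Agent.DualAbs.WedgeSeq
import Groth.Agent.DualAbs.WedgePair
import Groth.Agent.DualAbs.PnTop
import Groth.Agent.CycLib.ChowOp.Ops
import Groth.Agent.ExtHom.Compare
import Groth.Agent.S15517
import Groth.Agent.ExtPowSt.Pullback

/-!
# Exterior powers of differentials of complete intersections: cohomology below the middle degree
-/

set_option autoImplicit false
set_option linter.style.haveILetI false
set_option maxHeartbeats 800000

universe u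

open CategoryTheory CategoryTheory.Limits AlgebraicGeometry

noncomputable section

namespace Groth.Agent.DualAbs.CIHodge

open Groth.Agent.PullStalk.Exact Groth.Agent.Omega.Stalks Groth.Agent.ExtPowSt
  Groth.Agent.ExtFilt.Sheaf Groth.Agent.ExtFilt.Stalkwise
open Groth.Agent.Omega.ProdDiff (stalkLin_id stalkLin_add)

variable {X : Scheme.{u}}

/-- Stalkwise short exactness. -/
theorem shortExact_of_stalks {A B C : X.Modules} (f : A ⟶ B) (g : B ⟶ C) (hz : f ≫ g = 0)
    (hi : ∀ x, Function.Injective (stalkLin f x)) (hs : ∀ x, Function.Surjective (stalkLin g x))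
    (he : ∀ x, Function.Exact (stalkLin f x) (stalkLin g x)) : (ShortComplex.mk f g hz).ShortExact :=
  { exact := exact_of_stalk _ fun x t ht => (he x t).1 ht
    mono_f := mono_of_stalk hi
    epi_g := epi_of_stalk hs }

theorem isQCoh_sigma [IsLocallyNoetherian X] {m : ℕ} (A : Fin m → X.Modules) (hA : ∀ j, Coh.IsCoh (A j)) :
    Coh.IsCoh (∐ A) :=
  CohDev.isCoh_of_iso
    (Sigma.whiskerEquiv (f := fun j : ULift.{u} (Fin m) => A j.down) (g := A) Equiv.ulift fun _ => Iso.refl _)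
    (ProjTwist.Pn.isCoh_sigma _ fun j => hA j.down)

/-- Dropping the last summand. -/
abbrev splitCx {m : ℕ} (A : Fin (m + 1) → X.Modules) : ShortComplex X.Modules :=
  ShortComplex.mk (Sigma.ι A (Fin.last m))
    (Sigma.desc fun j => Fin.lastCases (motive := fun j => A j ⟶ ∐ fun l : Fin m => A l.castSucc) 0
      (fun l => Sigma.ι (fun l : Fin m => A l.castSucc) l) j)
    (by simp)

/-- The inclusion of the first summands. -/
abbrev first {m : ℕ} (A : Fin (m + 1) → X.Modules) : (∐ fun l : Fin m => A l.castSucc) ⟶ ∐ A :=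
  Sigma.desc fun l => Sigma.ι A l.castSucc

theorem first_split {m : ℕ} (A : Fin (m + 1) → X.Modules) : first A ≫ (splitCx A).g = 𝟙 _ :=
  Sigma.hom_ext _ _ fun l => by simp

/-- The first component of the last summand. -/
abbrev lastProj {m : ℕ} (A : Fin (m + 1) → X.Modules) : (∐ A) ⟶ A (Fin.last m) :=
  Sigma.desc fun j => Fin.lastCases (motive := fun j => A j ⟶ A (Fin.last m)) (𝟙 _) (fun _ => 0) j

theorem ι_lastProj {m : ℕ} (A : Fin (m + 1) → X.Modules) : Sigma.ι A (Fin.last m) ≫ lastProj A = 𝟙 _ := by simp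

theorem total {m : ℕ} (A : Fin (m + 1) → X.Modules) :
    lastProj A ≫ Sigma.ι A (Fin.last m) + (splitCx A).g ≫ first A = 𝟙 _ :=
  Sigma.hom_ext _ _ fun j => by
    refine Fin.lastCases ?_ (fun l => ?_) j
    · simp [Preadditive.comp_add]
    · simp [Preadditive.comp_add]

theorem shortExact_splitCx {m : ℕ} (A : Fin (m + 1) → X.Modules) : (splitCx A).ShortExact :=
  ShortComplex.Splitting.shortExact
    { r := lastProj A
      s := first A
      f_r := ι_lastProj A
      s_g := first_split A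
      id := total A }

theorem exists_basis_sigma : ∀ (m : ℕ) (A : Fin m → X.Modules) (_ : ∀ j, PicF.IsInvertible (A j)) (y : X),
    Nonempty (Module.Basis (Fin m) (X.presheaf.stalk y) ((∐ A).presheaf.stalk y))
  | 0, A, _, y => by
    have h0 : 𝟙 (∐ A) = 0 := Sigma.hom_ext _ _ fun j => j.elim0
    haveI : Subsingleton ((∐ A).presheaf.stalk y) := subsingleton_of_forall_eq 0 fun t => by
      rw [show t = stalkLin (𝟙 (∐ A)) y t from by rw [stalkLin_id], h0, stalkLin_zero]
    exact ⟨Module.Basis.empty _⟩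
  | m + 1, A, hA, y => by
    obtain ⟨b⟩ := PnTop.exists_basis_mid (shortExact_splitCx A) y
      (PnTop.exists_basis_invertible (hA _) y).some (exists_basis_sigma m _ (fun l => hA _) y).some
    exact ⟨b.reindex (finCongr (add_comm 1 m))⟩

/-- The exterior powers of an extension with rank-one kernel. -/
theorem exists_wedge_sub {p r : ℕ} {A E W L L'' L₁ : X.Modules} [A.IsQuasicoherent] [E.IsQuasicoherent]
    [W.IsQuasicoherent] (f : A ⟶ E) (g : E ⟶ W) (hi : ∀ x, Function.Injective (stalkLin f x))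
    (hs : ∀ x, Function.Surjective (stalkLin g x)) (he : ∀ x, Function.Exact (stalkLin f x) (stalkLin g x))
    (hA : ∀ x, Nonempty (Module.Basis (Fin 1) (X.presheaf.stalk x) (A.presheaf.stalk x)))
    (hW : ∀ x, Nonempty (Module.Basis (Fin r) (X.presheaf.stalk x) (W.presheaf.stalk x)))
    (hL : ExtPow.IsExtPow (1 + p) E L) (hL'' : ExtPow.IsExtPow p W L'') (hL₁ : ExtPow.IsExtPow (1 + p) W L₁) :
    ∃ T : ShortComplex X.Modules, T.ShortExact ∧ Nonempty (T.X₁ ≅ CohB1.tensorMod A L'') ∧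
      Nonempty (T.X₂ ≅ L) ∧ Nonempty (T.X₃ ≅ L₁) := by
  let Φ : Sys (1 + p) E L := ⟨hL.choose, hL.choose_spec⟩
  have hp := fun x => Module.Projective.of_basis (hW x).some
  have h1 := S3203.isExtPow_one (X := X) A
  obtain ⟨T, hT, t₁, t₂, t₃⟩ := ExtFilt.Sheaf.exists_shortExact (f := f) (g := g) (i := 1) (j := p)
    ⟨h1.choose, h1.choose_spec⟩ Φ ⟨hL''.choose, hL''.choose_spec⟩ hi hs he hp
  have hQ1 : ∀ {n : ℕ} {L L₁ : X.Modules} (Φ : Sys n E L) (_ : ExtPow.IsExtPow n W L₁),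
      Nonempty (ExtFilt.Sheaf.Q Φ f 1 ≅ L₁) := by
    intro n L L₁ Φ hL₁
    obtain ⟨j, rfl⟩ : ∃ j, n = 0 + j := ⟨n, (zero_add n).symm⟩
    rw [zero_add] at hL₁
    have h0 := S3203.isExtPow_zero (X := X) A
    obtain ⟨U, hU, u₁, u₂, u₃⟩ := ExtFilt.Sheaf.exists_shortExact (f := f) (g := g) (i := 0) (j := j)
      ⟨h0.choose, h0.choose_spec⟩ Φ ⟨hL₁.choose, hL₁.choose_spec⟩ hi hs he hp
    have hz : IsZero U.X₃ := u₃ ▸ DualAbs.isZero_of_stalks fun x =>
      subsingleton_of_forall_eq 0 (Q_zero_eq_zero Φ f x)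
    haveI := hU.isIso_f_iff.2 hz
    exact ⟨(eqToIso u₂).symm ≪≫ (asIso U.f).symm ≪≫ eqToIso u₁ ≪≫ KFlat.TensorLocFree.unitTensorIso L₁⟩
  obtain ⟨e₃⟩ := hQ1 Φ hL₁
  haveI : IsIso (quotπ (St Φ f (1 + 1))) := isIso_of_stalk fun x => ⟨LinearMap.ker_eq_bot.1 (by
    rw [ker_π, St, DetSeq.Fil_succ_eq_bot (stalkLin f x) (hA x).some (1 + p), Submodule.comap_bot,
      LinearEquiv.ker]), quotπ_surjective _ x⟩
  exact ⟨T, hT, ⟨eqToIso t₁⟩, ⟨eqToIso t₂ ≪≫ (asIso (quotπ (St Φ f (1 + 1)))).symm⟩, ⟨eqToIso t₃ ≪≫ e₃⟩⟩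

/-! ## Twisted cohomology -/

variable {k : Type u} [Field k] {N : ℕ} [X.Over (Spec (CommRingCat.of k))]
  [IsProper (X ↘ Spec (CommRingCat.of k))] (ι : X ⟶ CohB1.ProjSpace N k)

/-- `O_X(c)`. -/
abbrev O (c : ℤ) : X.Modules := (Scheme.Modules.pullback ι).obj (Twist.twistProjSpace N k c)

omit [X.Over (Spec (CommRingCat.of k))] [IsProper (X ↘ Spec (CommRingCat.of k))] in
theorem isInvertible_O (c : ℤ) : PicF.IsInvertible (O ι c) :=
  PicCl.isInvertible_pullback ι (ProjTwist.isInvertible_twistProjSpace N k c)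

/-- `dim H^i(X, M(t))`. -/
def hT (t : ℤ) (M : X.Modules) (i : ℕ) : ℕ :=
  Module.finrank k (Coh.HH X (CohB1.tensorMod (O ι t) M) i)

omit [IsProper (X ↘ Spec (CommRingCat.of k))] in
theorem hT_congr {M M' : X.Modules} (e : M ≅ M') (t : ℤ) (i : ℕ) : hT ι t M i = hT ι t M' i :=
  (SurfRR.hhEquiv k (ProjTwist.tensCongr (Iso.refl _) e) i).finrank_eq

omit [IsProper (X ↘ Spec (CommRingCat.of k))] in
theorem hT_structure (t : ℤ) (i : ℕ) :
    hT ι t (Coh.structureModule X) i = Module.finrank k (Coh.HH X (O ι t) i) :=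
  (SurfRR.hhEquiv k (ProjTwist.tensOne _) i).finrank_eq

omit [IsProper (X ↘ Spec (CommRingCat.of k))] in
theorem hT_zero (M : X.Modules) (i : ℕ) : hT ι 0 M i = Module.finrank k (Coh.HH X M i) :=
  (SurfRR.hhEquiv k (ProjTwist.tensCongr
    ((Scheme.Modules.pullback ι).mapIso (ProjTwist.twistZeroIso (CohB1.polyGrading N k)).symm ≪≫
      QCoh.pullbackUnitIso ι) (Iso.refl M) ≪≫ ProjTwist.oneTens M) i).finrank_eq

omit [X.Over (Spec (CommRingCat.of k))] [IsProper (X ↘ Spec (CommRingCat.of k))] in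
theorem nonempty_O_tensor (a b c : ℤ) (h : a + b = c) (M : X.Modules) :
    Nonempty (CohB1.tensorMod (O ι a) (CohB1.tensorMod (O ι b) M) ≅ CohB1.tensorMod (O ι c) M) := by
  obtain ⟨t⟩ := ProjTwist.nonempty_twistProjSpace_tensor N k a b
  exact ⟨(ProjTwist.tensAssoc _ _ M).symm ≪≫ ProjTwist.tensCongr ((KFlat.PullTensor.pullTensorIso ι _ _).symm ≪≫
    (Scheme.Modules.pullback ι).mapIso (t ≪≫ eqToIso (congrArg _ h))) (Iso.refl M)⟩

omit [IsProper (X ↘ Spec (CommRingCat.of k))] in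
theorem hT_shift {A : X.Modules} {a : ℕ} (eA : A ≅ O ι (-(a : ℤ))) (t : ℤ) (M : X.Modules) (i : ℕ) :
    hT ι t (CohB1.tensorMod A M) i = hT ι (t - a) M i := by
  obtain ⟨e⟩ := nonempty_O_tensor ι t (-(a : ℤ)) (t - a) (sub_eq_add_neg t a).symm M
  exact (hT_congr ι (ProjTwist.tensCongr eA (Iso.refl M)) t i).trans (SurfRR.hhEquiv k e i).finrank_eq

/-- The numerics of a twisted short exact sequence. -/
theorem exists_ranks_tw {S : ShortComplex X.Modules} (hS : S.ShortExact) (h₁ : Coh.IsCoh S.X₁)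
    (h₂ : Coh.IsCoh S.X₂) (h₃ : Coh.IsCoh S.X₃) (t : ℤ) :
    ∃ r a b : ℕ → ℕ, r 0 = 0 ∧ ∀ q, hT ι t S.X₁ q = r q + a q ∧ hT ι t S.X₂ q = a q + b q ∧
      hT ι t S.X₃ q = b q + r (q + 1) := by
  haveI := EulerChar.isLocallyNoetherian k (X := X)
  haveI := EulerChar.isNoetherian k (X := X)
  have hV := ProjTwist.isFinLocFreeOfRank_one (isInvertible_O ι t)
  let F := (DCoh.tensorBi (X := X)).obj (O ι t)
  have hM : (ShortComplex.mk (F.map S.f) (F.map S.g) (by rw [← F.map_comp, S.zero, F.map_zero])).ShortExact :=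
    CohDev.tens_shortExact hV hS
  have c₁ : Coh.IsCoh (F.obj S.X₁) := CohDev.isCoh_tens hV h₁
  have c₂ : Coh.IsCoh (F.obj S.X₂) := CohDev.isCoh_tens hV h₂
  have c₃ : Coh.IsCoh (F.obj S.X₃) := CohDev.isCoh_tens hV h₃
  obtain ⟨r, a, b, r0, hr⟩ := CICoh.exists_ranks (k := k) hM c₁ c₂ c₃
  refine ⟨r, a, b, r0, fun q => ?_⟩
  have h := hr q
  dsimp only at h
  unfold hT CohB1.tensorMod
  exact h

/-- The expected dimensions. -/
def dlt (t : ℤ) (i p : ℕ) : ℕ := if t = 0 ∧ i = p then 1 else 0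

/-- The exterior powers of `E` have the expected cohomology below degree `n`. -/
def Good (n : ℕ) (E : X.Modules) : Prop :=
  ∀ (p : ℕ) (L : X.Modules), ExtPow.IsExtPow p E L → ∀ t : ℤ, t ≤ 0 → ∀ i, i + p < n → hT ι t L i = dlt t i p

/-- Quotient by a negative line bundle. -/
theorem good_quot {n r a : ℕ} (ha : 1 ≤ a) {A E W : X.Modules} (hE : Coh.IsCoh E) (hW : Coh.IsCoh W)
    (f : A ⟶ E) (g : E ⟶ W) (hi : ∀ x, Function.Injective (stalkLin f x))
    (hs : ∀ x, Function.Surjective (stalkLin g x)) (he : ∀ x, Function.Exact (stalkLin f x) (stalkLin g x))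
    (eA : A ≅ O ι (-(a : ℤ)))
    (hbW : ∀ x, Nonempty (Module.Basis (Fin r) (X.presheaf.stalk x) (W.presheaf.stalk x)))
    (h : Good ι n E) : Good ι n W := by
  haveI := EulerChar.isLocallyNoetherian k (X := X)
  haveI := EulerChar.isNoetherian k (X := X)
  haveI := hE.1
  haveI := hW.1
  have hAi : PicF.IsInvertible A := PicCl.isInvertible_of_iso eA.symm (isInvertible_O ι _)
  haveI : A.IsQuasicoherent := ProjTwist.isQCoh_of_isInvertible hAi
  intro p
  induction p with
  | zero =>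
    intro L hL t ht i hi'
    obtain ⟨e⟩ := S3203.extPow_iso hL (S3203.isExtPow_zero W)
    rw [hT_congr ι e]
    exact h 0 _ (S3203.isExtPow_zero E) t ht i hi'
  | succ p ih =>
    intro L₁ hL₁ t ht i hi'
    rw [add_comm p 1] at hL₁
    obtain ⟨L'', hL''⟩ := ExtPowSt.Exists.exists_isExtPow p W
    obtain ⟨L, hL⟩ := ExtPowSt.Exists.exists_isExtPow (1 + p) E
    obtain ⟨T, hT', ⟨e₁⟩, ⟨e₂⟩, ⟨e₃⟩⟩ := exists_wedge_sub f g hi hs he
      (PnTop.exists_basis_invertible hAi) hbW hL hL'' hL₁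
    have c'' := ExtPowSt.isCoh ⟨hL''.choose, hL''.choose_spec⟩ hW
    obtain ⟨u, v, w, -, hr⟩ := exists_ranks_tw ι hT'
      (CohDev.isCoh_of_iso e₁.symm (CohDev.isCoh_tens (ProjTwist.isFinLocFreeOfRank_one hAi) c''))
      (CohDev.isCoh_of_iso e₂.symm (ExtPowSt.isCoh ⟨hL.choose, hL.choose_spec⟩ hE))
      (CohDev.isCoh_of_iso e₃.symm (ExtPowSt.isCoh ⟨hL₁.choose, hL₁.choose_spec⟩ hW)) t
    have hz : ∀ j, j + p < n → u j + v j = 0 := fun j hj => by
      rw [← (hr j).1, hT_congr ι e₁, hT_shift ι eA, ih L'' hL'' _ (by omega) j hj, dlt, if_neg (by omega)]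
    have h2 := (hr i).2.1
    rw [hT_congr ι e₂, h (1 + p) L hL t ht i (by omega)] at h2
    have h3 := (hr i).2.2
    rw [hT_congr ι e₃] at h3
    have := hz i (by omega)
    have := hz (i + 1) (by omega)
    rw [h3, show p + 1 = 1 + p from add_comm _ _]
    omega

/-- Quotient by a sum of negative line bundles. -/
theorem good_sigma {n r : ℕ} : ∀ (m : ℕ) (a : Fin m → ℕ) (_ : ∀ j, 1 ≤ a j) (A : Fin m → X.Modules)
    (_ : ∀ j, Nonempty (A j ≅ O ι (-(a j : ℤ)))) (E W : X.Modules) (f : (∐ A) ⟶ E) (g : E ⟶ W),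
    Coh.IsCoh E → Coh.IsCoh W →
    (∀ x, Function.Injective (stalkLin f x)) → (∀ x, Function.Surjective (stalkLin g x)) →
    (∀ x, Function.Exact (stalkLin f x) (stalkLin g x)) →
    (∀ x, Nonempty (Module.Basis (Fin r) (X.presheaf.stalk x) (W.presheaf.stalk x))) →
    Good ι n E → Good ι n W := by
  intro m
  induction m with
  | zero =>
    intro a _ A _ E W f g hE hW hi hs he hbW h
    have h0 : 𝟙 (∐ A) = 0 := Sigma.hom_ext _ _ fun j => j.elim0
    haveI : IsIso g := isIso_of_stalk fun x => ⟨(injective_iff_map_eq_zero _).2 fun t ht => by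
      obtain ⟨s, rfl⟩ := (he x t).1 ht
      rw [show s = stalkLin (𝟙 (∐ A)) x s from by rw [stalkLin_id], h0, stalkLin_zero]
      exact map_zero _, hs x⟩
    intro p L hL
    exact h p L (ExtPowSt.Pullback.isExtPow_of_iso_left (asIso g).symm hL)
  | succ m ih =>
    intro a ha A hA E W f g hE hW hi hs he hbW h
    haveI := EulerChar.isLocallyNoetherian k (X := X)
    have hAi : ∀ j, PicF.IsInvertible (A j) := fun j =>
      PicCl.isInvertible_of_iso (hA j).some.symm (isInvertible_O ι _)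
    let f₁ := Sigma.ι A (Fin.last m) ≫ f
    let f₂ := first A ≫ f ≫ cokernel.π f₁
    have hS := shortExact_splitCx A
    have hfg : f ≫ g = 0 := hom_ext_stalk fun x => LinearMap.ext fun s => by
      rw [stalkLin_comp, stalkLin_zero, (he x).apply_apply_eq_zero]
    let g₂ : cokernel f₁ ⟶ W := cokernel.desc f₁ g (by simp [f₁, hfg])
    have hi₁ : ∀ x, Function.Injective (stalkLin f₁ x) := fun x s s' e => by
      rw [stalkLin_comp, stalkLin_comp] at e
      exact (stalk_exact hS x).1 (hi x e)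
    haveI : Mono f₁ := mono_of_stalk hi₁
    have hS₁ : (ShortComplex.mk f₁ (cokernel.π f₁) (cokernel.condition f₁)).ShortExact :=
      { exact := ShortComplex.exact_of_g_is_cokernel _ (cokernelIsCokernel f₁) }
    have hsplit : ∀ x c, c = stalkLin (Sigma.ι A (Fin.last m)) x (stalkLin (lastProj A) x c) +
        stalkLin (first A) x (stalkLin (splitCx A).g x c) := fun x c => by
      conv_lhs => rw [show c = stalkLin (𝟙 (∐ A)) x c from by rw [stalkLin_id], ← total A,
        stalkLin_add, stalkLin_comp, stalkLin_comp]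
    have hi₂ : ∀ x, Function.Injective (stalkLin f₂ x) := fun x => (injective_iff_map_eq_zero _).2 fun s hs' => by
      rw [stalkLin_comp, stalkLin_comp] at hs'
      obtain ⟨l, hl⟩ := ((stalk_exact hS₁ x).2.1 _).1 hs'
      change stalkLin f₁ x l = _ at hl
      rw [stalkLin_comp] at hl
      have h1 := congrArg (stalkLin (splitCx A).g x) (hi x hl)
      rw [(stalk_exact hS x).2.1.apply_apply_eq_zero, ← stalkLin_comp (first A), first_split, stalkLin_id] at h1
      exact h1.symm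
    have hs₂ : ∀ x, Function.Surjective (stalkLin g₂ x) := fun x w => by
      obtain ⟨e, rfl⟩ := hs x w
      exact ⟨stalkLin (cokernel.π f₁) x e, by rw [← stalkLin_comp, cokernel.π_desc]⟩
    have he₂ : ∀ x, Function.Exact (stalkLin f₂ x) (stalkLin g₂ x) := fun x q => by
      constructor
      · intro hq
        obtain ⟨e, rfl⟩ := (stalk_exact hS₁ x).2.2 q
        change stalkLin g₂ x (stalkLin (cokernel.π f₁) x e) = 0 at hq
        rw [← stalkLin_comp, cokernel.π_desc] at hq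
        obtain ⟨c, rfl⟩ := (he x e).1 hq
        refine ⟨stalkLin (splitCx A).g x c, ?_⟩
        show stalkLin f₂ x _ = stalkLin (cokernel.π f₁) x (stalkLin f x c)
        conv_rhs => rw [hsplit x c, map_add, map_add]
        rw [stalkLin_comp, stalkLin_comp, ← stalkLin_comp (Sigma.ι A _) f,
          (stalk_exact hS₁ x).2.1.apply_apply_eq_zero, zero_add]
      · rintro ⟨s, rfl⟩
        rw [← stalkLin_comp]
        show stalkLin ((first A ≫ f ≫ cokernel.π f₁) ≫ g₂) x s = 0
        rw [Category.assoc, Category.assoc, cokernel.π_desc, hfg, comp_zero, stalkLin_zero]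
    have hA' := fun l : Fin m => hAi l.castSucc
    have hS₂ : (ShortComplex.mk f₂ g₂ (hom_ext_stalk fun x => LinearMap.ext fun s => by
        rw [stalkLin_comp, stalkLin_zero, (he₂ x).apply_apply_eq_zero])).ShortExact :=
      shortExact_of_stalks _ _ _ hi₂ hs₂ he₂
    have hQ : Coh.IsCoh (cokernel f₁) :=
      CohDev.isCoh_cokernel f₁ (ProjTwist.isQCoh_of_isInvertible (hAi _)) hE
    have hbQ : ∀ x, Nonempty (Module.Basis (Fin (m + r)) (X.presheaf.stalk x) ((cokernel f₁).presheaf.stalk x)) :=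
      fun x => PnTop.exists_basis_mid hS₂ x (exists_basis_sigma m _ hA' x).some (hbW x).some
    refine ih (fun l => a l.castSucc) (fun l => ha _) (fun l => A l.castSucc) (fun l => hA _) (cokernel f₁) W
      f₂ g₂ hQ hW hi₂ hs₂ he₂ hbW ?_
    exact good_quot ι (ha _) hE hQ f₁ (cokernel.π f₁) hi₁ (fun x => (stalk_exact hS₁ x).2.2)
      (fun x => (stalk_exact hS₁ x).2.1) (hA _).some hbQ h

omit [IsProper (X ↘ Spec (CommRingCat.of k))] in
theorem hT_isZero {M : X.Modules} (hM : IsZero M) (t : ℤ) (i : ℕ) : hT ι t M i = 0 := by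
  have hz : IsZero (CohB1.tensorMod (O ι t) M) := WedgeSeq.isZero_tensM_right hM
  have h1 : CohLES.mapL k (𝟙 (CohB1.tensorMod (O ι t) M)) i =
      CohLES.mapL k (0 : CohB1.tensorMod (O ι t) M ⟶ CohB1.tensorMod (O ι t) M) i := by
    rw [hz.eq_of_src (𝟙 _) 0]
  rw [CohLES.mapL_id, CohLES.mapL_zero] at h1
  haveI : Subsingleton (Coh.HH X (CohB1.tensorMod (O ι t) M) i) :=
    subsingleton_of_forall_eq 0 fun x => LinearMap.congr_fun h1 x
  exact Module.finrank_zero_of_subsingleton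

/-- The structure sheaf has the expected cohomology. -/
def GoodO (n : ℕ) : Prop :=
  ∀ t : ℤ, t ≤ 0 → ∀ i, i < n → Module.finrank k (Coh.HH X (O ι t) i) = dlt t i 0

theorem hT_pow {n : ℕ} (hO : GoodO ι n) : ∀ (m p : ℕ) (L : X.Modules),
    ExtPow.IsExtPow (p + 1) (∐ fun _ : Fin m => O ι (-1)) L → ∀ t : ℤ, t ≤ 0 → ∀ i, i < n →
      hT ι t L i = 0 := by
  haveI := EulerChar.isLocallyNoetherian k (X := X)
  haveI := EulerChar.isNoetherian k (X := X)
  have hcO : ∀ c, Coh.IsCoh (O ι c) := fun c =>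
    VBLib.isCoh_of_isFinLocFree (ProjForm.isFinLocFree_of_isInvertible (isInvertible_O ι c))
  intro m
  induction m with
  | zero =>
    intro p L hL t _ i _
    haveI := (isQCoh_sigma (fun _ : Fin 0 => O ι (-1)) fun _ => hcO _).1
    exact hT_isZero ι (WedgeSeq.isZero_extPow (r := 0) ⟨hL.choose, hL.choose_spec⟩ (Nat.succ_pos p)
      (exists_basis_sigma 0 _ fun _ => isInvertible_O ι _)) t i
  | succ m ih =>
    intro p L hL t ht i hi
    let A : Fin (m + 1) → X.Modules := fun _ => O ι (-1)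
    let S : ShortComplex X.Modules := ShortComplex.mk (first A) (lastProj A)
      (Sigma.hom_ext _ _ fun l => by simp)
    have hS : S.ShortExact := ShortComplex.Splitting.shortExact
      { r := (splitCx A).g
        s := Sigma.ι A (Fin.last m)
        f_r := first_split A
        s_g := ι_lastProj A
        id := by rw [add_comm]; exact total A }
    have c₁ : Coh.IsCoh S.X₁ := isQCoh_sigma _ fun _ => hcO _
    have c₂ : Coh.IsCoh S.X₂ := isQCoh_sigma _ fun _ => hcO _
    haveI : S.X₁.IsQuasicoherent := c₁.1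
    haveI : S.X₂.IsQuasicoherent := c₂.1
    haveI : S.X₃.IsQuasicoherent := (hcO (-1)).1
    obtain ⟨L', hL'⟩ := ExtPowSt.Exists.exists_isExtPow (p + 1) S.X₁
    obtain ⟨L'', hL''⟩ := ExtPowSt.Exists.exists_isExtPow p S.X₁
    obtain ⟨T, hT', ⟨e₁⟩, ⟨e₂⟩, ⟨e₃⟩⟩ := WedgeSeq.exists_shortExact hS
      (PnTop.exists_basis_invertible (isInvertible_O ι (-1))) hL' hL hL''
    have c'' := ExtPowSt.isCoh ⟨hL''.choose, hL''.choose_spec⟩ c₁
    obtain ⟨u, v, w, -, hr⟩ := exists_ranks_tw ι hT'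
      (CohDev.isCoh_of_iso e₁.symm (ExtPowSt.isCoh ⟨hL'.choose, hL'.choose_spec⟩ c₁))
      (CohDev.isCoh_of_iso e₂.symm (ExtPowSt.isCoh ⟨hL.choose, hL.choose_spec⟩ c₂))
      (CohDev.isCoh_of_iso (e₃ ≪≫ ProjTwist.tensComm _ _).symm
        (CohDev.isCoh_tens (ProjTwist.isFinLocFreeOfRank_one (isInvertible_O ι (-1))) c'')) t
    obtain ⟨h1, h2, h3⟩ := hr i
    rw [hT_congr ι e₁, ih p L' hL' t ht i hi] at h1
    rw [hT_congr ι (e₃ ≪≫ ProjTwist.tensComm _ _),
      hT_shift ι (a := 1) (eqToIso (by simp [S, A])) t L'' i] at h3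
    have hz : hT ι (t - (1 : ℕ)) L'' i = 0 := by
      cases p with
      | zero =>
        obtain ⟨e⟩ := S3203.extPow_iso hL'' (S3203.isExtPow_zero S.X₁)
        rw [hT_congr ι e, hT_structure, hO _ (by omega) i hi, dlt, if_neg (by omega)]
      | succ p => exact ih p L'' hL'' _ (by omega) i hi
    rw [hz] at h3
    rw [← hT_congr ι e₂, h2]
    omega

omit [IsProper (X ↘ Spec (CommRingCat.of k))] in
theorem nonempty_O_zero : Nonempty (O ι 0 ≅ Coh.structureModule X) :=
  ⟨(Scheme.Modules.pullback ι).mapIso (ProjTwist.twistZeroIso (CohB1.polyGrading N k)).symm ≪≫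
      QCoh.pullbackUnitIso ι⟩

/-- The restricted differentials of projective space have the expected cohomology. -/
theorem good_omega {n : ℕ} (hO : GoodO ι n) :
    Good ι n ((Scheme.Modules.pullback ι).obj (DualAbs.Bott.Om N k)) := by
  haveI := EulerChar.isLocallyNoetherian k (X := X)
  haveI := EulerChar.isNoetherian k (X := X)
  haveI : IsLocallyNoetherian (CohB1.ProjSpace N k) := SerrePn.isLocallyNoetherian (n := N) (R := k)
  let f : DualAbs.Bott.Om N k ⟶ PnTop.pow N k (N + 1) :=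
    (EulerSeq.omegaIsoKK N k).hom ≫ kernel.ι (EulerSeq.eulerMap N k)
  have hw : f ≫ EulerSeq.eulerMap N k = 0 := by rw [Category.assoc, kernel.condition, comp_zero]
  have hS : (ShortComplex.mk f (EulerSeq.eulerMap N k) hw).ShortExact := ShortComplex.shortExact_of_iso
    (ShortComplex.isoMk (EulerSeq.omegaIsoKK N k).symm (Iso.refl _) (Iso.refl _)
      (by simp [f]) (by simp) : EulerSeq.eulerCx N k ≅ ShortComplex.mk f (EulerSeq.eulerMap N k) hw)
    (EulerSeq.shortExact_eulerCx N k)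
  obtain ⟨hh, hSX⟩ := CycLib.ChowOp.shortExact_pullback ι f (EulerSeq.eulerMap N k) hw hS
    (ProjForm.isFinLocFree_of_isInvertible (ProjTwist.isInvertible_twistProjSpace N k 0))
  let B : Fin (N + 1) → (CohB1.ProjSpace N k).Modules := fun _ => Twist.twistProjSpace N k (-1)
  let eP : (Scheme.Modules.pullback ι).obj (PnTop.pow N k (N + 1)) ≅ ∐ fun _ : Fin (N + 1) => O ι (-1) :=
    PreservesCoproduct.iso (Scheme.Modules.pullback ι) B
  have c₁ : Coh.IsCoh ((Scheme.Modules.pullback ι).obj (DualAbs.Bott.Om N k)) :=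
    ZClosLib.CohDescent.isCoh_pullback ι _ DualAbs.Bott.isCoh_Om
  have c₂ : Coh.IsCoh ((Scheme.Modules.pullback ι).obj (PnTop.pow N k (N + 1))) :=
    ZClosLib.CohDescent.isCoh_pullback ι _ (PnTop.isCoh_pow N k (N + 1))
  have c₃ : Coh.IsCoh (O ι 0) := VBLib.isCoh_of_isFinLocFree (ProjForm.isFinLocFree_of_isInvertible (isInvertible_O ι 0))
  haveI := c₁.1
  haveI := c₂.1
  haveI : (O ι 0).IsQuasicoherent := c₃.1
  intro p
  induction p with
  | zero =>
    intro L hL t ht i hi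
    obtain ⟨e⟩ := S3203.extPow_iso hL (S3203.isExtPow_zero _)
    rw [hT_congr ι e, hT_structure]
    exact hO t ht i (by omega)
  | succ p ih =>
    intro L' hL' t ht i hi
    obtain ⟨L'', hL''⟩ := ExtPowSt.Exists.exists_isExtPow p ((Scheme.Modules.pullback ι).obj (DualAbs.Bott.Om N k))
    obtain ⟨L, hL⟩ := ExtPowSt.Exists.exists_isExtPow (p + 1) ((Scheme.Modules.pullback ι).obj (PnTop.pow N k (N + 1)))
    obtain ⟨T, hT', ⟨e₁⟩, ⟨e₂⟩, ⟨e₃⟩⟩ := @WedgeSeq.exists_shortExact X _ (by exact c₁.1) (by exact c₂.1) (by exact c₃.1)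
      hSX (PnTop.exists_basis_invertible (isInvertible_O ι 0)) p L' L L'' hL' hL hL''
    obtain ⟨eO⟩ := nonempty_O_zero ι
    let e₃' : T.X₃ ≅ L'' := e₃ ≪≫ ProjTwist.tensCongr (Iso.refl L'') eO ≪≫ ProjTwist.tensOne L''
    have cL := ExtPowSt.isCoh ⟨hL.choose, hL.choose_spec⟩ c₂
    have hpow : ∀ j, j < n → hT ι t L j = 0 := fun j hj =>
      hT_pow ι hO (N + 1) p L (ExtPowSt.Pullback.isExtPow_of_iso_left eP hL) t ht j hj
    obtain ⟨u, v, w, u0, hr⟩ := exists_ranks_tw ι hT'
      (CohDev.isCoh_of_iso e₁.symm (ExtPowSt.isCoh ⟨hL'.choose, hL'.choose_spec⟩ c₁))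
      (CohDev.isCoh_of_iso e₂.symm cL)
      (CohDev.isCoh_of_iso e₃'.symm (ExtPowSt.isCoh ⟨hL''.choose, hL''.choose_spec⟩ c₁)) t
    rw [← hT_congr ι e₁, (hr i).1]
    have h2 := (hr i).2.1
    rw [hT_congr ι e₂, hpow i (by omega)] at h2
    cases i with
    | zero => rw [u0, dlt, if_neg (by omega)]; omega
    | succ i =>
      have h2' := (hr i).2.1
      rw [hT_congr ι e₂, hpow i (by omega)] at h2'
      have h3 := (hr i).2.2
      rw [hT_congr ι e₃', ih L'' hL'' t ht i (by omega)] at h3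
      have : dlt t (i + 1) (p + 1) = dlt t i p := by simp [dlt]
      omega

/-! ## Complete intersections -/

omit [X.Over (Spec (CommRingCat.of k))] [IsProper (X ↘ Spec (CommRingCat.of k))]

variable {n d : ℕ} {a : Fin d → ℕ} (G : ∀ j : Fin d, LefPen.Form (n + d) k (a j)) (ha : ∀ j, 1 ≤ a j)
  [SmoothOfRelativeDimension n ((LefPen.ciIdeal G).subschemeι ≫ CohB1.ProjSpace.toSpec (n + d) k)]
  [hOv : (LefPen.ciIdeal G).subscheme.Over (Spec (CommRingCat.of k))]
  (hover : (LefPen.ciIdeal G).subscheme ↘ Spec (CommRingCat.of k) =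
    (LefPen.ciIdeal G).subschemeι ≫ CohB1.ProjSpace.toSpec (n + d) k)

include hover in
theorem isProper_ci : IsProper ((LefPen.ciIdeal G).subscheme ↘ Spec (CommRingCat.of k)) := by
  haveI := ProjProper.Basic.isProper_toSpec (n + d) k
  rw [hover]
  infer_instance

include hover in
theorem dim_le : topologicalKrullDim (LefPen.ciIdeal G).subscheme ≤ ((n + d - d : ℕ) : WithBot ℕ∞) := by
  rw [Nat.add_sub_cancel]
  haveI := isProper_ci G hover
  haveI : SmoothOfRelativeDimension n ((LefPen.ciIdeal G).subscheme ↘ Spec (CommRingCat.of k)) := by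
    rw [hover]; infer_instance
  rcases isEmpty_or_nonempty ↥(LefPen.ciIdeal G).subscheme with he | he
  · haveI : IsEmpty (TopologicalSpace.IrreducibleCloseds ↥(LefPen.ciIdeal G).subscheme) :=
      ⟨fun s => (s.isIrreducible'.nonempty.elim fun x _ => he.false x)⟩
    exact (Order.krullDim_eq_bot (α := TopologicalSpace.IrreducibleCloseds ↥(LefPen.ciIdeal G).subscheme)).le.trans bot_le
  · exact (SmoothDual.topologicalKrullDim_eq k (r := n)).le

include ha hover in
/-- Below the middle degree. -/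
theorem finrank_low (hd : 1 ≤ d) {p i : ℕ} (hpi : i + p < n) {L : (LefPen.ciIdeal G).subscheme.Modules}
    (hL : ExtPow.IsExtPow p
      (Omega.sheaf ((LefPen.ciIdeal G).subschemeι ≫ CohB1.ProjSpace.toSpec (n + d) k)) L) :
    Module.finrank k (Coh.HH (LefPen.ciIdeal G).subscheme L i) = if i = p then 1 else 0 := by
  haveI := isProper_ci G hover
  haveI := EulerChar.isLocallyNoetherian k (X := (LefPen.ciIdeal G).subscheme)
  haveI := EulerChar.isNoetherian k (X := (LefPen.ciIdeal G).subscheme)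
  have hdim := dim_le G hover
  let ι := (LefPen.ciIdeal G).subschemeι
  have w : ι ≫ CohB1.ProjSpace.toSpec (n + d) k = (LefPen.ciIdeal G).subscheme ↘ Spec (CommRingCat.of k) := hover.symm
  have hI : ι.ker = LefPen.ciIdeal (CIProj49.pre G d le_rfl) := Scheme.IdealSheafData.ker_subschemeι _
  obtain ⟨-, hvan, -⟩ := CICoh.cohomology G ha hdim (by omega) d le_rfl
  have hO : GoodO ι n := fun t ht j hj => by
    rw [CICoh.finrank_pull ι w, hI]
    cases j with
    | zero =>
      rw [CICoh.cohomology_zero G ha hdim (by omega) d le_rfl t ht]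
      simp [dlt]
    | succ j =>
      rw [hvan t (j + 1) (by omega) (by omega), dlt, if_neg (by omega)]
  haveI := PnTop.smoothOfRelativeDimension_toSpec (n + d) k
  haveI : IsProper (CohB1.ProjSpace.toSpec (n + d) k) := ProjProper.Basic.isProper_toSpec (n + d) k
  haveI : IsLocallyNoetherian (CohB1.ProjSpace (n + d) k) := SerrePn.isLocallyNoetherian (n := n + d) (R := k)
  haveI : SmoothOfRelativeDimension n (ι ≫ CohB1.ProjSpace.toSpec (n + d) k) :=
    inferInstanceAs (SmoothOfRelativeDimension n ((LefPen.ciIdeal G).subschemeι ≫ CohB1.ProjSpace.toSpec (n + d) k))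
  haveI : QuasiSeparated (ι ≫ CohB1.ProjSpace.toSpec (n + d) k) := inferInstance
  obtain ⟨f, g, hi, hs, he⟩ := SmoothImm.exists_seq (CohB1.ProjSpace.toSpec (n + d) k) ι (n + d) n
  have hne : ∀ x : (LefPen.ciIdeal G).subscheme,
      Nonempty (Module.Basis (Fin n) ((LefPen.ciIdeal G).subscheme.presheaf.stalk x)
        ((Omega.sheaf (ι ≫ CohB1.ProjSpace.toSpec (n + d) k)).presheaf.stalk x)) :=
    SmoothImm.exists_basis_omega _ n
  rcases isEmpty_or_nonempty ↥(LefPen.ciIdeal G).subscheme with hemp | hne'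
  · exfalso
    have h0 := hO 0 le_rfl 0 (by omega)
    haveI : IsEmpty (TopologicalSpace.IrreducibleCloseds ↥(LefPen.ciIdeal G).subscheme) :=
      ⟨fun s => (s.isIrreducible'.nonempty.elim fun x _ => hemp.false x)⟩
    haveI : Subsingleton (Coh.HH (LefPen.ciIdeal G).subscheme (O ι 0) 0) :=
      (SurfRR.hhEquiv k (SmoothImm.nonempty_iso_of_isEmpty (O ι 0) (CohB1.tensorMod (O ι 0)
        (∐ fun j : Fin 0 => O ι 0))).some 0).toEquiv.subsingleton_congr.2
        (subsingleton_of_forall_eq 0 fun x => by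
          have hz : IsZero (CohB1.tensorMod (O ι 0) (∐ fun j : Fin 0 => O ι 0)) :=
            DualAbs.isZero_of_stalks fun y => (hemp.false y).elim
          have h1 : CohLES.mapL k (𝟙 (CohB1.tensorMod (O ι 0) (∐ fun j : Fin 0 => O ι 0))) 0 = CohLES.mapL k 0 0 := by
            rw [hz.eq_of_src (𝟙 _) 0]
          rw [CohLES.mapL_id, CohLES.mapL_zero] at h1
          exact LinearMap.congr_fun h1 x)
    rw [Module.finrank_zero_of_subsingleton] at h0
    simp [dlt] at h0
  have hY : topologicalKrullDim ↥(LefPen.ciIdeal G).subscheme = ((n + d - d : ℕ) : WithBot ℕ∞) := by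
    rw [Nat.add_sub_cancel]
    haveI : SmoothOfRelativeDimension n ((LefPen.ciIdeal G).subscheme ↘ Spec (CommRingCat.of k)) := by
      rw [hover]; infer_instance
    exact SmoothDual.topologicalKrullDim_eq k (r := n)
  haveI := FanoCI.isIso_psi G (by omega) hY
  let A : Fin d → (LefPen.ciIdeal G).subscheme.Modules := fun j =>
    (Scheme.Modules.pullback (LefPen.ciIdeal G).subschemeι).obj (FanoCI.tw (a j))
  have hAe : ∀ j, Nonempty (A j ≅ O ι (-(a j : ℤ))) := fun j =>
    ⟨(Scheme.Modules.pullback ι).mapIso (eqToIso (by simp [Twist.twistProjSpace, FanoCI.tw] <;> rfl))⟩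
  let ψ : (∐ A) ⟶ Omega.conormal ι := FanoCI.psi G
  haveI : IsIso ψ := inferInstanceAs (IsIso (FanoCI.psi G))
  have hψ : ∀ x, Function.Bijective (stalkLin ψ x) := fun x => by
    refine Function.bijective_iff_has_inverse.mpr ⟨stalkLin (inv ψ) x, fun t => ?_, fun t => ?_⟩
    · rw [← stalkLin_comp, IsIso.hom_inv_id, stalkLin_id]
    · rw [← stalkLin_comp, IsIso.inv_hom_id, stalkLin_id]
  have c₂ : Coh.IsCoh ((Scheme.Modules.pullback ι).obj (DualAbs.Bott.Om (n + d) k)) :=
    ZClosLib.CohDescent.isCoh_pullback ι _ DualAbs.Bott.isCoh_Om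
  have c₃ : Coh.IsCoh (Omega.sheaf (ι ≫ CohB1.ProjSpace.toSpec (n + d) k)) :=
    VBLib.isCoh_of_ofRank (CanonTriv.isFinLocFreeOfRank_omega (ι ≫ CohB1.ProjSpace.toSpec (n + d) k) n)
  have hgood := good_sigma ι d a ha A hAe _ _ (ψ ≫ f) g c₂ c₃
    (fun x s s' e => by rw [stalkLin_comp, stalkLin_comp] at e; exact (hψ x).1 (hi x e)) hs
    (fun x q => by
      rw [he x q]
      constructor
      · rintro ⟨c, rfl⟩
        obtain ⟨c', rfl⟩ := (hψ x).2 c
        exact ⟨c', stalkLin_comp _ _ _ _⟩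
      · rintro ⟨c, rfl⟩
        exact ⟨stalkLin ψ x c, (stalkLin_comp _ _ _ _).symm⟩)
    hne (good_omega ι hO)
  have h := hgood p L hL 0 le_rfl i hpi
  rw [hT_zero] at h
  rw [h, dlt]
  simp

include ha hover in
/-- Serre duality for exterior powers of differentials. -/
theorem finrank_symm {p i : ℕ} (hp : p ≤ n) (hi : i ≤ n) {L L' : (LefPen.ciIdeal G).subscheme.Modules}
    (hL : ExtPow.IsExtPow p
      (Omega.sheaf ((LefPen.ciIdeal G).subschemeι ≫ CohB1.ProjSpace.toSpec (n + d) k)) L)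
    (hL' : ExtPow.IsExtPow (n - p)
      (Omega.sheaf ((LefPen.ciIdeal G).subschemeι ≫ CohB1.ProjSpace.toSpec (n + d) k)) L')
    [Nonempty (LefPen.ciIdeal G).subscheme] :
    Module.finrank k (Coh.HH (LefPen.ciIdeal G).subscheme L i) =
      Module.finrank k (Coh.HH (LefPen.ciIdeal G).subscheme L' (n - i)) := by
  haveI := isProper_ci G hover
  haveI := EulerChar.isLocallyNoetherian k (X := (LefPen.ciIdeal G).subscheme)
  haveI := EulerChar.isNoetherian k (X := (LefPen.ciIdeal G).subscheme)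
  haveI : SmoothOfRelativeDimension n ((LefPen.ciIdeal G).subscheme ↘ Spec (CommRingCat.of k)) := by
    rw [hover]; infer_instance
  haveI : QuasiSeparated ((LefPen.ciIdeal G).subscheme ↘ Spec (CommRingCat.of k)) := inferInstance
  haveI : HasExt.{u} (LefPen.ciIdeal G).subscheme.Modules := Groth.Agent.ModShf.schemeModulesHasExt _
  rw [← hover] at hL hL'
  let Ω := Omega.sheaf ((LefPen.ciIdeal G).subscheme ↘ Spec (CommRingCat.of k))
  have hΩ : Coh.IsCoh Ω :=
    VBLib.isCoh_of_ofRank (CanonTriv.isFinLocFreeOfRank_omega ((LefPen.ciIdeal G).subscheme ↘ Spec (CommRingCat.of k)) n)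
  haveI : Ω.IsQuasicoherent := hΩ.1
  obtain ⟨W, hW⟩ := ExtPowSt.Exists.exists_isExtPow n Ω
  have hr : n ≤ n + d := Nat.le_add_right n d
  obtain ⟨t, ht⟩ := SmoothDual.exists_isDualizing k (LefPen.ciIdeal G).subschemeι hover.symm hr W hW
  haveI : DCoh.HasSheafHom L := KFlat.hasSheafHom_scheme L
  have hb := SmoothImm.exists_basis_omega ((LefPen.ciIdeal G).subscheme ↘ Spec (CommRingCat.of k)) n
  have cL : Coh.IsCoh L := ExtPowSt.isCoh ⟨hL.choose, hL.choose_spec⟩ hΩ
  have hF : FlatMod.IsFinLocFree L := WedgePair.isFinLocFree ⟨hL.choose, hL.choose_spec⟩ hΩ hb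
  obtain ⟨j, rfl⟩ : ∃ j, n = p + j := ⟨n - p, by omega⟩
  rw [Nat.add_sub_cancel_left] at hL'
  obtain ⟨e⟩ := WedgePair.nonempty_iso (i := p) (j := j) ⟨hL.choose, hL.choose_spec⟩
    ⟨hL'.choose, hL'.choose_spec⟩ ⟨hW.choose, hW.choose_spec⟩ (HomShEval.QCoh.isFP_of_isCoh _ cL) hb
  obtain ⟨e₁⟩ := (S15517.result k (n := p + j) (p + j + d) _ (LefPen.ciIdeal G).subschemeι hover.symm
    (SmoothDual.topologicalKrullDim_eq k) (fun x hx => SmoothDual.cm_closed k x hx) W
    (SmoothDual.isCoh_top k (LefPen.ciIdeal G).subschemeι hover.symm W hW) t ht L cL).1 (p + j - i)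
    (Nat.sub_le _ _)
  obtain ⟨e₂⟩ := ExtHom.nonempty_ext_linearEquiv k hF W (p + j - i)
  rw [Nat.sub_sub_self hi] at e₁
  haveI := EulerChar.finite_HH k L cL i
  rw [(SurfRR.hhEquiv k e (p + j - i)).finrank_eq, ← (e₁.symm ≪≫ₗ e₂).finrank_eq, Subspace.dual_finrank_eq]

include hover in
theorem subsingleton_of_gt {p i : ℕ} (h : n < i ∨ n < p) {L : (LefPen.ciIdeal G).subscheme.Modules}
    (hL : ExtPow.IsExtPow p
      (Omega.sheaf ((LefPen.ciIdeal G).subschemeι ≫ CohB1.ProjSpace.toSpec (n + d) k)) L) :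
    Subsingleton (Coh.HH (LefPen.ciIdeal G).subscheme L i) := by
  haveI := isProper_ci G hover
  haveI := EulerChar.isLocallyNoetherian k (X := (LefPen.ciIdeal G).subscheme)
  haveI := EulerChar.isNoetherian k (X := (LefPen.ciIdeal G).subscheme)
  rcases h with h | h
  · exact CohTop.Vanishing.grothendieck_vanishing (X := (LefPen.ciIdeal G).subscheme.toPresheafedSpace.carrier) n
      ((dim_le G hover).trans (by rw [Nat.add_sub_cancel])) (Coh.toAb _) i h
  · haveI : SmoothOfRelativeDimension n ((LefPen.ciIdeal G).subscheme ↘ Spec (CommRingCat.of k)) := by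
      rw [hover]; infer_instance
    rw [← hover] at hL
    haveI : (Omega.sheaf ((LefPen.ciIdeal G).subscheme ↘ Spec (CommRingCat.of k))).IsQuasicoherent :=
      (VBLib.isCoh_of_ofRank (CanonTriv.isFinLocFreeOfRank_omega
        ((LefPen.ciIdeal G).subscheme ↘ Spec (CommRingCat.of k)) n)).1
    have hz : IsZero L := WedgeSeq.isZero_extPow (r := n) ⟨hL.choose, hL.choose_spec⟩ h
      (SmoothImm.exists_basis_omega _ n)
    have h1 : CohLES.mapL k (𝟙 L) i = CohLES.mapL k (0 : L ⟶ L) i := by rw [hz.eq_of_src (𝟙 _) 0]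
    rw [CohLES.mapL_id, CohLES.mapL_zero] at h1
    exact subsingleton_of_forall_eq 0 fun x => LinearMap.congr_fun h1 x

end Groth.Agent.DualAbs.CIHodge
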