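import Groth.Agent.DualAbs.GradeAss
import Groth.Agent.DualAbs.ExtCor
import Groth.Agent.DualAbs.ClosedDual
import Groth.Agent.CycLib.SheafSpec
import Groth.Agent.FlatMor.GenericPts
import Groth.Agent.NegVan.H1
import Groth.Agent.CohOps.Generic
import Groth.Agent.Props.QRank
import Groth.Agent.ParaFLib.Factorial
import Groth.Agent.Desc44.ProjBundle.Chart
import Groth.Agent.S0342
import Groth.Agent.InjMod.ExtRestr
import Groth.Agent.S10943

/-!
# Stalks of the Ext sheaf of a closed subscheme at the codimension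
-/

universe u

open CategoryTheory CategoryTheory.Limits CategoryTheory.Abelian AlgebraicGeometry
open Groth.Agent.PullStalk.Sky Groth.Agent.PullStalk.Exact

noncomputable section

namespace Groth.Agent.DualAbs

set_option maxHeartbeats 1000000
set_option synthInstance.maxHeartbeats 400000

/-- Postcomposition with an isomorphism, linearly. -/
def extCongrRight {A : Type u} [CommRing A] (M : ModuleCat.{u} A) {N N' : ModuleCat.{u} A} (g : N ≅ N')
    (c : ℕ) : Ext.{u} M N c ≃ₗ[A] Ext.{u} M N' c where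
  toFun e := e.comp (Ext.mk₀ g.hom) (add_zero c)
  invFun e := e.comp (Ext.mk₀ g.inv) (add_zero c)
  map_add' e e' := Ext.add_comp _ _ _ _
  map_smul' r e := Ext.smul_comp _ _ _ _
  left_inv e := by simp
  right_inv e := by simp

variable {P X : Scheme.{u}} (ι : X ⟶ P) [IsClosedImmersion ι]

/-- The stalk of `ι_* O_X` at `ι z`. -/
abbrev pushStalk (z : X) : Type u :=
  ((Scheme.Modules.pushforward ι).obj (Coh.structureModule X)).presheaf.stalk (ι z)

theorem exists_pushStalk_equiv (z : X) :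
    ∃ ψ : pushStalk ι z ≃+ X.presheaf.stalk z,
      ∀ (r : P.presheaf.stalk (ι z)) t, ψ (r • t) = ι.stalkMap z r * ψ t := by
  refine ⟨(AddEquiv.ofBijective
    (TopCat.Presheaf.stalkPushforward AddCommGrpCat ι.base (Coh.structureModule X).presheaf z).hom
    (ClUnit.stalkPushforward_bijective ι _ ι.isClosedEmbedding.isInducing z)).trans
      (InjMod.unitStalkEquiv z).symm.toAddEquiv, fun r t => ?_⟩
  exact (congrArg (InjMod.unitStalkEquiv z).symm (stalkPushforward_smul ι _ z r t)).trans
    ((map_smul (InjMod.unitStalkEquiv z).symm _ _).trans (smul_eq_mul _ _))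

theorem finite_pushStalk (z : X) : Module.Finite (P.presheaf.stalk (ι z)) (pushStalk ι z) := by
  obtain ⟨ψ, hψ⟩ := exists_pushStalk_equiv ι z
  refine Module.finite_def.2 ⟨{ψ.symm 1}, eq_top_iff.2 fun t _ => ?_⟩
  obtain ⟨r, hr⟩ := ι.stalkMap_surjective z (ψ t)
  rw [Finset.coe_singleton]
  refine Submodule.mem_span_singleton.2 ⟨r, ψ.injective ?_⟩
  rw [hψ, ψ.apply_symm_apply, mul_one]
  exact hr

/-- An element of `O_{X,z}` avoiding its minimal primes lifts to one avoiding the minimal primes of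
the support of the stalk of `ι_* O_X`. -/
theorem not_mem_of_minimal (z : X) {y : P.presheaf.stalk (ι z)}
    (hy : ∀ Q ∈ minimalPrimes (X.presheaf.stalk z), ι.stalkMap z y ∉ Q)
    (p : PrimeSpectrum (P.presheaf.stalk (ι z)))
    (hp : p ∈ Module.support (P.presheaf.stalk (ι z)) (pushStalk ι z))
    (hmin : ∀ q ∈ Module.support (P.presheaf.stalk (ι z)) (pushStalk ι z), q ≤ p → p ≤ q) :
    y ∉ p.asIdeal := by
  intro hyp
  obtain ⟨ψ, hψ⟩ := exists_pushStalk_equiv ι z
  have := finite_pushStalk ι z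
  let f : P.presheaf.stalk (ι z) →+* X.presheaf.stalk z := (ι.stalkMap z).hom
  have hf : Function.Surjective f := ι.stalkMap_surjective z
  have hker : RingHom.ker f ≤ p.asIdeal := fun r hr =>
    Module.annihilator_le_of_mem_support hp (Module.mem_annihilator.2 fun t => ψ.injective (by
      rw [hψ, map_zero, show ι.stalkMap z r = 0 from hr, zero_mul]))
  have : (p.asIdeal.map f).IsPrime := Ideal.map_isPrime_of_surjective hf hker
  obtain ⟨Q, hQ, hle⟩ := Ideal.exists_minimalPrimes_le (I := ⊥) (J := p.asIdeal.map f) bot_le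
  have : Q.IsPrime := Ideal.minimalPrimes_isPrime hQ
  have hq : (⟨Q.comap f, inferInstance⟩ : PrimeSpectrum (P.presheaf.stalk (ι z))) ∈
      Module.support (P.presheaf.stalk (ι z)) (pushStalk ι z) := by
    refine Module.mem_support_iff_of_finite.2 fun r hr => ?_
    show f r ∈ Q
    have h := (hψ r (ψ.symm 1)).symm.trans
      (congrArg ψ (Module.mem_annihilator.1 hr (ψ.symm 1)))
    rw [ψ.apply_symm_apply, mul_one, map_zero] at h
    exact (show f r = 0 from h) ▸ Q.zero_mem
  have hQp : Q.comap f ≤ p.asIdeal := (Ideal.comap_mono hle).trans_eq (by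
    rw [Ideal.comap_map_of_surjective f hf, sup_eq_left]
    exact hker)
  exact hy Q hQ (hmin _ hq hQp hyp)

variable [IsLocallyNoetherian P]
  [ModSite.HasSheafHom (O := P.sheaf) ((Scheme.Modules.pushforward ι).obj (Coh.structureModule X))]
  [HasInjectiveResolutions (ModSite.Mod P.sheaf)]
  {c : ℕ} {L : P.Modules} {ω : X.Modules}

/-- The stalk of `ω` with `ι_* ω ≅ ℰxt^c(ι_* O_X, L)` is `Ext^c(O_{X,z}, O_{P,ι z})`. -/
theorem exists_stalk_equiv (hL : PicF.IsInvertible L)
    (hω : Nonempty ((Scheme.Modules.pushforward ι).obj ω ≅ (ModSite.extSh (O := P.sheaf)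
      ((Scheme.Modules.pushforward ι).obj (Coh.structureModule X)) c).obj L)) (z : X) :
    ∃ φ : ω.presheaf.stalk z ≃+ Ext.{u} (ModuleCat.of (P.presheaf.stalk (ι z)) (pushStalk ι z))
        (ModuleCat.of (P.presheaf.stalk (ι z)) (P.presheaf.stalk (ι z))) c,
      ∀ (r : P.presheaf.stalk (ι z)) t, φ (ι.stalkMap z r • t) = r • φ t := by
  obtain ⟨e⟩ := hω
  have := LocallyOfFiniteType.isLocallyNoetherian ι
  obtain ⟨e2⟩ := InjMod.nonempty_stalk_extSh_equiv ((Scheme.Modules.pushforward ι).obj (Coh.structureModule X)) L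
    (HomShEval.QCoh.isFP_of_isCoh _
      (ProperFin.isCoh_push_of_isFinite ι _ HomShQC.isCoh_structureModule)) (ι z) c
  obtain ⟨U, g, hgU, hg⟩ := Groth.Agent.Props.GenLocus.exists_isGen hL (ι z)
  let eL : (DerSch.stalkFunctor P (ι z)).obj L ≅
      ModuleCat.of (P.presheaf.stalk (ι z)) (P.presheaf.stalk (ι z)) :=
    (LinearEquiv.ofBijective _ (PicLaw.bijective_toSpanSingleton_germ hg (ι z) hgU)).symm.toModuleIso
  let ε := (((DerSch.stalkFunctor P (ι z)).mapIso e).toLinearEquiv.trans e2).trans (extCongrRight _ eL c)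
  let ξ : ((Scheme.Modules.pushforward ι).obj ω).presheaf.stalk (ι z) ≃+ ω.presheaf.stalk z :=
    AddEquiv.ofBijective (TopCat.Presheaf.stalkPushforward AddCommGrpCat ι.base ω.presheaf z).hom
      (ClUnit.stalkPushforward_bijective ι _ ι.isClosedEmbedding.isInducing z)
  have hξ : ∀ (r : P.presheaf.stalk (ι z)) v, ξ (r • v) = ι.stalkMap z r • ξ v := fun r v =>
    stalkPushforward_smul ι ω z r v
  refine ⟨ξ.symm.trans ε.toAddEquiv, fun r t => ?_⟩
  have h : ξ.symm (ι.stalkMap z r • t) = r • ξ.symm t := ξ.injective (by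
    rw [hξ, ξ.apply_symm_apply, ξ.apply_symm_apply])
  show ε (ξ.symm _) = r • ε (ξ.symm t)
  rw [h]
  exact map_smul ε r _

theorem exists_natDim {A : Type u} [CommRing A] [IsRegularLocalRing A] :
    ∃ d : ℕ, ringKrullDim A = d :=
  ⟨_, IsRegularLocalRing.spanFinrank_maximalIdeal.symm⟩

/-- An element avoiding the minimal primes of `O_{X,z}` is regular on `ω_z`. -/
theorem eq_zero_of_smul_stalk (hL : PicF.IsInvertible L)
    (hω : Nonempty ((Scheme.Modules.pushforward ι).obj ω ≅ (ModSite.extSh (O := P.sheaf)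
      ((Scheme.Modules.pushforward ι).obj (Coh.structureModule X)) c).obj L)) (z : X)
    [IsRegularLocalRing (P.presheaf.stalk (ι z))]
    (hdim : ringKrullDim (X.presheaf.stalk z) + c ≤ ringKrullDim (P.presheaf.stalk (ι z)))
    {s : X.presheaf.stalk z} (hs : ∀ Q ∈ minimalPrimes (X.presheaf.stalk z), s ∉ Q)
    (t : ω.presheaf.stalk z) (ht : s • t = 0) : t = 0 := by
  obtain ⟨φ, hφ⟩ := exists_stalk_equiv ι hL hω z
  obtain ⟨y, rfl⟩ := ι.stalkMap_surjective z s
  have : _root_.LocCoh.IsGorensteinLocalRing (P.presheaf.stalk (ι z)) := S0342.result _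
  obtain ⟨d, hd⟩ := exists_natDim (A := P.presheaf.stalk (ι z))
  have := finite_pushStalk ι z
  refine φ.injective ?_
  rw [map_zero]
  refine GradeAss.eq_zero_of_smul_eq_zero hd (pushStalk ι z)
    ((add_le_add (supportDim_push_le ι z) le_rfl).trans hdim) y (not_mem_of_minimal ι z hs) _ ?_
  rw [← hφ]
  exact (congrArg φ ht).trans (map_zero φ)

/-- At a generic point of a generically reduced component of codimension `c` the stalk is free of
rank one. -/
theorem exists_stalk_basis (hL : PicF.IsInvertible L)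
    (hω : Nonempty ((Scheme.Modules.pushforward ι).obj ω ≅ (ModSite.extSh (O := P.sheaf)
      ((Scheme.Modules.pushforward ι).obj (Coh.structureModule X)) c).obj L)) (z : X)
    [IsRegularLocalRing (P.presheaf.stalk (ι z))] [_root_.IsReduced (X.presheaf.stalk z)]
    (h0 : ringKrullDim (X.presheaf.stalk z) = 0)
    (hc : ringKrullDim (P.presheaf.stalk (ι z)) = c) :
    ∃ v : ω.presheaf.stalk z,
      Function.Bijective (LinearMap.toSpanSingleton (X.presheaf.stalk z) (ω.presheaf.stalk z) v) := by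
  obtain ⟨φ, hφ⟩ := exists_stalk_equiv ι hL hω z
  obtain ⟨ψ, hψ⟩ := exists_pushStalk_equiv ι z
  have : Ring.KrullDimLE 0 (X.presheaf.stalk z) := Ring.krullDimLE_iff.2 h0.le
  have hB : IsField (X.presheaf.stalk z) := Ring.KrullDimLE.isField_of_isReduced
  have : _root_.LocCoh.IsGorensteinLocalRing (P.presheaf.stalk (ι z)) := S0342.result _
  let A := P.presheaf.stalk (ι z)
  let M := pushStalk ι z
  have hsimple : IsSimpleModule A M := by
    have : Nontrivial M := ψ.toEquiv.nontrivial
    refine isSimpleModule_iff_toSpanSingleton_surjective.2 ⟨inferInstance, fun m hm t => ?_⟩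
    have hm' : ψ m ≠ 0 := (map_ne_zero_iff ψ ψ.injective).2 hm
    obtain ⟨b, hb⟩ := hB.mul_inv_cancel hm'
    obtain ⟨r, hr⟩ := ι.stalkMap_surjective z (ψ t * b)
    exact ⟨r, ψ.injective (by rw [LinearMap.toSpanSingleton_apply, hψ, hr, mul_assoc, mul_comm b, hb, mul_one])⟩
  have hlen : Module.length A M = 1 := Module.length_eq_one_iff.2 hsimple
  have hfl : IsFiniteLength A M := Module.length_ne_top_iff.1 (by rw [hlen]; exact ENat.one_ne_top)
  have hE := (DualCx.GorNormal.finiteLength hc M hfl).2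
  rw [hlen, Module.length_eq_one_iff] at hE
  obtain ⟨-, hgen⟩ := isSimpleModule_iff_toSpanSingleton_surjective.1 hE
  have := hE.nontrivial
  obtain ⟨e, he⟩ := exists_ne (0 : Ext.{u} (ModuleCat.of A M) (ModuleCat.of A A) c)
  refine ⟨φ.symm e, (injective_iff_map_eq_zero _).2 fun b hb => ?_, fun w => ?_⟩
  · by_contra hb0
    obtain ⟨b', hb'⟩ := hB.mul_inv_cancel hb0
    refine he (φ.symm.injective ?_)
    rw [map_zero, ← one_smul (X.presheaf.stalk z) (φ.symm e), ← hb', mul_comm, mul_smul]
    rw [LinearMap.toSpanSingleton_apply] at hb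
    rw [hb, smul_zero]
  · obtain ⟨r, hr⟩ := hgen e he (φ w)
    refine ⟨ι.stalkMap z r, φ.injective ?_⟩
    rw [LinearMap.toSpanSingleton_apply, hφ, φ.apply_symm_apply]
    exact hr

omit [IsClosedImmersion ι] in
theorem isCoh_extSh_of_isCoh {F G : P.Modules} (hF : Coh.IsCoh F) (hG : Coh.IsCoh G)
    [ModSite.HasSheafHom (O := P.sheaf) F] (i : ℕ) :
    Coh.IsCoh ((ModSite.extSh (O := P.sheaf) F i).obj G) := by
  refine PerfTri.Bounded.isCoh_of_cover (fun U : P.affineOpens => U.1)
    (iSup_affineOpens_eq_top P) _ fun U => ?_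
  have : IsAffine (U.1 : Scheme.{u}) := U.2
  have : IsNoetherian (U.1 : Scheme.{u}) := {}
  have : ModSite.HasSheafHom (O := (U.1 : Scheme.{u}).sheaf) (F.restrict U.1.ι) := KFlat.hasSheafHom _ _
  haveI : EnoughInjectives (ModSite.Mod (U.1 : Scheme.{u}).sheaf) := GrothSS.Main.enoughInjectives
  haveI : HasInjectiveResolutions (ModSite.Mod (U.1 : Scheme.{u}).sheaf) := inferInstance
  obtain ⟨e⟩ := InjMod.nonempty_extSh_restrict U.1 F G i
  exact CohDev.isCoh_of_iso e.symm (S10943.result _ _ _ (ProperFin.isCoh_restrict U.1.ι hF)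
    (ProperFin.isCoh_restrict U.1.ι hG) i)

theorem isCoh_omega (hL : Coh.IsCoh L)
    (hω : Nonempty ((Scheme.Modules.pushforward ι).obj ω ≅ (ModSite.extSh (O := P.sheaf)
      ((Scheme.Modules.pushforward ι).obj (Coh.structureModule X)) c).obj L)) : Coh.IsCoh ω := by
  have := LocallyOfFiniteType.isLocallyNoetherian ι
  exact isCoh_of_push ι (CohDev.isCoh_of_iso hω.some.symm
    (isCoh_extSh_of_isCoh (ProperFin.isCoh_push_of_isFinite ι _ HomShQC.isCoh_structureModule) hL c))

section Generic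

variable {Y : Scheme.{u}}

theorem exists_generic_of_mem_minimalPrimes (x : Y) {Q : Ideal (Y.presheaf.stalk x)}
    (hQ : Q ∈ minimalPrimes (Y.presheaf.stalk x)) :
    ∃ (ζ : Y) (h : ζ ⤳ x), closure ({ζ} : Set Y) ∈ irreducibleComponents Y ∧
      (CycLib.ptPrime x ζ h).asIdeal = Q := by
  have : Q.IsPrime := Ideal.minimalPrimes_isPrime hQ
  obtain ⟨ζ, h, hζ⟩ := CycLib.exists_ptPrime x ⟨Q, this⟩
  have hQ' : (CycLib.ptPrime x ζ h).asIdeal = Q := congrArg PrimeSpectrum.asIdeal hζ
  refine ⟨ζ, h, (FlatMor.GenericPts.closure_mem_irreducibleComponents_iff ζ).2 fun w hw => ?_, hQ'⟩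
  have hle : RingHom.ker (Cyc.specMap x w (hw.trans h)) ≤ RingHom.ker (Cyc.specMap x ζ h) :=
    (CycLib.ptPrime_le_iff _ _).2 hw
  refine (CycLib.ptPrime_le_iff h (hw.trans h)).1 ?_
  show (CycLib.ptPrime x ζ h).asIdeal ≤ (CycLib.ptPrime x w (hw.trans h)).asIdeal
  rw [hQ']
  exact hQ.2 ⟨(CycLib.ptPrime x w (hw.trans h)).isPrime, bot_le⟩ (hle.trans_eq hQ')

/-- A map to a module without embedded sections vanishing at the generic points is zero. -/
theorem eq_zero_of_generic [IsLocallyNoetherian Y] {F G : Y.Modules} [G.IsQuasicoherent]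
    (φ : F ⟶ G)
    (hreg : ∀ (x : Y) (s : Y.presheaf.stalk x), (∀ Q ∈ minimalPrimes (Y.presheaf.stalk x), s ∉ Q) →
      ∀ t : G.presheaf.stalk x, s • t = 0 → t = 0)
    (hφ : ∀ ζ : Y, closure ({ζ} : Set Y) ∈ irreducibleComponents Y → ∀ u, stalkLin φ ζ u = 0) :
    φ = 0 := by
  have key : ∀ (x : Y) (u : F.presheaf.stalk x), stalkLin φ x u = 0 := fun x u => by
    let t := stalkLin φ x u
    let I := LinearMap.ker (LinearMap.toSpanSingleton (Y.presheaf.stalk x) _ t)
    have hI : ∀ Q ∈ minimalPrimes (Y.presheaf.stalk x), ¬ I ≤ Q := fun Q hQ hle => by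
      obtain ⟨ζ, h, hζ, rfl⟩ := exists_generic_of_mem_minimalPrimes x hQ
      letI := CycLib.stalkModule G h
      have := CycLib.isLocalizedModule_spLin G h
      have hz : CycLib.spLin G h t = CycLib.spLin G h 0 := by
        rw [map_zero]
        show Ref1.sp G h (stalkLin φ x u) = 0
        refine Eq.trans ?_ (hφ ζ hζ (Ref1.sp F h u))
        obtain ⟨O, hO, m, rfl⟩ := exists_germM_eq F x u
        rw [stalkLin_germ, Ref1.sp_germ, Ref1.sp_germ, stalkLin_germ]
      obtain ⟨s, hs⟩ := IsLocalizedModule.exists_of_eq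
        (S := (CycLib.ptPrime x ζ h).asIdeal.primeCompl) hz
      exact s.2 (hle (show s.1 • t = 0 by
        rw [smul_zero] at hs
        exact hs))
    have hfin : (minimalPrimes (Y.presheaf.stalk x)).Finite := minimalPrimes.finite_of_isNoetherianRing _
    have hsub : ¬ (I : Set (Y.presheaf.stalk x)) ⊆ ⋃ Q ∈ (hfin.toFinset : Set (Ideal (Y.presheaf.stalk x))), (Q : Set (Y.presheaf.stalk x)) := by
      intro hsub
      obtain ⟨Q, hQ, hle⟩ := (Ideal.subset_union_prime (f := fun Q => Q) ⊥ ⊥ (fun Q hQ _ _ =>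
        Ideal.minimalPrimes_isPrime (hfin.mem_toFinset.1 hQ))).1 hsub
      exact hI Q (hfin.mem_toFinset.1 hQ) hle
    obtain ⟨s, hsI, hs⟩ := Set.not_subset.1 hsub
    refine hreg x s (fun Q hQ hsQ => hs (Set.mem_iUnion₂.2 ⟨Q, hfin.mem_toFinset.2 hQ, hsQ⟩)) t ?_
    exact hsI
  refine Scheme.Modules.hom_ext _ _ fun U => ?_
  ext m
  refine TopCat.Presheaf.section_ext (⟨G.presheaf, G.isSheaf⟩ : TopCat.Sheaf AddCommGrpCat Y) U _ _
    fun x hx => ?_
  refine ((stalkLin_germ φ U x hx m).symm.trans (key x _)).trans ?_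
  exact (map_zero (G.presheaf.germ U x hx).hom).symm

/-- A coherent module with free rank one stalks at the generic points is invertible on a dense open. -/
theorem exists_dense_rank_one [IsLocallyNoetherian Y] {M : Y.Modules} (hM : Coh.IsCoh M)
    (hbasis : ∀ ζ : Y, closure ({ζ} : Set Y) ∈ irreducibleComponents Y →
      ∃ v : M.presheaf.stalk ζ,
        Function.Bijective (LinearMap.toSpanSingleton (Y.presheaf.stalk ζ) (M.presheaf.stalk ζ) v)) :
    ∃ U : Y.Opens, Dense (U : Set Y) ∧ FlatMod.IsFinLocFreeOfRank 1 (M.restrict U.ι) := by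
  have := hM.1
  have hft := hM.2
  let S : Set Y.Opens := {W | Nonempty (M.restrict W.ι ≅ Coh.structureModule (W : Scheme.{u}))}
  have hgen : ∀ ζ : Y, closure ({ζ} : Set Y) ∈ irreducibleComponents Y → ∃ W ∈ S, ζ ∈ W := by
    intro ζ hζ
    obtain ⟨U, hU, hζU, -⟩ := exists_isAffineOpen_mem_and_subset (TopologicalSpace.Opens.mem_top ζ)
    have := QCoh.finite_sections_of_isFiniteType M hU
    obtain ⟨v, hv⟩ := hbasis ζ hζ
    have : Module.Free (Y.presheaf.stalk ζ) (M.presheaf.stalk ζ) :=
      Module.Free.of_equiv (LinearEquiv.ofBijective _ hv)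
    have h1 : Props.QRank.fibreRank M ζ = 1 := by
      rw [Props.QRank.fibreRank_eq_of_free, ← (LinearEquiv.ofBijective _ hv).finrank_eq,
        Module.finrank_self]
    obtain ⟨g, hζg, -, hm⟩ := Props.QRank.exists_generators M hU hζU (O := ⊤) trivial
    rw [h1] at hm
    obtain ⟨m, hm⟩ := hm
    let W := Y.basicOpen g
    have hW : IsAffineOpen W := hU.basicOpen g
    have : IsNoetherianRing Γ(Y, W) := IsLocallyNoetherian.component_noetherian ⟨W, hW⟩
    letI := Props.QStalk.moduleSections M hζg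
    letI := Y.presheaf.algebra_section_stalk ⟨ζ, hζg⟩
    haveI : IsScalarTower Γ(Y, W) (Y.presheaf.stalk ζ) (M.presheaf.stalk ζ) :=
      IsScalarTower.of_algebraMap_smul fun _ _ => rfl
    haveI := hW.isLocalization_stalk ⟨ζ, hζg⟩
    have hgm : Function.Injective (LinearMap.toSpanSingleton (Y.presheaf.stalk ζ) (M.presheaf.stalk ζ)
        (germM M W ζ hζg (m 0))) := by
      let e := LinearEquiv.ofBijective _ hv
      let φ := LinearMap.toSpanSingleton (Y.presheaf.stalk ζ) (M.presheaf.stalk ζ) (germM M W ζ hζg (m 0))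
      have hs : Function.Surjective φ := by
        refine LinearMap.range_eq_top.1 ((LinearMap.range_toSpanSingleton _).trans ?_)
        have h := Props.QRank.span_germ_eq_top M hW hm hζg
        rwa [show Set.range (fun i => germM M W ζ hζg (m i)) = {germM M W ζ hζg (m 0)} from
          Set.range_unique] at h
      have h' := OrzechProperty.injective_of_surjective_endomorphism (e.symm.toLinearMap ∘ₗ φ)
        (e.symm.surjective.comp hs)
      exact fun a b hab => h' (congrArg e.symm hab)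
    let K := LinearMap.ker (LinearMap.toSpanSingleton Γ(Y, W) Γ(M, W) (m 0))
    have hK : ∀ a ∈ K, ∃ q ∈ (hW.primeIdealOf ⟨ζ, hζg⟩).asIdeal.primeCompl, q * a = 0 := fun a ha => by
      have h0 : algebraMap Γ(Y, W) (Y.presheaf.stalk ζ) a = 0 := by
        refine hgm ?_
        rw [map_zero, LinearMap.toSpanSingleton_apply]
        refine (germM_smul M W ζ hζg a (m 0)).symm.trans ?_
        rw [show a • m 0 = 0 from ha]
        exact map_zero _
      obtain ⟨q, hq⟩ := (IsLocalization.map_eq_zero_iff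
        (hW.primeIdealOf ⟨ζ, hζg⟩).asIdeal.primeCompl (Y.presheaf.stalk ζ) a).1 h0
      exact ⟨q, q.2, hq⟩
    obtain ⟨σ, hσ⟩ := IsNoetherian.noetherian K
    classical
    choose q hq hqa using fun a : σ => hK a.1 (hσ ▸ Submodule.subset_span a.2)
    let T := Y.basicOpen (∏ a, q a)
    have hζT : ζ ∈ T := (Y.mem_basicOpen _ ζ hζg).2
      ((IsLocalization.AtPrime.isUnit_to_map_iff (Y.presheaf.stalk ζ)
        (hW.primeIdealOf ⟨ζ, hζg⟩).asIdeal _).2 (prod_mem fun a _ => hq a))
    obtain ⟨g', hζg', hg'T, hm'⟩ := Props.QRank.exists_generators M hU hζU (O := T ⊓ W)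
      ⟨hζT, hζg⟩
    rw [h1] at hm'
    obtain ⟨m', hm'⟩ := hm'
    have hfree : ∀ y ∈ Y.basicOpen g', Module.Free (Y.presheaf.stalk y) (M.presheaf.stalk y) ∧
        Module.finrank (Y.presheaf.stalk y) (M.presheaf.stalk y) = 1 := by
      intro y hy
      obtain ⟨hyT, hyW⟩ := hg'T hy
      letI := Props.QStalk.moduleSections M hyW
      letI := Y.presheaf.algebra_section_stalk ⟨y, hyW⟩
      haveI : IsScalarTower Γ(Y, W) (Y.presheaf.stalk y) (M.presheaf.stalk y) :=
        IsScalarTower.of_algebraMap_smul fun _ _ => rfl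
      haveI := hW.isLocalization_stalk ⟨y, hyW⟩
      let φ := LinearMap.toSpanSingleton (Y.presheaf.stalk y) (M.presheaf.stalk y) (germM M W y hyW (m 0))
      have hs : Function.Surjective φ := by
        refine LinearMap.range_eq_top.1 ((LinearMap.range_toSpanSingleton _).trans ?_)
        have h := Props.QRank.span_germ_eq_top M hW hm hyW
        rwa [show Set.range (fun i => germM M W y hyW (m i)) = {germM M W y hyW (m 0)} from
          Set.range_unique] at h
      have hi : Function.Injective φ := (injective_iff_map_eq_zero _).2 fun b hb => by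
        obtain ⟨⟨a, s⟩, he⟩ := IsLocalization.surj (hW.primeIdealOf ⟨y, hyW⟩).asIdeal.primeCompl b
        have h0 : Props.QStalk.germLin M hyW (a • m 0) = Props.QStalk.germLin M hyW 0 := by
          rw [map_zero, map_smul, ← algebraMap_smul (Y.presheaf.stalk y) a, ← he, mul_comm, mul_smul]
          rw [LinearMap.toSpanSingleton_apply] at hb
          exact (congrArg (_ • ·) hb).trans (smul_zero _)
        haveI := Props.QStalk.isLocalizedModule_germLin M hyW hW
        obtain ⟨s', hs'⟩ := IsLocalizedModule.exists_of_eq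
          (S := (hW.primeIdealOf ⟨y, hyW⟩).asIdeal.primeCompl) h0
        rw [smul_zero, Submonoid.smul_def, ← mul_smul] at hs'
        have hall : ∀ a' ∈ K, (∏ a, q a) * a' = 0 := fun a' ha' => by
          rw [← hσ] at ha'
          induction ha' using Submodule.span_induction with
          | mem w hw => rw [← Finset.prod_erase_mul _ _ (Finset.mem_univ (⟨w, hw⟩ : σ)), mul_assoc,
              hqa ⟨w, hw⟩, mul_zero]
          | zero => exact mul_zero _
          | add w w' _ _ hw hw' => rw [mul_add, hw, hw', add_zero]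
          | smul r w _ hw => rw [smul_eq_mul, mul_left_comm, hw, mul_zero]
        have h2 := congrArg (algebraMap Γ(Y, W) (Y.presheaf.stalk y)) (hall _ (show s'.1 * a ∈ K from hs'))
        rw [map_mul, map_mul, map_zero, ← he] at h2
        have hu1 : IsUnit (algebraMap Γ(Y, W) (Y.presheaf.stalk y) (∏ a, q a)) :=
          (Y.mem_basicOpen _ y hyW).1 hyT
        have hu2 := IsLocalization.map_units (Y.presheaf.stalk y) s'
        have hu3 := IsLocalization.map_units (Y.presheaf.stalk y) s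
        exact hu3.mul_left_eq_zero.1 (hu2.mul_right_eq_zero.1 (hu1.mul_right_eq_zero.1 h2))
      let e := LinearEquiv.ofBijective φ ⟨hi, hs⟩
      exact ⟨Module.Free.of_equiv e, by rw [← e.finrank_eq, Module.finrank_self]⟩
    obtain ⟨b⟩ := Props.QRank.basis_of_free_stalks M (hU.basicOpen g') m' hm' hfree
    obtain ⟨n, ⟨k⟩⟩ := Props.QProj.nonempty_restrict_iso_free M (hU.basicOpen g') b
    obtain ⟨b'⟩ := Props.QProj.free_sections_of_restrict_iso M k (hU.basicOpen g') le_rfl
    haveI : Nonempty ↥(Y.basicOpen g') := ⟨⟨ζ, hζg'⟩⟩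
    obtain rfl : n = 1 := by
      have h2 := Fintype.card_congr (b'.indexEquiv b)
      rwa [Fintype.card_fin, Fintype.card_fin] at h2
    exact ⟨Y.basicOpen g', ⟨k ≪≫ coproductUniqueIso _⟩, hζg'⟩
  refine ⟨⨆ W : S, W.1, dense_iff_inter_open.2 fun O hO ⟨y, hy⟩ => ?_, fun y => ?_⟩
  · obtain ⟨η, hη, hsp⟩ := FlatMor.GenericPts.exists_generic_specializes y
    obtain ⟨W, hW, hηW⟩ := hgen η hη
    exact ⟨η, hsp.mem_open hO hy, TopologicalSpace.Opens.mem_iSup.2 ⟨⟨W, hW⟩, hηW⟩⟩
  · obtain ⟨D, hyD, ⟨i⟩⟩ := ParaFLib.Factorial.isInvertible_restrict (⨆ W : S, W.1) M (fun x hx => by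
      obtain ⟨W, hxW⟩ := TopologicalSpace.Opens.mem_iSup.1 hx
      exact ⟨W.1, hxW, W.2⟩) y
    exact ⟨D, hyD, ⟨i ≪≫ (coproductUniqueIso fun _ : Fin 1 => Coh.structureModule (D : Scheme.{u})).symm⟩⟩

end Generic

end Groth.Agent.DualAbs
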