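import Groth.Agent.SurfRR.Surface
import Groth.Agent.AmpCrit.ProjForm

/-!
# Intersection with a curve is the degree
-/

set_option autoImplicit false
set_option linter.style.haveILetI false

universe u

open CategoryTheory CategoryTheory.Limits AlgebraicGeometry

noncomputable section

namespace Groth.Agent.DualAbs.CurveDeg

open Groth.Agent.ProjTwist

attribute [local irreducible] Curv2.euler

variable (k : Type u) [Field k] {X : Scheme.{u}} [X.Over (Spec (CommRingCat.of k))]
  [IsProper (X ↘ Spec (CommRingCat.of k))]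

/-- Euler characteristics of a twisted short exact sequence. -/
theorem euler_tens_add {V : X.Modules} (hV : PicF.IsInvertible V) {S : ShortComplex X.Modules}
    (hS : S.ShortExact) (h₁ : Coh.IsCoh S.X₁) (h₂ : Coh.IsCoh S.X₂) (h₃ : Coh.IsCoh S.X₃) :
    Curv2.euler k X (CohB1.tensorMod V S.X₂) =
      Curv2.euler k X (CohB1.tensorMod V S.X₁) + Curv2.euler k X (CohB1.tensorMod V S.X₃) := by
  haveI := EulerChar.isNoetherian k (X := X)
  have hV1 := isFinLocFreeOfRank_one hV
  let F := (DCoh.tensorBi (X := X)).obj V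
  have hM : (ShortComplex.mk (F.map S.f) (F.map S.g) (by rw [← F.map_comp, S.zero, F.map_zero])).ShortExact :=
    CohDev.tens_shortExact hV1 hS
  exact EulerChar.euler_add k hM (CohDev.isCoh_tens hV1 h₁) (CohDev.isCoh_tens hV1 h₂) (CohDev.isCoh_tens hV1 h₃)

/-- `(I_C · L) = -deg(L|_C)`. -/
theorem pr_ideal {C : Scheme.{u}} (i : C ⟶ X) [IsClosedImmersion i] [C.Over (Spec (CommRingCat.of k))]
    (w : i ≫ (X ↘ Spec (CommRingCat.of k)) = C ↘ Spec (CommRingCat.of k))
    (hI : PicF.IsInvertible (ClSub.idealMod i.ker)) {L : X.Modules} (hL : PicF.IsInvertible L) :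
    SurfRR.pr k (ClSub.idealMod i.ker) L = -Curv2.deg k C ((Scheme.Modules.pullback i).obj L) 1 := by
  haveI := EulerChar.isLocallyNoetherian k (X := X)
  haveI : IsProper (C ↘ Spec (CommRingCat.of k)) := by rw [← w]; infer_instance
  have hP : PicF.IsInvertible ((Scheme.Modules.pullback i).obj L) := PicCl.isInvertible_pullback i hL
  have h := euler_tens_add k
    (S := ShortComplex.mk (ClSub.idealModι i.ker) (ClSub.toSubscheme i.ker) (kernel.condition _)) hL
    (EulerChar.shortExact_ideal i.ker)
    (VBLib.isCoh_of_isFinLocFree (ProjForm.isFinLocFree_of_isInvertible hI)) (SurfRR.isCoh_structure k)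
    (EulerChar.isCoh_quotMod k _)
  have h' := SurfRR.euler_ker k i w hI
  obtain ⟨a⟩ := AmpCrit.ProjForm.nonempty_projIso i (Coh.structureModule C) hL
  have hq : Coh.IsQCoh (CohB1.tensorMod (Coh.structureModule C) ((Scheme.Modules.pullback i).obj L)) :=
    (CohDev.isCoh_of_iso (oneTens _).symm
      (haveI := LocallyOfFiniteType.isLocallyNoetherian i;
       VBLib.isCoh_of_isFinLocFree (ProjForm.isFinLocFree_of_isInvertible hP))).1
  have h3 : Curv2.euler k X (CohB1.tensorMod L (ClSub.quotMod i.ker)) =
      Curv2.euler k C ((Scheme.Modules.pullback i).obj L) := by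
    refine (EulerChar.euler_iso k (tensComm L (ClSub.quotMod i.ker) ≪≫
      tensCongr (HilbLoc.quotModIso i) (Iso.refl L) ≪≫ a)).trans ?_
    exact (EulerChar.euler_push i w _ hq).trans (EulerChar.euler_iso k (oneTens _))
  rw [EulerChar.euler_iso k (tensOne L), h3] at h
  rw [SurfRR.pr_eq, Curv2.deg, Nat.cast_one, one_mul]
  linarith

end Groth.Agent.DualAbs.CurveDeg
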