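import Groth.Agent.ExtFilt.Sheaf
import Groth.Agent.ExtPowSt.Det
import Groth.Agent.PullStalk.Basic
import Mathlib.RingTheory.TensorProduct.IsBaseChangeFree

/-!
# The determinant of a short exact sequence ending in a pullback

For a preimmersion `ι : X ⟶ P` and `0 → C → ι^*E → W → 0` exact with all stalks free, the tensor product
of the top exterior powers of `C` and `W` is the pullback of the top exterior power of `E`.
-/

set_option autoImplicit false
set_option linter.style.haveILetI false

universe u

open CategoryTheory CategoryTheory.Limits AlgebraicGeometry TopologicalSpace Opposite TensorProduct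

noncomputable section

namespace Groth.Agent.DualAbs.DetSeq

open Groth.Agent.PullStalk.Sky Groth.Agent.PullStalk.Exact Groth.Agent.PullStalk.Basic
  Groth.Agent.Omega.Stalks Groth.Agent.QCoh Groth.Agent.Props.SubMod Groth.Agent.Props.SubSheaf
  Groth.Agent.ExtPowSt Groth.Agent.KFlat.StalkTensor Groth.Agent.ExtFilt.Stalkwise
  Groth.Agent.ExtFilt.Sheaf Groth.Agent.ExtFilt.Alg

section Alg

variable {R : Type u} [CommRing R] {E' E E'' : Type u} [AddCommGroup E'] [Module R E']
  [AddCommGroup E] [Module R E] [AddCommGroup E''] [Module R E'']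
  (f : E' →ₗ[R] E) (g : E →ₗ[R] E'')

theorem Fil_succ_eq_bot {c : ℕ} (a : Module.Basis (Fin c) R E') (n : ℕ) : Fil f n (c + 1) = ⊥ := by
  rw [eq_bot_iff, Fil, Submodule.span_le]
  rintro _ ⟨v, hi, hv, rfl⟩
  choose b hb using fun l : Fin (c + 1) => hv (Fin.castLE hi l) l.2
  have : IsEmpty (Set.powersetCard (Fin c) (c + 1)) := ⟨fun s => by
    have h : s.1.card = c + 1 := s.2
    have := s.1.card_le_univ
    rw [h, Fintype.card_fin] at this
    omega⟩
  have h0 : exteriorPower.ιMulti R (c + 1) b = 0 :=
    (a.exteriorPower (c + 1)).repr.injective (Subsingleton.elim _ _)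
  have h1 := congrArg Subtype.val (congrArg (exteriorPower.map (c + 1) f) h0)
  rw [map_zero, exteriorPower.map_apply_ιMulti, exteriorPower.ιMulti_apply_coe,
    ExteriorAlgebra.ιMulti_apply, Submodule.coe_zero] at h1
  refine (Submodule.mem_bot R).2 (Subtype.ext ?_)
  rw [Submodule.coe_zero, exteriorPower.ιMulti_apply_coe, ExteriorAlgebra.ιMulti_apply,
    ← List.prod_take_mul_prod_drop _ (c + 1)]
  convert zero_mul _
  rw [← h1]
  congr 1
  refine List.ext_getElem (by simp; omega) fun k hk hk' => ?_
  simp only [List.getElem_take, List.getElem_ofFn, Function.comp_apply]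
  rw [hb]
  congr 2

/-- The determinant of a short exact sequence of free modules. -/
theorem exists_det_equiv {c r : ℕ} (a₀ : Module.Basis (Fin c) R E') (c₀ : Module.Basis (Fin r) R E'')
    (hf : Function.Injective f) (hg : Function.Surjective g) (hfg : Function.Exact f g) :
    ∃ ψ : (⋀[R]^c E') ⊗[R] (⋀[R]^r E'') →ₗ[R] ⋀[R]^(c + r) E, Function.Bijective ψ ∧
      ∀ (a : Fin c → E') (b : Fin r → E),
        ψ (exteriorPower.ιMulti R c a ⊗ₜ[R] exteriorPower.ιMulti R r (g ∘ b)) =
          exteriorPower.ιMulti R (c + r) (Fin.append (f ∘ a) b) := by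
  haveI := Module.Projective.of_basis c₀
  obtain ⟨ψ, hψi, -, hψ⟩ := exists_grade f g hf hg hfg c r
  have hK := Fil_succ_eq_bot f a₀ (c + r)
  let q := Submodule.quotEquivOfEqBot _ hK
  refine ⟨q.toLinearMap ∘ₗ ψ, ⟨q.injective.comp hψi, ?_⟩, fun a b => by
    rw [LinearMap.comp_apply, hψ]
    exact Submodule.quotEquivOfEqBot_apply_mk _ hK _⟩
  choose b₀ hb₀ using fun k => hg (c₀ k)
  let w : Fin (c + r) → E := Fin.append (f ∘ a₀) b₀
  let L : (Fin (c + r) → R) →ₗ[R] E := (Pi.basisFun R (Fin (c + r))).constr R w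
  have hL : LinearMap.range L = ⊤ := by
    rw [eq_top_iff]
    intro e _
    rw [Module.Basis.constr_range]
    have h2 : e - ∑ k, c₀.repr (g e) k • b₀ k ∈ LinearMap.range f := by
      refine (hfg _).1 ?_
      simp only [map_sub, map_sum, map_smul, hb₀, Module.Basis.sum_repr, sub_self]
    obtain ⟨e', he'⟩ := h2
    rw [← sub_add_cancel e (∑ k, c₀.repr (g e) k • b₀ k), ← he', ← a₀.sum_repr e', map_sum]
    refine add_mem (sum_mem fun k _ => ?_) (sum_mem fun k _ => Submodule.smul_mem _ _ ?_)
    · rw [map_smul]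
      exact Submodule.smul_mem _ _ (Submodule.subset_span ⟨Fin.castAdd r k, Fin.append_left _ _ k⟩)
    · exact Submodule.subset_span ⟨Fin.natAdd c k, Fin.append_right _ _ k⟩
  intro z
  have hz : z ∈ Submodule.span R (Set.range (exteriorPower.ιMulti R (c + r) (M := E))) := by
    rw [exteriorPower.ιMulti_span]; trivial
  suffices h : Submodule.span R (Set.range (exteriorPower.ιMulti R (c + r) (M := E))) ≤
      LinearMap.range (q.toLinearMap ∘ₗ ψ) from h hz
  rw [Submodule.span_le]
  rintro _ ⟨v, rfl⟩
  choose x hx using fun k => LinearMap.range_eq_top.1 hL (v k)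
  refine ⟨(Pi.basisFun R (Fin (c + r))).det x •
    (exteriorPower.ιMulti R c a₀ ⊗ₜ[R] exteriorPower.ιMulti R r (g ∘ b₀)), ?_⟩
  rw [map_smul, LinearMap.comp_apply, hψ, show (v : Fin (c + r) → E) = L ∘ x from (funext hx).symm,
    ← exteriorPower.map_apply_ιMulti, ιMulti_eq_det_smul (Pi.basisFun R (Fin (c + r))) x, map_smul,
    exteriorPower.map_apply_ιMulti]
  congr 1
  refine (Submodule.quotEquivOfEqBot_apply_mk _ hK _).trans
    (congrArg (exteriorPower.ιMulti R (c + r)) (funext fun k => ?_))
  exact ((Pi.basisFun R (Fin (c + r))).constr_basis R w k).symm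

end Alg

variable {X P : Scheme.{u}} (ι : X ⟶ P)

/-- A stalk basis pulls back. -/
theorem exists_pull_basis (M : P.Modules) (y : X) {κ : Type*}
    (b : Module.Basis κ (P.presheaf.stalk (ι y)) (M.presheaf.stalk (ι y))) :
    ∃ b' : Module.Basis κ (X.presheaf.stalk y) (((Scheme.Modules.pullback ι).obj M).presheaf.stalk y),
      ∀ i, b' i = unitStalkHom ι M y (b i) := by
  letI := (ι.stalkMap y).hom.toAlgebra
  letI := moduleOver ι M y
  haveI : IsScalarTower (P.presheaf.stalk (ι y)) (X.presheaf.stalk y)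
      (((Scheme.Modules.pullback ι).obj M).presheaf.stalk y) :=
    IsScalarTower.of_algebraMap_smul fun _ _ => rfl
  exact ⟨(isBaseChange_unitStalk ι M y).basis b,
    fun i => (isBaseChange_unitStalk ι M y).basis_apply b i⟩

theorem surjective_unit [IsPreimmersion ι] (M : P.Modules) (y : X) :
    Function.Surjective (unitStalkHom ι M y) := by
  letI := (ι.stalkMap y).hom.toAlgebra
  letI := moduleOver ι M y
  haveI : IsScalarTower (P.presheaf.stalk (ι y)) (X.presheaf.stalk y)
      (((Scheme.Modules.pullback ι).obj M).presheaf.stalk y) :=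
    IsScalarTower.of_algebraMap_smul fun _ _ => rfl
  intro t
  induction t using (isBaseChange_unitStalk ι M y).inductionOn with
  | zero => exact ⟨0, map_zero (unitStalkHom ι M y).hom⟩
  | tmul m => exact ⟨m, rfl⟩
  | smul s n hn =>
    obtain ⟨m, rfl⟩ := hn
    obtain ⟨r, rfl⟩ := ι.stalkMap_surjective y s
    exact ⟨r • m, unitStalkHom_smul ι M y r m⟩
  | add n₁ n₂ h₁ h₂ =>
    obtain ⟨m₁, rfl⟩ := h₁
    obtain ⟨m₂, rfl⟩ := h₂
    exact ⟨m₁ + m₂, map_add (unitStalkHom ι M y).hom m₁ m₂⟩

/-- The top wedge of the pullback stalk. -/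
theorem exists_top {n : ℕ} {E LE : P.Modules} [E.IsQuasicoherent] (Φ : Sys n E LE) (y : X)
    (b : Module.Basis (Fin n) (P.presheaf.stalk (ι y)) (E.presheaf.stalk (ι y))) :
    ∃ θ : (⋀[X.presheaf.stalk y]^n (((Scheme.Modules.pullback ι).obj E).presheaf.stalk y))
        →ₗ[X.presheaf.stalk y] ((Scheme.Modules.pullback ι).obj LE).presheaf.stalk y,
      Function.Bijective θ ∧ ∀ e : Fin n → E.presheaf.stalk (ι y),
        θ (exteriorPower.ιMulti _ n (fun k => unitStalkHom ι E y (e k))) =
          unitStalkHom ι LE y ((stalkEquiv Φ (ι y)).symm (exteriorPower.ιMulti _ n e)) := by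
  classical
  obtain ⟨b', hb'⟩ := exists_pull_basis ι E y b
  let R := P.presheaf.stalk (ι y)
  let S := X.presheaf.stalk y
  let ω := (stalkEquiv Φ (ι y)).symm (exteriorPower.ιMulti R n b)
  have hω : Function.Bijective (LinearMap.toSpanSingleton R (LE.presheaf.stalk (ι y)) ω) := by
    convert (stalkEquiv Φ (ι y)).symm.bijective.comp (bijective_smul_ιMulti b) using 1
    funext a
    exact (LinearEquiv.map_smul (stalkEquiv Φ (ι y)).symm a _).symm
  obtain ⟨b₁, hb₁⟩ := exists_pull_basis ι LE y
    ((Module.Basis.singleton Unit R).map (LinearEquiv.ofBijective _ hω))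
  have hω' : unitStalkHom ι LE y ω = b₁ () := by
    rw [hb₁, Module.Basis.map_apply, Module.Basis.singleton_apply]
    exact congrArg _ (one_smul R ω).symm
  let d := exteriorPower.alternatingMapLinearEquiv b'.det
  have hd : Function.Bijective d := by
    have h : d ∘ LinearMap.toSpanSingleton S _ (exteriorPower.ιMulti S n b') = id := funext fun s => by
      rw [Function.comp_apply, LinearMap.toSpanSingleton_apply, map_smul, det_ιMulti, smul_eq_mul, mul_one, id]
    exact ((bijective_smul_ιMulti b').of_comp_iff d).1 (h ▸ Function.bijective_id)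
  have hspan : Function.Bijective (LinearMap.toSpanSingleton S _ (b₁ ())) := by
    have h : (LinearMap.toSpanSingleton S _ (b₁ ())) =
        ((Module.Basis.singleton Unit S).equiv b₁ (Equiv.refl Unit)).toLinearMap :=
      (Module.Basis.singleton Unit S).ext fun i => by
        rw [LinearMap.toSpanSingleton_apply, Module.Basis.singleton_apply, one_smul, LinearEquiv.coe_coe,
          ← Module.Basis.singleton_apply Unit S i, Module.Basis.equiv_apply, Equiv.refl_apply]
    rw [h]
    exact LinearEquiv.bijective _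
  refine ⟨LinearMap.toSpanSingleton S _ (b₁ ()) ∘ₗ d, hspan.comp hd, fun e => ?_⟩
  rw [LinearMap.comp_apply, exteriorPower.alternatingMapLinearEquiv_apply_ιMulti,
    LinearMap.toSpanSingleton_apply, ιMulti_eq_det_smul b e, LinearEquiv.map_smul,
    unitStalkHom_smul, hω']
  congr 1
  rw [Module.Basis.det_apply, Module.Basis.det_apply]
  refine (congrArg Matrix.det ?_).trans (RingHom.map_det (ι.stalkMap y).hom _).symm
  ext i j
  rw [RingHom.mapMatrix_apply, Matrix.map_apply, Module.Basis.toMatrix_apply, Module.Basis.toMatrix_apply]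
  have h : unitStalkHom ι E y (e j) = ∑ k, ι.stalkMap y (b.repr (e j) k) • b' k := by
    conv_lhs => rw [← b.sum_repr (e j)]
    refine (map_sum (unitStalkHom ι E y).hom _ _).trans (Finset.sum_congr rfl fun k _ => ?_)
    rw [hb']
    exact unitStalkHom_smul ι E y _ _
  rw [h, Module.Basis.repr_sum_self]

/-- The adjunction formula for top exterior powers. -/
theorem nonempty_det_iso [IsPreimmersion ι] {c r : ℕ} {C W LC LW : X.Modules} {E LE : P.Modules}
    [C.IsQuasicoherent] [W.IsQuasicoherent] [E.IsQuasicoherent]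
    (f : C ⟶ (Scheme.Modules.pullback ι).obj E) (g : (Scheme.Modules.pullback ι).obj E ⟶ W)
    (hinj : ∀ y, Function.Injective (stalkLin f y)) (hsur : ∀ y, Function.Surjective (stalkLin g y))
    (hex : ∀ y, Function.Exact (stalkLin f y) (stalkLin g y))
    (ΦC : Sys c C LC) (ΦW : Sys r W LW) (ΦE : Sys (c + r) E LE)
    (hbC : ∀ y, Nonempty (Module.Basis (Fin c) (X.presheaf.stalk y) (C.presheaf.stalk y)))
    (hbW : ∀ y, Nonempty (Module.Basis (Fin r) (X.presheaf.stalk y) (W.presheaf.stalk y)))
    (hbE : ∀ y, Nonempty (Module.Basis (Fin (c + r)) (P.presheaf.stalk (ι y)) (E.presheaf.stalk (ι y)))) :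
    Nonempty (tensM LC LW ≅ (Scheme.Modules.pullback ι).obj LE) := by
  choose ψ hψb hψ using fun y => exists_det_equiv (stalkLin f y) (stalkLin g y) (hbC y).some (hbW y).some
    (hinj y) (hsur y) (hex y)
  choose θ hθb hθ using fun y => exists_top ι ΦE y (hbE y).some
  let eq : ∀ y : X, (tensM LC LW).presheaf.stalk y ≃ₗ[X.presheaf.stalk y]
      (⋀[X.presheaf.stalk y]^c (C.presheaf.stalk y)) ⊗[X.presheaf.stalk y]
        (⋀[X.presheaf.stalk y]^r (W.presheaf.stalk y)) := fun y =>
    (stalkTensorEquiv LC LW y).trans (TensorProduct.congr (stalkEquiv ΦC y) (stalkEquiv ΦW y))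
  let φ := fun y : X => θ y ∘ₗ ψ y ∘ₗ (eq y).toLinearMap
  have hgen : ∀ x (a : Fin c → C.presheaf.stalk x) (q : Fin r → W.presheaf.stalk x),
      Loc φ x ((eq x).symm (exteriorPower.ιMulti _ c a ⊗ₜ exteriorPower.ιMulti _ r q)) := by
    intro x a q
    choose b hb using fun k => hsur x (q k)
    choose e he using fun k => surjective_unit ι E x (Fin.append (fun l => stalkLin f x (a l)) b k)
    obtain ⟨U, hxU, -, s, hs⟩ := exists_lifts E (ι x) e ⊤ trivial
    obtain ⟨U', hx', hle', a', ha'⟩ := exists_lifts C x a (ι ⁻¹ᵁ U.1) hxU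
    let us : Fin (c + r) → Γ((Scheme.Modules.pullback ι).obj E, ι ⁻¹ᵁ U.1) := fun k =>
      ((Scheme.Modules.pullbackPushforwardAdjunction ι).unit.app E).app U.1 (s k)
    have hus : ∀ y (hy : y ∈ ι ⁻¹ᵁ U.1) k, germM _ (ι ⁻¹ᵁ U.1) y hy (us k) =
        unitStalkHom ι E y (germM E U.1 (ι y) hy (s k)) := fun y hy k =>
      (unitStalkHom_germ ι E y U.1 hy (s k)).symm
    have heqn : ∀ k : Fin c, germM _ U'.1 x hx' (f.app U'.1 (a' k)) =
        germM _ (ι ⁻¹ᵁ U.1) x hxU (us (Fin.castAdd r k)) := fun k => by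
      refine Eq.trans ?_ (hus x hxU _).symm
      refine ((stalkLin_germ f U'.1 x hx' (a' k)).symm.trans (congrArg (stalkLin f x) (ha' k))).trans ?_
      refine Eq.trans ?_ (congrArg (unitStalkHom ι E x) (hs (Fin.castAdd r k))).symm
      rw [he, Fin.append_left]
    choose V hxV iV iV' hV using fun k => TopCat.Presheaf.germ_eq ((Scheme.Modules.pullback ι).obj E).presheaf
      x hx' hxU _ _ (heqn k)
    let O : X.Opens := U'.1 ⊓ ⟨⋂ k, (V k : Set X), isOpen_iInter_of_finite fun k => (V k).2⟩
    obtain ⟨T, hT, hxT, hTO⟩ :=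
      exists_isAffineOpen_mem_and_subset (X := X) (x := x) (U := O) ⟨hx', Set.mem_iInter.2 hxV⟩
    have hTO' : T ≤ O := hTO
    have hTU' : T ≤ U'.1 := hTO'.trans inf_le_left
    have hTU : T ≤ ι ⁻¹ᵁ U.1 := hTU'.trans hle'
    let T' : X.affineOpens := ⟨T, hT⟩
    have hfa : ∀ (k : Fin c) y (hy : y ∈ T), stalkLin f y (germM C U'.1 y (hTU' hy) (a' k)) =
        unitStalkHom ι E y (germM E U.1 (ι y) (hTU hy) (s (Fin.castAdd r k))) := fun k y hy => by
      have hyV : y ∈ V k := Set.mem_iInter.1 (hTO' hy).2 k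
      refine (stalkLin_germ f U'.1 y (hTU' hy) (a' k)).trans (Eq.trans ?_ (hus y (hTU hy) _))
      exact (germM_res' _ (iV k).le y hyV _).symm.trans
        ((congrArg (germM _ (V k) y hyV) (hV k)).trans (germM_res' _ (iV' k).le y hyV _))
    let bT : Fin r → Γ((Scheme.Modules.pullback ι).obj E, T) := fun k => res _ hTU (us (Fin.natAdd c k))
    let m₁ := wsec ΦC T' fun k => res C hTU' (a' k)
    let m₂ := wsec ΦW T' fun k => g.app T (bT k)
    have hm : ∀ y (hy : y ∈ T), eq y (germM (tensM LC LW) T y hy (tmulSec T m₁ m₂)) =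
        exteriorPower.ιMulti _ c (fun k => germM C U'.1 y (hTU' hy) (a' k)) ⊗ₜ
          exteriorPower.ιMulti _ r (stalkLin g y ∘ fun k =>
            unitStalkHom ι E y (germM E U.1 (ι y) (hTU hy) (s (Fin.natAdd c k)))) := by
      intro y hy
      change TensorProduct.congr _ _ (toTensor LC LW y (tgerm LC LW y T hy m₁ m₂)) = _
      rw [toTensor_tgerm, TensorProduct.congr_tmul]
      refine congrArg₂ (· ⊗ₜ[X.presheaf.stalk y] ·)
        ((equiv_wedge ΦC T' y hy _).trans ?_) ((equiv_wedge ΦW T' y hy _).trans ?_)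
      · exact congrArg _ (funext fun k => germM_res' C hTU' y hy (a' k))
      · refine congrArg _ (funext fun k => ?_)
        refine (stalkLin_germ g T y hy (bT k)).symm.trans (congrArg (stalkLin g y) ?_)
        exact (germM_res' _ hTU y hy _).trans (hus y (hTU hy) _)
    refine ⟨T, hxT, tmulSec T m₁ m₂, res _ hTU
      (((Scheme.Modules.pullbackPushforwardAdjunction ι).unit.app LE).app U.1 (wsec ΦE U s)), ?_,
      fun y hy => ?_⟩
    · refine (eq x).injective ((hm x hxT).trans ?_)
      rw [LinearEquiv.apply_symm_apply]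
      congr 1
      · exact congrArg _ (funext ha')
      · refine congrArg _ (funext fun k => ?_)
        rw [Function.comp_apply, hs, he, Fin.append_right, hb]
    · change θ y (ψ y (eq y _)) = _
      rw [hm, hψ]
      refine Eq.trans ?_ ((germM_res' _ hTU y hy _).trans
        (unitStalkHom_germ ι LE y U.1 (hTU hy) (wsec ΦE U s)).symm).symm
      refine Eq.trans ?_ ((hθ y fun k => germM E U.1 (ι y) (hTU hy) (s k)).trans (congrArg (unitStalkHom ι LE y)
        ((LinearEquiv.symm_apply_eq _).2 (equiv_wedge ΦE U (ι y) (hTU hy) s).symm)))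
      refine congrArg (θ y) (congrArg _ (funext fun k => ?_))
      refine Fin.addCases (fun l => ?_) (fun l => ?_) k
      · rw [Fin.append_left]
        exact hfa l y hy
      · rw [Fin.append_right]
  have hloc : ∀ x t, Loc φ x t := by
    intro x t
    rw [← (eq x).symm_apply_apply t]
    generalize eq x t = z
    induction z using TensorProduct.induction_on with
    | zero => rw [map_zero]; exact loc_zero x
    | add p q hp hq => rw [map_add]; exact loc_add hp hq
    | tmul p q =>
      have hp : p ∈ Submodule.span (X.presheaf.stalk x)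
          (Set.range (exteriorPower.ιMulti (X.presheaf.stalk x) c (M := C.presheaf.stalk x))) := by
        rw [exteriorPower.ιMulti_span]; trivial
      have hq : q ∈ Submodule.span (X.presheaf.stalk x)
          (Set.range (exteriorPower.ιMulti (X.presheaf.stalk x) r (M := W.presheaf.stalk x))) := by
        rw [exteriorPower.ιMulti_span]; trivial
      induction hp using Submodule.span_induction with
      | mem p hp =>
        obtain ⟨a, rfl⟩ := hp
        induction hq using Submodule.span_induction with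
        | mem q hq => obtain ⟨d, rfl⟩ := hq; exact hgen x a d
        | zero => rw [tmul_zero, map_zero]; exact loc_zero x
        | add q q' _ _ hq hq' => rw [tmul_add, map_add]; exact loc_add hq hq'
        | smul d q _ hq => rw [tmul_smul, LinearEquiv.map_smul]; exact loc_smul d hq
      | zero => rw [zero_tmul, map_zero]; exact loc_zero x
      | add p p' _ _ hp hp' => rw [add_tmul, map_add]; exact loc_add hp hp'
      | smul d p _ hp => rw [← smul_tmul', LinearEquiv.map_smul]; exact loc_smul d hp
  obtain ⟨h, hh⟩ := exists_hom hloc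
  haveI : IsIso h := isIso_of_stalk fun y => by
    rw [show (stalkLin h y : _ → _) = φ y from funext (hh y)]
    exact (hθb y).comp ((hψb y).comp (eq y).bijective)
  exact ⟨asIso h⟩

end Groth.Agent.DualAbs.DetSeq
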