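import Groth.Agent.DualAbs.Horrocks
import Groth.Agent.InjMod.HomShBridge
import Groth.Agent.InjMod.Hom
import Groth.Agent.HomShEval.QCoh
import Groth.Agent.AmpleLib.Basic
import Groth.Agent.KFlat.StalkCx
import Mathlib.CategoryTheory.Abelian.Projective.Dimension

/-!
# Negative twists and the `Ext` of stalks into the local ring

`H^{N-j}(F(-m)) = 0` for `m ≫ 0` iff `Ext^j(F_x, O_x) = 0` at every (closed) point of `P^N`.
-/

universe u

open CategoryTheory CategoryTheory.Limits CategoryTheory.Abelian AlgebraicGeometry Opposite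
open Groth.Agent.ProjTwist Groth.Agent.ProjTwist.Pn Groth.Agent.PullStalk.Sky
open Groth.Agent.KFlat.StalkTensor Groth.Agent.InjMod

noncomputable section

namespace Groth.Agent.DualAbs

set_option maxHeartbeats 1600000
set_option synthInstance.maxHeartbeats 400000

section Abstract

variable {C : Type*} [Category C] [Abelian C] [HasExt.{u} C] {S : ShortComplex C} (hS : S.ShortExact) {M : C}

include hS in
theorem subsingleton_ext_X₃_iff (i : ℕ) (h₁ : Subsingleton (Ext S.X₂ M i))
    (h₂ : Subsingleton (Ext S.X₂ M (i + 1))) :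
    Subsingleton (Ext S.X₃ M (i + 1)) ↔ Subsingleton (Ext S.X₁ M i) := by
  constructor
  · intro h
    refine subsingleton_of_forall_eq 0 fun x => ?_
    obtain ⟨y, hy⟩ := Ext.contravariant_sequence_exact₁ hS _ x (add_comm 1 i) (Subsingleton.elim _ _)
    rw [← hy, h₁.elim y 0, Ext.comp_zero]
  · intro h
    refine subsingleton_of_forall_eq 0 fun x => ?_
    obtain ⟨y, hy⟩ := Ext.contravariant_sequence_exact₃ hS _ x (h₂.elim _ _) (add_comm 1 i)
    rw [← hy, h.elim y 0, Ext.comp_zero]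

include hS in
theorem exists_extension (h : Subsingleton (Ext S.X₃ M 1)) (φ : S.X₁ ⟶ M) :
    ∃ χ : S.X₂ ⟶ M, S.f ≫ χ = φ := by
  obtain ⟨χ, hχ⟩ := Ext.contravariant_sequence_exact₁ hS _ (Ext.mk₀ φ) (show 1 + 0 = 1 from rfl)
    (h.elim _ _)
  obtain ⟨χ, rfl⟩ := (Ext.mk₀_bijective _ _).2 χ
  rw [Ext.mk₀_comp_mk₀] at hχ
  exact ⟨χ, (Ext.mk₀_bijective _ _).1 hχ⟩

include hS in
theorem subsingleton_ext_one (h₂ : Subsingleton (Ext S.X₂ M 1))
    (h : ∀ φ : S.X₁ ⟶ M, ∃ χ : S.X₂ ⟶ M, S.f ≫ χ = φ) : Subsingleton (Ext S.X₃ M 1) := by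
  refine subsingleton_of_forall_eq 0 fun x => ?_
  obtain ⟨y, rfl⟩ := Ext.contravariant_sequence_exact₃ hS _ x (h₂.elim _ _) (show 1 + 0 = 1 from rfl)
  obtain ⟨φ, rfl⟩ := (Ext.mk₀_bijective _ _).2 y
  obtain ⟨χ, rfl⟩ := h φ
  rw [← Ext.mk₀_comp_mk₀, ← Ext.comp_assoc hS.extClass (Ext.mk₀ S.f) (Ext.mk₀ χ) (add_zero 1)
    (zero_add 0) (by omega)]
  exact (congrArg (fun e => Ext.comp e (Ext.mk₀ χ) (add_zero 1)) hS.extClass_comp).trans (Ext.zero_comp ..)

theorem subsingleton_ext_zero_iff (A B : C) : Subsingleton (Ext A B 0) ↔ ∀ φ : A ⟶ B, φ = 0 := by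
  refine ⟨fun h φ => (Ext.mk₀_bijective _ _).1 (h.elim _ _), fun h => ?_⟩
  refine subsingleton_of_forall_eq 0 fun x => ?_
  obtain ⟨φ, rfl⟩ := (Ext.mk₀_bijective _ _).2 x
  rw [h φ, Ext.mk₀_zero]

theorem subsingleton_ext_projective (P B : C) [Projective P] {i : ℕ} (hi : 1 ≤ i) :
    Subsingleton (Ext P B i) :=
  subsingleton_of_forall_eq 0 fun e => e.eq_zero_of_hasProjectiveDimensionLT 1 hi

theorem subsingleton_ext_congr {A A' B B' : C} (eA : A ≅ A') (eB : B ≅ B') (i : ℕ)
    (h : Subsingleton (Ext A B i)) : Subsingleton (Ext A' B' i) := by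
  refine subsingleton_of_forall_eq 0 fun z => ?_
  have hz : ((Ext.mk₀ eA.hom).comp z (zero_add i)).comp (Ext.mk₀ eB.inv) (add_zero i) = 0 :=
    Subsingleton.elim _ _
  have := congrArg (fun w => ((Ext.mk₀ eA.inv).comp w (zero_add i)).comp
    (Ext.mk₀ eB.hom) (add_zero i)) hz
  simpa [Ext.comp_assoc_of_third_deg_zero, Ext.mk₀_comp_mk₀_assoc] using this

end Abstract

section HomSections

variable {X : Scheme.{u}}

local instance hasHomAll' (M : X.Modules) : ModSite.HasSheafHom (O := X.sheaf) M :=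
  KFlat.hasSheafHom X.sheaf M

/-- `O ⊗ G ≅ G`. -/
def unitT (G : X.Modules) : (ChgRings.tensR G).obj (Coh.structureModule X) ≅ G :=
  KFlat.TensorLocFree.unitTensorIso G

theorem unitT_natural {G H : X.Modules} (f : G ⟶ H) :
    tensWhisk (Coh.structureModule X) f ≫ (unitT H).hom = (unitT G).hom ≫ f :=
  SerrePn.unitTensor_natural f

/-- A global section of `ℋom(G, M)` is a morphism `G ⟶ M`. -/
def secHom {G M : X.Modules} (σ : Γ((homF G).obj M, ⊤)) : G ⟶ M :=
  (unitT G).inv ≫ ((homAdj G).homEquiv _ _).symm (Props.GenLocus.homOfSec σ)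

theorem secHom_spec {G M : X.Modules} (σ : Γ((homF G).obj M, ⊤)) :
    (homAdj G).homEquiv _ _ ((unitT G).hom ≫ secHom σ) = Props.GenLocus.homOfSec σ := by
  rw [secHom, Iso.hom_inv_id_assoc, Equiv.apply_symm_apply]

theorem sec_self {L : X.Modules} (σ : Γ(L, ⊤)) :
    Props.GenLocus.sec (Props.GenLocus.homOfSec σ) ⊤ = σ :=
  (Props.GenLocus.sec_homOfSec σ ⊤).trans (QCoh.res_self _ _ _)

theorem hom_unit_ext {L : X.Modules} {s t : Coh.structureModule X ⟶ L}
    (h : Props.GenLocus.sec s ⊤ = Props.GenLocus.sec t ⊤) : s = t :=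
  Scheme.Modules.hom_ext _ _ fun V => AddCommGrpCat.hom_ext (AddMonoidHom.ext fun r =>
    (Props.GenLocus.app_eq s V r).trans ((congrArg ((show Γ(X, V) from r) • ·)
      ((Props.GenLocus.sec_res s le_top).symm.trans ((congrArg (QCoh.res L le_top) h).trans
        (Props.GenLocus.sec_res t le_top)))).trans (Props.GenLocus.app_eq t V r).symm))

theorem eq_zero_of_secHom {G M : X.Modules} {σ : Γ((homF G).obj M, ⊤)} (h : secHom σ = 0) : σ = 0 := by
  have := secHom_spec σ
  rw [h, comp_zero, Adjunction.homEquiv_unit, Functor.map_zero, comp_zero] at this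
  rw [← sec_self σ, ← this]
  rfl

/-- The germ of a section of `ℋom(G, M)` acts as the stalk of its morphism. -/
theorem evStalk_germ_top {G M : X.Modules} (σ : Γ((homF G).obj M, ⊤)) (y : X) (t : G.presheaf.stalk y) :
    evStalk G M y (germM ((homF G).obj M) ⊤ y trivial σ) t =
      stL ((unitT G).hom ≫ secHom σ) y
        ((stalkTensorEquiv (Coh.structureModule X) G y).symm (oneGerm y ⊗ₜ t)) := by
  have e : germM ((homF G).obj M) ⊤ y trivial σ =
      stL ((homAdj G).homEquiv _ _ ((unitT G).hom ≫ secHom σ)) y (oneGerm y) := by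
    rw [secHom_spec, oneGerm]
    exact ((congrArg (germM _ ⊤ y trivial) (sec_self σ).symm)).trans
      (stL_germ (Props.GenLocus.homOfSec σ) y ⊤ trivial _).symm
  rw [e]
  exact evStalk_transpose _ y _ _

theorem stalk_whisk {G H : X.Modules} (f : G ⟶ H) (y : X) (a : (Coh.structureModule X).presheaf.stalk y)
    (t : G.presheaf.stalk y) :
    stL (tensWhisk (Coh.structureModule X) f) y ((stalkTensorEquiv (Coh.structureModule X) G y).symm (a ⊗ₜ t)) =
      (stalkTensorEquiv (Coh.structureModule X) H y).symm (a ⊗ₜ stL f y t) := by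
  apply (stalkTensorEquiv (Coh.structureModule X) H y).injective
  rw [LinearEquiv.apply_symm_apply]
  refine (LinearMap.congr_fun (congrArg ModuleCat.Hom.hom (KFlat.StalkCx.stIso_right y (Coh.structureModule X) f))
    ((stalkTensorEquiv (Coh.structureModule X) G y).symm (a ⊗ₜ t))).trans ?_
  exact (congrArg (LinearMap.lTensor ((Coh.structureModule X).presheaf.stalk y) (stL f y))
    (LinearEquiv.apply_symm_apply (stalkTensorEquiv (Coh.structureModule X) G y) (a ⊗ₜ t))).trans rfl

/-- Surjectivity on global sections. -/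
theorem surjective_app_top {k : Type u} [Field k] [X.Over (Spec (CommRingCat.of k))]
    {S : ShortComplex X.Modules} (hS : S.ShortExact) (h : Subsingleton (Coh.HH X S.X₁ 1)) :
    Function.Surjective (S.g.app ⊤) := fun σ => by
  let e₂ := Sheaf.H.equiv₀ (Coh.toAb S.X₂) CategoryTheory.Limits.isTerminalTop
  let e₃ := Sheaf.H.equiv₀ (Coh.toAb S.X₃) CategoryTheory.Limits.isTerminalTop
  obtain ⟨y, hy⟩ := CohLES.exact₃ k hS (show 0 + 1 = 1 from rfl) (e₃.symm σ) (h.elim _ _)
  refine ⟨e₂ y, ?_⟩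
  have := congrArg e₃ hy
  refine Eq.trans ?_ (this.trans (e₃.apply_symm_apply σ))
  exact Sheaf.H.equiv₀_naturality CategoryTheory.Limits.isTerminalTop ((ModShf.toAbFunctor X).map S.g) y

end HomSections

variable {N : ℕ} {k : Type u} [Field k]

local notation "ℙ" => CohB1.ProjSpace N k

local instance hasHomAll'' (M : (CohB1.ProjSpace N k).Modules) :
    ModSite.HasSheafHom (O := (CohB1.ProjSpace N k).sheaf) M :=
  KFlat.hasSheafHom (CohB1.ProjSpace N k).sheaf M

/-- `Ext^j(G_y, O_y) = 0`. -/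
def StalkExtVanish (j : ℕ) (G : (CohB1.ProjSpace N k).Modules) (y : CohB1.ProjSpace N k) : Prop :=
  Subsingleton (Ext ((DerSch.stalkFunctor (CohB1.ProjSpace N k) y).obj G)
    (ModuleCat.of ((CohB1.ProjSpace N k).presheaf.stalk y) ((CohB1.ProjSpace N k).presheaf.stalk y)) j)

/-- `Ext^j(G(-m), ω) = 0` for `m ≫ 0`. -/
def ExtVanishNeg [HasExt.{u} (CohB1.ProjSpace N k).Modules] (j : ℕ) (G : (CohB1.ProjSpace N k).Modules) :
    Prop :=
  ∃ m₀ : ℤ, ∀ m : ℤ, m₀ ≤ m → Subsingleton (Ext (twF G (-m)) (SerrePn.omega N k) j)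

theorem nonempty_stalkOmega (m : ℤ) (y : CohB1.ProjSpace N k) :
    Nonempty ((DerSch.stalkFunctor (CohB1.ProjSpace N k) y).obj (twF (SerrePn.omega N k) m) ≅
      ModuleCat.of ((CohB1.ProjSpace N k).presheaf.stalk y) ((CohB1.ProjSpace N k).presheaf.stalk y)) := by
  obtain ⟨e⟩ := EulerChar.stalk_ofRank
    (isFinLocFreeOfRank_one (AmpleLib.isInvertible_tensorMod (isInvertible_twistProjSpace N k (-((N : ℤ) + 1)))
      (isInvertible_twistProjSpace N k m))) y
  exact ⟨(e.symm.trans (LinearEquiv.funUnique (Fin 1) _ _)).toModuleIso⟩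

theorem isCoh_homF {G M : (CohB1.ProjSpace N k).Modules} (hG : Coh.IsCoh G) (hM : Coh.IsCoh M) :
    Coh.IsCoh ((homF G).obj M) := by
  have := SerrePn.isLocallyNoetherian (n := N) (R := k)
  have := isIso_homShTo G M (HomShEval.QCoh.isFP_of_isCoh G hG)
  exact CohDev.isCoh_of_iso (asIso (homShTo G M)) (HomShEval.QCoh.isCoh_homSh G M hG hM)

/-- `ℋom(G, ω(m))` is generated by sections and has no `H^1` for `m ≫ 0`. -/
theorem exists_good (G : (CohB1.ProjSpace N k).Modules) (hG : Coh.IsCoh G) :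
    ∃ m₀ : ℤ, ∀ m : ℤ, m₀ ≤ m → (∀ y, globSpan ((homF G).obj (twF (SerrePn.omega N k) m)) y = ⊤) ∧
      Subsingleton (Coh.HH (CohB1.ProjSpace N k) ((homF G).obj (twF (SerrePn.omega N k) m)) 1) := by
  have := KFlat.hasSheafHom_scheme G
  have hH : Coh.IsCoh ((homF G).obj (SerrePn.omega N k)) := isCoh_homF hG (SerrePn.isCoh_twist _)
  obtain ⟨a, ha⟩ := globSpan_eventually hH
  obtain ⟨b, hb⟩ := serre_vanishing _ hH
  refine ⟨max a b, fun m hm => ?_⟩
  let e : (homF G).obj (twF (SerrePn.omega N k) m) ≅ twF ((homF G).obj (SerrePn.omega N k)) m :=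
    (homF G).mapIso (twLIso _ m).symm ≪≫ ((dcohHomIso G).app _).symm ≪≫
      (nonempty_sheafHom_twist G (SerrePn.omega N k) m).some ≪≫
      twCongr ((dcohHomIso G).app _) m
  exact ⟨fun y => globSpan_eq_top_of_epi e.inv y (ha m ((le_max_left _ _).trans hm) y),
    subsingleton_HH_iso e.symm (hb m ((le_max_right _ _).trans hm) 1 one_pos)⟩

theorem ext_tw_iff [HasExt.{u} (CohB1.ProjSpace N k).Modules] (G : (CohB1.ProjSpace N k).Modules)
    (m : ℤ) (j : ℕ) :
    Subsingleton (Ext (twF G (-m)) (SerrePn.omega N k) j) ↔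
      Subsingleton (Ext G (twF (SerrePn.omega N k) m) j) :=
  ⟨fun h => subsingleton_ext_shift (-m) (subsingleton_ext_of_iso (Iso.refl _)
      (twTw _ m (-m) 0 (add_neg_cancel m) ≪≫ twZero _).symm h),
    fun h => subsingleton_ext_shift m (subsingleton_ext_of_iso
      (twTw G (-m) m 0 (neg_add_cancel m) ≪≫ twZero G).symm (Iso.refl _) h)⟩

theorem extVanishNeg_iff [HasExt.{u} (CohB1.ProjSpace N k).Modules] (j : ℕ)
    (G : (CohB1.ProjSpace N k).Modules) :
    ExtVanishNeg j G ↔ ∃ m₀ : ℤ, ∀ m : ℤ, m₀ ≤ m → Subsingleton (Ext G (twF (SerrePn.omega N k) m) j) := by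
  unfold ExtVanishNeg
  simp only [ext_tw_iff]

theorem stalkExt_iff (j : ℕ) (G : (CohB1.ProjSpace N k).Modules) (m : ℤ) (y : CohB1.ProjSpace N k) :
    StalkExtVanish j G y ↔ Subsingleton (Ext ((DerSch.stalkFunctor (CohB1.ProjSpace N k) y).obj G)
      ((DerSch.stalkFunctor (CohB1.ProjSpace N k) y).obj (twF (SerrePn.omega N k) m)) j) := by
  obtain ⟨e⟩ := nonempty_stalkOmega (N := N) (k := k) m y
  exact ⟨subsingleton_ext_congr (Iso.refl _) e.symm j, subsingleton_ext_congr (Iso.refl _) e j⟩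

variable {G : (CohB1.ProjSpace N k).Modules} (hG : Coh.IsCoh G)

include hG in
theorem bijective_ev (M : (CohB1.ProjSpace N k).Modules) (y : CohB1.ProjSpace N k) :
    Function.Bijective (evStalk G M y) :=
  have := SerrePn.isLocallyNoetherian (n := N) (R := k)
  evStalk_bijective_of_isFP G M (HomShEval.QCoh.isFP_of_isCoh G hG) y

include hG in
theorem stalk_zero_iff (m : ℤ) (y : CohB1.ProjSpace N k) :
    StalkExtVanish 0 G y ↔
      Subsingleton (((homF G).obj (twF (SerrePn.omega N k) m)).presheaf.stalk y) := by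
  rw [stalkExt_iff 0 G m y, subsingleton_ext_zero_iff]
  have hb := bijective_ev hG (twF (SerrePn.omega N k) m) y
  refine ⟨fun h => subsingleton_of_forall_eq 0 fun s => hb.1 ?_, fun h φ => ?_⟩
  · rw [map_zero]
    exact congrArg ModuleCat.Hom.hom (h (ModuleCat.ofHom (evStalk G _ y s)))
  · obtain ⟨s, hs⟩ := hb.2 φ.hom
    refine ModuleCat.hom_ext ?_
    rw [← hs, h.elim s 0, map_zero]
    rfl

include hG in
theorem base_zero [HasExt.{u} (CohB1.ProjSpace N k).Modules] :
    (ExtVanishNeg 0 G → ∀ y, StalkExtVanish 0 G y) ∧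
      ((∀ y : CohB1.ProjSpace N k, IsClosed ({y} : Set (CohB1.ProjSpace N k)) → StalkExtVanish 0 G y) →
        ExtVanishNeg 0 G) := by
  have := compactSpace (N := N) (k := k)
  rw [extVanishNeg_iff]
  obtain ⟨a, ha⟩ := exists_good G hG
  constructor
  · rintro ⟨m₀, hm₀⟩ y
    have h := (subsingleton_ext_zero_iff _ _).mp (hm₀ (max a m₀) (le_max_right _ _))
    rw [stalk_zero_iff hG (max a m₀) y]
    refine subsingleton_of_forall_eq 0 fun s => ?_
    have hs : s ∈ globSpan ((homF G).obj (twF (SerrePn.omega N k) (max a m₀))) y :=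
      ((ha _ (le_max_left _ _)).1 y) ▸ Submodule.mem_top
    have hspan : globSpan ((homF G).obj (twF (SerrePn.omega N k) (max a m₀))) y ≤ ⊥ := by
      rw [globSpan, Submodule.span_le]
      rintro _ ⟨σ, rfl⟩
      show germM _ ⊤ y trivial σ = 0
      rw [eq_zero_of_secHom (h (secHom σ))]
      exact map_zero _
    exact (Submodule.mem_bot _).mp (hspan hs)
  · intro h
    refine ⟨0, fun m _ => (subsingleton_ext_zero_iff _ _).mpr fun φ => ?_⟩
    have hz : IsZero ((homF G).obj (twF (SerrePn.omega N k) m)) :=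
      isZero_of_closed_stalks (isCoh_homF hG (isCoh_tw (SerrePn.isCoh_twist _) m)) fun y hy =>
        (stalk_zero_iff hG m y).mp (h y hy)
    have e : (homAdj G).homEquiv _ _ ((unitT G).hom ≫ φ) = 0 := hz.eq_of_tgt _ _
    have e' : (unitT G).hom ≫ φ = 0 :=
      ((homAdj G).homEquiv _ _).injective (e.trans (hz.eq_of_tgt _ _))
    exact (cancel_epi (unitT G).hom).mp (e'.trans comp_zero.symm)

section Cover

variable {S : ShortComplex (CohB1.ProjSpace N k).Modules} (hS : S.ShortExact)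
  (hK : Coh.IsCoh S.X₁) (hE : FlatMod.IsFinLocFree S.X₂) (hQ : Coh.IsCoh S.X₃)

include hE in
theorem projective_stalk (y : CohB1.ProjSpace N k) :
    Projective ((DerSch.stalkFunctor (CohB1.ProjSpace N k) y).obj S.X₂) := by
  have := (finite_stalk_of_isFinLocFree hE y).1
  exact (IsProjective.iff_projective (R := (CohB1.ProjSpace N k).presheaf.stalk y) _).mp
    (Module.Projective.of_free (R := (CohB1.ProjSpace N k).presheaf.stalk y) (P := S.X₂.presheaf.stalk y))

include hS hK hE in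
theorem stalk_one_of_neg [HasExt.{u} (CohB1.ProjSpace N k).Modules] (h : ExtVanishNeg 1 S.X₃)
    (y : CohB1.ProjSpace N k) : StalkExtVanish 1 S.X₃ y := by
  obtain ⟨m₀, hm₀⟩ := (extVanishNeg_iff 1 S.X₃).mp h
  obtain ⟨a, ha⟩ := exists_good S.X₁ hK
  let m := max a m₀
  let M := twF (SerrePn.omega N k) m
  let T := DerSch.stalkFunctor (CohB1.ProjSpace N k) y
  rw [stalkExt_iff 1 S.X₃ m y]
  refine subsingleton_ext_one (shortExact_stalk hS y)
    (@subsingleton_ext_projective _ _ _ _ _ _ (projective_stalk hE y) _ le_rfl) fun l => ?_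
  obtain ⟨θ, hθ⟩ := (bijective_ev hK M y).2 l.hom
  suffices H : evStalk S.X₁ M y θ ∈ LinearMap.range ((stL S.f y).lcomp
      ((CohB1.ProjSpace N k).presheaf.stalk y) (M.presheaf.stalk y)) by
    obtain ⟨c, hc⟩ := H
    exact ⟨ModuleCat.ofHom c, ModuleCat.hom_ext (hc.trans hθ)⟩
  have hmem : θ ∈ globSpan ((homF S.X₁).obj M) y :=
    ((ha m (le_max_left _ _)).1 y) ▸ Submodule.mem_top
  refine (?_ : globSpan ((homF S.X₁).obj M) y ≤ Submodule.comap (evStalk S.X₁ M y)
    (LinearMap.range ((stL S.f y).lcomp ((CohB1.ProjSpace N k).presheaf.stalk y) (M.presheaf.stalk y)))) hmem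
  rw [globSpan, Submodule.span_le]
  rintro _ ⟨σ, rfl⟩
  obtain ⟨χ, hχ⟩ := exists_extension hS (hm₀ m (le_max_right _ _)) (secHom σ)
  refine ⟨(stL ((unitT S.X₂).hom ≫ χ) y).comp
    ((stalkTensorEquiv (Coh.structureModule (CohB1.ProjSpace N k)) S.X₂ y).symm.toLinearMap.comp
      (TensorProduct.mk ((CohB1.ProjSpace N k).presheaf.stalk y) _ _ (oneGerm y))), LinearMap.ext fun t => ?_⟩
  refine Eq.trans ?_ (evStalk_germ_top σ y t).symm
  have e1 : (unitT S.X₁).hom ≫ secHom σ =
      tensWhisk (Coh.structureModule (CohB1.ProjSpace N k)) S.f ≫ (unitT S.X₂).hom ≫ χ := by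
    rw [← hχ, ← Category.assoc, ← Category.assoc, unitT_natural]
  rw [e1]
  exact (congrArg (stL ((unitT S.X₂).hom ≫ χ) y) (stalk_whisk S.f y (oneGerm y) t)).symm.trans
    (LinearMap.congr_fun (stL_comp (tensWhisk (Coh.structureModule (CohB1.ProjSpace N k)) S.f)
      ((unitT S.X₂).hom ≫ χ) y) _).symm

end Cover

include hG in
theorem neg_one_of_stalk [HasExt.{u} (CohB1.ProjSpace N k).Modules]
    (h : ∀ y : CohB1.ProjSpace N k, IsClosed ({y} : Set (CohB1.ProjSpace N k)) → StalkExtVanish 1 G y) :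
    ExtVanishNeg 1 G := by
  have := compactSpace (N := N) (k := k)
  have := SerrePn.isLocallyNoetherian (n := N) (R := k)
  obtain ⟨κ, hκ, d, π, hπ, -⟩ := SerrePn.exists_epi G hG 0
  have hE : Coh.IsCoh (∐ fun l => Twist.twistProjSpace N k (-(d l : ℤ))) :=
    SerrePn.isCoh_coprod _ fun l => SerrePn.isCoh_twist _
  have hK := CohDev.isCoh_kernel π hE hG.1
  let S := ShortComplex.mk (kernel.ι π) π (kernel.condition π)
  have hS : S.ShortExact := { exact := ShortComplex.exact_of_f_is_kernel _ (kernelIsKernel π) }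
  rw [extVanishNeg_iff]
  obtain ⟨a, ha⟩ := exists_good G hG
  obtain ⟨b, hb⟩ := exists_ext_locFree_vanish (isFinLocFree_twistSum (N := N) (k := k) d) (SerrePn.isCoh_twist (-((N : ℤ) + 1)))
  refine ⟨max a b, fun m hm => ?_⟩
  refine subsingleton_ext_one hS ((ext_tw_iff _ m 1).mp (hb m ((le_max_right _ _).trans hm) 1 one_pos))
    fun φ => ?_
  let M := twF (SerrePn.omega N k) m
  have hM : Coh.IsCoh M := isCoh_tw (SerrePn.isCoh_twist _) m
  -- push out the cover along `φ`
  let P : ShortComplex (CohB1.ProjSpace N k).Modules :=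
    ShortComplex.mk (pushout.inr S.f φ) (pushout.desc π 0 (by simp [S])) (pushout.inr_desc _ _ _)
  have hP : P.ShortExact := by
    refine { exact := ?_, mono_f := ?_, epi_g := ?_ }
    · refine ShortComplex.exact_of_g_is_cokernel _ (CokernelCofork.IsColimit.ofπ _ _
        (fun g hg => hS.exact.desc (pushout.inl S.f φ ≫ g) (by
          show kernel.ι π ≫ _ = 0
          rw [← Category.assoc, show kernel.ι π ≫ pushout.inl S.f φ = φ ≫ pushout.inr S.f φ from
            pushout.condition, Category.assoc, hg, comp_zero])) (fun g hg => ?_) (fun g hg g' hg' => ?_))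
      · refine pushout.hom_ext ?_ ?_
        · rw [pushout.inl_desc_assoc]
          exact hS.exact.g_desc _ _
        · exact (pushout.inr_desc_assoc _ _ _ _).trans (zero_comp.trans hg.symm)
      · refine (cancel_epi π).1 (Eq.trans ?_ (hS.exact.g_desc _ _).symm)
        rw [← hg', pushout.inl_desc_assoc]
    · have := hS.mono_f
      exact inferInstanceAs (Mono (pushout.inr S.f φ))
    · exact epi_of_epi_fac (pushout.inl_desc π 0 _)
  have hX₂ : Coh.IsCoh P.X₂ := CohDev.isCoh_of_shortExact hP hM hG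
  have hstalk : ∀ y : CohB1.ProjSpace N k, IsClosed ({y} : Set (CohB1.ProjSpace N k)) →
      Function.Surjective (stL ((homF G).map P.g) y) := fun y hy s => by
    have h1 := (stalkExt_iff 1 G m y).mp (h y hy)
    obtain ⟨z, hz⟩ := Ext.covariant_sequence_exact₃ _ (shortExact_stalk hP y)
      (Ext.mk₀ (ModuleCat.ofHom (evStalk G P.X₃ y s) :
        (DerSch.stalkFunctor (CohB1.ProjSpace N k) y).obj G ⟶ _)) (zero_add 1) (h1.elim _ _)
    obtain ⟨z, rfl⟩ := (Ext.mk₀_bijective _ _).2 z
    rw [Ext.mk₀_comp_mk₀] at hz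
    obtain ⟨w, hw⟩ := (bijective_ev hG P.X₂ y).2 z.hom
    refine ⟨w, (bijective_ev hG P.X₃ y).1 ?_⟩
    rw [evStalk_natural, hw]
    exact congrArg ModuleCat.Hom.hom ((Ext.mk₀_bijective _ _).1 hz)
  have : (homF G).Additive := (homAdj G).right_adjoint_additive
  have : PreservesFiniteLimits (homF G) :=
    ⟨fun K _ _ => ((homAdj G).rightAdjoint_preservesLimits.preservesLimitsOfShape : PreservesLimitsOfShape K _)⟩
  have hepi : Epi ((homF G).map P.g) := by
    refine Preadditive.epi_of_isZero_cokernel _ (isZero_of_closed_stalks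
      (CohDev.isCoh_cokernel _ (isCoh_homF hG hX₂).1 (isCoh_homF hG hG)) fun y hy => ?_)
    refine subsingleton_of_forall_eq 0 fun t => ?_
    obtain ⟨s, rfl⟩ := PullStalk.Exact.stalk_surjective (cokernel.π ((homF G).map P.g)) y t
    obtain ⟨w, rfl⟩ := hstalk y hy s
    refine (LinearMap.congr_fun (stL_comp ((homF G).map P.g) (cokernel.π ((homF G).map P.g)) y) w).symm.trans ?_
    rw [cokernel.condition]
    exact LinearMap.congr_fun (congrArg ModuleCat.Hom.hom ((DerSch.stalkFunctor (CohB1.ProjSpace N k) y).map_zero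
      ((homF G).obj P.X₂) (cokernel ((homF G).map P.g)))) w
  have : Mono P.f := hP.mono_f
  have hH : (P.map (homF G)).ShortExact :=
    { exact := ShortComplex.exact_of_f_is_kernel _ (KernelFork.mapIsLimit _ hP.exact.fIsKernel (homF G))
      mono_f := inferInstanceAs (Mono ((homF G).map P.f))
      epi_g := hepi }
  let u : Coh.structureModule (CohB1.ProjSpace N k) ⟶ (homF G).obj G :=
    (homAdj G).homEquiv _ _ (unitT G).hom
  obtain ⟨τ, hτ⟩ := surjective_app_top (k := k) hH (ha m ((le_max_left _ _).trans hm)).2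
    (Props.GenLocus.sec u ⊤)
  have hlift : Props.GenLocus.homOfSec τ ≫ (homF G).map P.g = u := by
    refine hom_unit_ext ?_
    show ((homF G).map P.g).app ⊤ (Props.GenLocus.sec (Props.GenLocus.homOfSec τ) ⊤) = _
    rw [sec_self]
    exact hτ
  have hs : secHom τ ≫ P.g = 𝟙 G := by
    refine (cancel_epi (unitT G).hom).mp (((homAdj G).homEquiv _ _).injective ?_)
    rw [← Category.assoc, Adjunction.homEquiv_naturality_right]
    exact ((congrArg (· ≫ (homF G).map P.g) (secHom_spec τ)).trans hlift).trans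
      (congrArg ((homAdj G).homEquiv (Coh.structureModule (CohB1.ProjSpace N k)) G)
        (Category.comp_id (unitT G).hom).symm)
  let sp := ShortComplex.Splitting.ofExactOfSection P hP.exact (secHom τ) hs hP.mono_f
  exact ⟨pushout.inl S.f φ ≫ sp.r, by
    rw [← Category.assoc, pushout.condition, Category.assoc]
    exact (congrArg (φ ≫ ·) sp.f_r).trans (Category.comp_id _)⟩

/-- `H^{N-j}(F(-m)) = 0` for `m ≫ 0` in terms of the stalks, through `Ext`. -/
theorem extVanishNeg_stalk [HasExt.{u} (CohB1.ProjSpace N k).Modules] : ∀ (j : ℕ)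
    (G : (CohB1.ProjSpace N k).Modules), Coh.IsCoh G →
      (ExtVanishNeg j G → ∀ y, StalkExtVanish j G y) ∧
      ((∀ y : CohB1.ProjSpace N k, IsClosed ({y} : Set (CohB1.ProjSpace N k)) → StalkExtVanish j G y) →
        ExtVanishNeg j G) := by
  intro j
  induction j with
  | zero => exact fun G hG => base_zero hG
  | succ j ih =>
    intro G hG
    have := SerrePn.isLocallyNoetherian (n := N) (R := k)
    obtain ⟨κ, hκ, d, π, hπ, -⟩ := SerrePn.exists_epi G hG 0
    have hE : Coh.IsCoh (∐ fun l => Twist.twistProjSpace N k (-(d l : ℤ))) :=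
      SerrePn.isCoh_coprod _ fun l => SerrePn.isCoh_twist _
    have hK := CohDev.isCoh_kernel π hE hG.1
    have hS : (ShortComplex.mk (kernel.ι π) π (kernel.condition π)).ShortExact :=
      { exact := ShortComplex.exact_of_f_is_kernel _ (kernelIsKernel π) }
    rcases j with _ | j
    · exact ⟨fun h y => stalk_one_of_neg hS hK (isFinLocFree_twistSum d) h y, neg_one_of_stalk hG⟩
    · obtain ⟨b, hb⟩ := exists_ext_locFree_vanish (isFinLocFree_twistSum (N := N) (k := k) d)
        (SerrePn.isCoh_twist (-((N : ℤ) + 1)))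
      have step : ∀ y, StalkExtVanish (j + 1 + 1) G y ↔ StalkExtVanish (j + 1) (kernel π) y := fun y => by
        have hp := projective_stalk (S := ShortComplex.mk (kernel.ι π) π (kernel.condition π))
          (isFinLocFree_twistSum d) y
        exact subsingleton_ext_X₃_iff (shortExact_stalk hS y) (j + 1)
          (@subsingleton_ext_projective _ _ _ _ _ _ hp _ (by omega))
          (@subsingleton_ext_projective _ _ _ _ _ _ hp _ (by omega))
      refine ⟨fun ⟨m₀, hm₀⟩ y => (step y).mpr ((ih _ hK).1 ⟨max m₀ b, fun m hm => ?_⟩ y),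
        fun h => ?_⟩
      · exact (subsingleton_ext_X₃_iff (shortExact_tw hS (-m)) (j + 1)
          (hb m ((le_max_right _ _).trans hm) _ (by omega)) (hb m ((le_max_right _ _).trans hm) _ (by omega))).mp
          (hm₀ m ((le_max_left _ _).trans hm))
      · obtain ⟨m₁, hm₁⟩ := (ih _ hK).2 fun y hy => (step y).mp (h y hy)
        exact ⟨max m₁ b, fun m hm => (subsingleton_ext_X₃_iff (shortExact_tw hS (-m)) (j + 1)
          (hb m ((le_max_right _ _).trans hm) _ (by omega)) (hb m ((le_max_right _ _).trans hm) _ (by omega))).mpr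
          (hm₁ m ((le_max_left _ _).trans hm))⟩

/-- Vanishing of the cohomology of negative twists in degree `i ≤ N` and `Ext` at stalks. -/
theorem vanish_iff_stalkExt {i j : ℕ} (hij : i + j = N) {F : (CohB1.ProjSpace N k).Modules}
    (hF : Coh.IsCoh F) :
    ((∃ m₀ : ℤ, ∀ m : ℤ, m₀ ≤ m → Subsingleton (Coh.HH (CohB1.ProjSpace N k) (twF F (-m)) i)) →
      ∀ y, StalkExtVanish j F y) ∧
    ((∀ y : CohB1.ProjSpace N k, IsClosed ({y} : Set (CohB1.ProjSpace N k)) → StalkExtVanish j F y) →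
      ∃ m₀ : ℤ, ∀ m : ℤ, m₀ ≤ m → Subsingleton (Coh.HH (CohB1.ProjSpace N k) (twF F (-m)) i)) := by
  have : HasExt.{u} (CohB1.ProjSpace N k).Modules := ModShf.schemeModulesHasExt _
  have e : ∀ m : ℤ, Subsingleton (Ext (twF F (-m)) (SerrePn.omega N k) j) ↔
      Subsingleton (Coh.HH (CohB1.ProjSpace N k) (twF F (-m)) i) := fun m => by
    obtain ⟨e⟩ := (SerrePn.dualAt j _ (isCoh_tw hF (-m))).1 (by omega)
    rw [show N - j = i by omega] at e
    exact e.toEquiv.subsingleton_congr.trans (Module.subsingleton_dual_iff k)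
  obtain ⟨h1, h2⟩ := extVanishNeg_stalk j F hF
  exact ⟨fun ⟨m₀, h⟩ => h1 ⟨m₀, fun m hm => (e m).mpr (h m hm)⟩,
    fun h => (h2 h).imp fun m₀ h' m hm => (e m).mp (h' m hm)⟩

end Groth.Agent.DualAbs
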