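import Groth.Agent.DualCx.GorNormal
import Groth.Agent.ExtVanish.Basic
import Mathlib.Algebra.Homology.DerivedCategory.Ext.Linear
import Mathlib.RingTheory.Ideal.MinimalPrime.Noetherian

/-!
# `Ext^c(M, A)` is torsion free at the grade
-/

universe u

open CategoryTheory CategoryTheory.Abelian IsLocalRing

noncomputable section

namespace Groth.Agent.DualAbs.GradeAss

set_option maxHeartbeats 800000

variable {A : Type u} [CommRing A]

theorem supportDim_add_one_le (M N : Type u) [AddCommGroup M] [Module A M] [AddCommGroup N] [Module A N]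
    (hsub : Module.support A N ⊆ Module.support A M) (y : A)
    (hy : ∀ P ∈ Module.support A M, (∀ Q ∈ Module.support A M, Q ≤ P → P ≤ Q) → y ∉ P.asIdeal)
    (hN : ∀ P ∈ Module.support A N, y ∈ P.asIdeal) :
    Module.supportDim A N + 1 ≤ Module.supportDim A M := by
  by_cases h0 : Nonempty (Module.support A N)
  swap
  · rw [show Module.supportDim A N = ⊥ from Order.krullDim_eq_bot_iff.2 (not_nonempty_iff.1 h0),
      WithBot.bot_add]
    exact bot_le
  have key : ∀ l : LTSeries (Module.support A N),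
      ((l.length + 1 : ℕ) : WithBot ℕ∞) ≤ Module.supportDim A M := fun l => by
    obtain ⟨Q, hQ, hlt⟩ : ∃ Q ∈ Module.support A M, Q < l.head.1 := by
      by_contra hc
      refine hy _ (hsub l.head.2) (fun Q hQ hle => ?_) (hN _ l.head.2)
      by_contra hge
      exact hc ⟨Q, hQ, lt_of_le_not_ge hle hge⟩
    refine le_of_eq_of_le ?_ (Order.LTSeries.length_le_krullDim ((l.map (fun P => (⟨P.1, hsub P.2⟩ : Module.support A M))
      fun a b h => h).cons ⟨Q, hQ⟩ hlt))
    show _ = ((0 + l.length + 1 : ℕ) : WithBot ℕ∞)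
    rw [zero_add]
  generalize hd : Module.supportDim A M = dM at key ⊢
  obtain ⟨l0⟩ : Nonempty (LTSeries (Module.support A N)) :=
    ⟨RelSeries.singleton _ h0.some⟩
  cases dM with
  | bot => exact absurd (le_bot_iff.1 (key l0)) (by simp)
  | coe dM =>
    cases dM with
    | top => exact le_top
    | coe m =>
      have : Module.supportDim A N ≤ ((m - 1 : ℕ) : WithBot ℕ∞) := by
        refine iSup_le fun l => ?_
        have h' : l.length + 1 ≤ m := by exact_mod_cast key l
        exact_mod_cast (show l.length ≤ m - 1 by omega)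
      refine (add_le_add this le_rfl).trans ?_
      have h1 : l0.length + 1 ≤ m := by exact_mod_cast key l0
      have h2 : ((m - 1 + 1 : ℕ) : WithBot ℕ∞) ≤ ((m : ℕ) : WithBot ℕ∞) :=
        Nat.cast_le.2 (show m - 1 + 1 ≤ m by omega)
      rw [Nat.cast_add] at h2
      exact h2

variable [LocCoh.IsGorensteinLocalRing A] {d : ℕ} (hd : ringKrullDim A = d)

include hd in
/-- Multiplication by an element avoiding the minimal primes of `M` is injective on `Ext^c(M, A)`. -/
theorem eq_zero_of_smul_eq_zero (M : Type u) [AddCommGroup M] [Module A M] [Module.Finite A M] {c : ℕ}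
    (hdim : Module.supportDim A M + c ≤ ringKrullDim A) (y : A)
    (hy : ∀ P ∈ Module.support A M, (∀ Q ∈ Module.support A M, Q ≤ P → P ≤ Q) → y ∉ P.asIdeal)
    (t : Ext.{u} (ModuleCat.of A M) (ModuleCat.of A A) c) (ht : y • t = 0) : t = 0 := by
  let φ : M →ₗ[A] M := y • LinearMap.id
  let I := LinearMap.range φ
  let K := LinearMap.ker φ
  have hvan : ∀ (N : Type u) [AddCommGroup N] [Module A N] [Module.Finite A N],
      Module.support A N ⊆ Module.support A M → (∀ x : N, y • x = 0) → ∀ q ≤ c,
      Subsingleton (Ext.{u} (ModuleCat.of A N) (ModuleCat.of A A) q) := fun N _ _ _ hsub hkill q hq => by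
    refine DualCx.GorNormal.subsingleton_ext hd N (c + 1) ?_ q (Nat.lt_succ_of_le hq)
    have h1 := supportDim_add_one_le M N hsub y hy fun P hP =>
      Module.annihilator_le_of_mem_support hP (Module.mem_annihilator.2 hkill)
    push_cast
    rw [add_comm (c : WithBot ℕ∞) 1, ← add_assoc]
    exact (add_le_add h1 le_rfl).trans hdim
  let g : ModuleCat.of A M ⟶ ModuleCat.of A I := ModuleCat.ofHom φ.rangeRestrict
  let i : ModuleCat.of A I ⟶ ModuleCat.of A M := ModuleCat.ofHom I.subtype
  have hS₁ : (ShortComplex.mk (ModuleCat.ofHom K.subtype) g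
      (ModuleCat.hom_ext (LinearMap.ext fun x => Subtype.ext (LinearMap.mem_ker.1 x.2)))).ShortExact :=
    { exact := (ShortComplex.moduleCat_exact_iff_range_eq_ker _).2 (by
        show LinearMap.range K.subtype = LinearMap.ker φ.rangeRestrict
        rw [Submodule.range_subtype, LinearMap.ker_rangeRestrict])
      mono_f := (ModuleCat.mono_iff_injective _).2 K.injective_subtype
      epi_g := (ModuleCat.epi_iff_surjective _).2 φ.surjective_rangeRestrict }
  have hS₂ : (ShortComplex.mk i (ModuleCat.ofHom I.mkQ)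
      (ModuleCat.hom_ext (LinearMap.ext fun x => (Submodule.Quotient.mk_eq_zero I).2 x.2))).ShortExact :=
    { exact := (ShortComplex.moduleCat_exact_iff_range_eq_ker _).2 (by
        show LinearMap.range I.subtype = LinearMap.ker I.mkQ
        rw [Submodule.range_subtype, Submodule.ker_mkQ])
      mono_f := (ModuleCat.mono_iff_injective _).2 I.injective_subtype
      epi_g := (ModuleCat.epi_iff_surjective _).2 I.mkQ_surjective }
  have hfac : g ≫ i = y • 𝟙 (ModuleCat.of A M) := ModuleCat.hom_ext (LinearMap.ext fun _ => rfl)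
  have h0 : (Ext.mk₀ g).comp ((Ext.mk₀ i).comp t (zero_add c)) (zero_add c) = 0 := by
    rw [Ext.mk₀_comp_mk₀_assoc, hfac, Ext.mk₀_smul, Ext.smul_comp, Ext.mk₀_id_comp, ht]
  have h1 : (Ext.mk₀ i).comp t (zero_add c) = 0 := by
    rcases Nat.eq_zero_or_pos c with rfl | hc
    · obtain ⟨f, hf⟩ := (Ext.mk₀_bijective _ _).2 ((Ext.mk₀ i).comp t (zero_add 0))
      rw [← hf] at h0 ⊢
      rw [Ext.mk₀_comp_mk₀] at h0
      have : Epi g := hS₁.epi_g
      have h2 : g ≫ f = 0 := (Ext.mk₀_bijective _ _).1 (h0.trans (by rw [Ext.mk₀_zero]))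
      rw [show f = 0 from (cancel_epi g).1 (h2.trans Limits.comp_zero.symm), Ext.mk₀_zero]
    · obtain ⟨c', rfl⟩ : ∃ c', c = c' + 1 := ⟨c - 1, by omega⟩
      obtain ⟨z, hz⟩ := Ext.contravariant_sequence_exact₃ hS₁ _ _ h0 (add_comm 1 c')
      have := hvan K (Module.support_subset_of_injective K.subtype K.injective_subtype)
        (fun x => Subtype.ext (LinearMap.mem_ker.1 x.2)) c' (Nat.le_succ _)
      rw [← hz, Subsingleton.elim (α := Ext.{u} (ModuleCat.of A K) (ModuleCat.of A A) c') z 0,
        Ext.comp_zero]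
  obtain ⟨z, hz⟩ := Ext.contravariant_sequence_exact₂ hS₂ _ t h1
  have := hvan (M ⧸ I) (Module.support_subset_of_surjective I.mkQ I.mkQ_surjective) (fun x => by
    obtain ⟨x, rfl⟩ := I.mkQ_surjective x
    rw [← map_smul]
    exact (Submodule.Quotient.mk_eq_zero I).2 ⟨x, rfl⟩) c le_rfl
  rw [← hz, Subsingleton.elim (α := Ext.{u} (ModuleCat.of A (M ⧸ I)) (ModuleCat.of A A) c) z 0,
    Ext.comp_zero]

end Groth.Agent.DualAbs.GradeAss
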