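import Groth.Agent.DualAbs.HypChi
import Groth.Agent.AmpleLib.Tensor
import Groth.Agent.AmpleLib.GenIso
import Groth.Agent.AmpleLib.Locus
import Groth.Agent.NegVan.Twist

/-!
# Lefschetz for the Hodge cohomology of a sufficiently ample divisor
-/

set_option autoImplicit false
set_option linter.style.haveILetI false
set_option maxHeartbeats 800000

universe u

open CategoryTheory CategoryTheory.Limits AlgebraicGeometry

noncomputable section

namespace Groth.Agent.DualAbs.HodgeLef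

open Groth.Agent.PullStalk.Exact Groth.Agent.Omega.Stalks

theorem nonempty_pow_one {X : Scheme.{u}} : ∀ t : ℕ,
    Nonempty (CohB1.tensorPow (Coh.structureModule X) t ≅ Coh.structureModule X)
  | 0 => ⟨Iso.refl _⟩
  | t + 1 => (nonempty_pow_one t).elim fun e =>
      ⟨ProjTwist.tensCongr e (Iso.refl _) ≪≫ ProjTwist.oneTens _⟩

/-- Powers of an inverse. -/
theorem isInverseOf_pow {X : Scheme.{u}} {L M : X.Modules} (hL : PicF.IsInvertible L) (hM : PicF.IsInvertible M)
    {d : ℕ} (h : ClSub.IsInverseOf M (CohB1.tensorPow L d)) (t : ℕ) :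
    ClSub.IsInverseOf (CohB1.tensorPow M t) (CohB1.tensorPow L (d * t)) := by
  obtain ⟨e⟩ := h
  obtain ⟨φ, -⟩ := AmpleLib.exists_iso_tensorPow_tensor hM (AmpleLib.isInvertible_tensorPow hL d) t
  obtain ⟨ψ, -⟩ := AmpleLib.exists_iso_tensorPow_mul hL d t
  obtain ⟨o⟩ := nonempty_pow_one (X := X) t
  exact ⟨ProjTwist.tensCongr (Iso.refl _) ψ.symm ≪≫ φ ≪≫ AmpleLib.tensorPowIso e t ≪≫ o⟩

variable {k : Type u} [Field k] {X : Scheme.{u}} [X.Over (Spec (CommRingCat.of k))]
  [IsProper (X ↘ Spec (CommRingCat.of k))] {Z : Scheme.{u}} [Z.Over (Spec (CommRingCat.of k))]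
  (ι : Z ⟶ X) [IsClosedImmersion ι]
  (w : ι ≫ (X ↘ Spec (CommRingCat.of k)) = Z ↘ Spec (CommRingCat.of k))
  {n : ℕ} [SmoothOfRelativeDimension (n + 1) (X ↘ Spec (CommRingCat.of k))]
  [SmoothOfRelativeDimension n (ι ≫ (X ↘ Spec (CommRingCat.of k)))]
  {M : X.Modules} (hMi : PicF.IsInvertible M) (eJ : ClSub.idealMod ι.ker ≅ M)
  (hvan : ∀ t : ℕ, 1 ≤ t → ∀ p q : ℕ, p + q ≤ n → ∀ E : X.Modules,
    ExtPow.IsExtPow p (Omega.sheaf (X ↘ Spec (CommRingCat.of k))) E →
      Subsingleton (Coh.HH X (CohB1.tensorMod (CohB1.tensorPow M t) E) q))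

include w hMi eJ hvan in
/-- The two statements, by induction on the degree of the forms. -/
theorem lefschetz : ∀ (p : ℕ) (F : Z.Modules),
    ExtPow.IsExtPow p (Omega.sheaf (ι ≫ (X ↘ Spec (CommRingCat.of k)))) F →
    ∀ E : X.Modules, ExtPow.IsExtPow p (Omega.sheaf (X ↘ Spec (CommRingCat.of k))) E →
    ∀ t j : ℕ, j + p + 1 ≤ n →
      Module.finrank k (Coh.HH Z (CohB1.tensorMod ((Scheme.Modules.pullback ι).obj (CohB1.tensorPow M t)) F) j) =
        if t = 0 then Module.finrank k (Coh.HH X E j) else 0 := by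
  haveI := EulerChar.isLocallyNoetherian k (X := X)
  haveI := EulerChar.isNoetherian k (X := X)
  haveI : IsProper (Z ↘ Spec (CommRingCat.of k)) := by rw [← w]; infer_instance
  haveI := EulerChar.isLocallyNoetherian k (X := Z)
  haveI := EulerChar.isNoetherian k (X := Z)
  let g := X ↘ Spec (CommRingCat.of k)
  haveI : QuasiSeparated g := inferInstance
  haveI : QuasiSeparated (ι ≫ g) := inferInstance
  have cΩ : Coh.IsCoh (Omega.sheaf g) := VBLib.isCoh_of_ofRank (CanonTriv.isFinLocFreeOfRank_omega g (n + 1))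
  haveI := cΩ.1
  have cW : Coh.IsCoh (Omega.sheaf (ι ≫ g)) :=
    VBLib.isCoh_of_ofRank (CanonTriv.isFinLocFreeOfRank_omega (ι ≫ g) n)
  haveI := cW.1
  have hbX := SmoothImm.exists_basis_omega g (n + 1)
  have hPi : ∀ t, PicF.IsInvertible (CohB1.tensorPow M t) := AmpleLib.isInvertible_tensorPow hMi
  let N : ℕ → Z.Modules := fun t => (Scheme.Modules.pullback ι).obj (CohB1.tensorPow M t)
  have hNi : ∀ t, PicF.IsInvertible (N t) := fun t => PicCl.isInvertible_pullback ι (hPi t)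
  have hNs : ∀ t, Nonempty (CohB1.tensorMod (N t) (Omega.conormal ι) ≅ N (t + 1)) := fun t =>
    ⟨ProjTwist.tensCongr (Iso.refl _) ((Scheme.Modules.pullback ι).mapIso eJ) ≪≫
      (KFlat.PullTensor.pullTensorIso ι (CohB1.tensorPow M t) M).symm⟩
  -- restriction to the divisor
  have key : ∀ (p : ℕ) (E : X.Modules), ExtPow.IsExtPow p (Omega.sheaf g) E → ∀ t j : ℕ, j + p + 1 ≤ n →
      Module.finrank k (Coh.HH Z (CohB1.tensorMod (N t) ((Scheme.Modules.pullback ι).obj E)) j) =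
        if t = 0 then Module.finrank k (Coh.HH X E j) else 0 := by
    intro p E hE t j hj
    have cE : Coh.IsCoh E := ExtPowSt.isCoh ⟨hE.choose, hE.choose_spec⟩ cΩ
    have fE : FlatMod.IsFinLocFree E := WedgePair.isFinLocFree ⟨hE.choose, hE.choose_spec⟩ cΩ hbX
    have hV := fun t => ProjTwist.isFinLocFreeOfRank_one (hPi t)
    have hS := CohDev.tens_shortExact (hV t) (HypChi.shortExact_tensR fE (EulerChar.shortExact_ideal ι.ker))
    let f₁ : CohB1.tensorMod (CohB1.tensorPow M t) (CohB1.tensorMod (ClSub.idealMod ι.ker) E) ≅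
        CohB1.tensorMod (CohB1.tensorPow M (t + 1)) E :=
      ProjTwist.tensCongr (Iso.refl _) (ProjTwist.tensCongr eJ (Iso.refl E)) ≪≫
        (ProjTwist.tensAssoc (CohB1.tensorPow M t) M E).symm
    let f₂ : CohB1.tensorMod (CohB1.tensorPow M t) (CohB1.tensorMod (Coh.structureModule X) E) ≅
        CohB1.tensorMod (CohB1.tensorPow M t) E :=
      ProjTwist.tensCongr (Iso.refl _) (ProjTwist.oneTens E)
    obtain ⟨q₁⟩ := HypChi.nonempty_quot_tensor' ι (CohB1.tensorPow M t) E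
    obtain ⟨q₂⟩ := HypChi.nonempty_quot_tensor ι (CohB1.tensorMod (CohB1.tensorPow M t) E)
    obtain ⟨f₄⟩ : Nonempty (CohB1.tensorMod ((Scheme.Modules.pullback ι).obj (CohB1.tensorMod (CohB1.tensorPow M t) E))
        (Coh.structureModule Z) ≅ CohB1.tensorMod (N t) ((Scheme.Modules.pullback ι).obj E)) :=
      HypChi.nonempty_pull_tensor ι (CohB1.tensorPow M t) E
    have c₄ : Coh.IsCoh (CohB1.tensorMod ((Scheme.Modules.pullback ι).obj (CohB1.tensorMod (CohB1.tensorPow M t) E))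
        (Coh.structureModule Z)) :=
      CohDev.isCoh_of_iso (ProjTwist.tensOne _).symm
        (ZClosLib.CohDescent.isCoh_pullback ι _ (CohDev.isCoh_tens (hV t) cE))
    haveI := c₄.1
    obtain ⟨r, s, b, r0, hr⟩ := CICoh.exists_ranks (k := k) hS
      (CohDev.isCoh_of_iso f₁.symm (CohDev.isCoh_tens (hV (t + 1)) cE))
      (CohDev.isCoh_of_iso f₂.symm (CohDev.isCoh_tens (hV t) cE))
      (CohDev.isCoh_of_iso (q₁ ≪≫ q₂).symm (CycLib.isCoh_push _ ι c₄))
    have z1 : ∀ i, p + i ≤ n → r i + s i = 0 := fun i hi => by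
      haveI := hvan (t + 1) (by omega) p i hi E hE
      exact ((SurfRR.hhEquiv k f₁ i).finrank_eq.symm.trans (hr i).1).symm.trans Module.finrank_zero_of_subsingleton
    have h2 : Module.finrank k (Coh.HH X (CohB1.tensorMod (CohB1.tensorPow M t) E) j) = s j + b j :=
      (SurfRR.hhEquiv k f₂ j).finrank_eq.symm.trans (hr j).2.1
    obtain ⟨e'⟩ := EulerChar.nonempty_pushEquiv (A := k) ι w _ c₄.1 j
    have h3 : Module.finrank k (Coh.HH Z (CohB1.tensorMod (N t) ((Scheme.Modules.pullback ι).obj E)) j) =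
        b j + r (j + 1) :=
      ((SurfRR.hhEquiv k (q₁ ≪≫ q₂) j ≪≫ₗ e' ≪≫ₗ SurfRR.hhEquiv k f₄ j).finrank_eq).symm.trans (hr j).2.2
    have := z1 j (by omega)
    have := z1 (j + 1) (by omega)
    cases t with
    | zero =>
      have h2' : Module.finrank k (Coh.HH X E j) = s j + b j :=
        (SurfRR.hhEquiv k (ProjTwist.oneTens E).symm j).finrank_eq.trans h2
      rw [if_pos rfl]
      omega
    | succ t =>
      haveI := hvan (t + 1) (by omega) p j (by omega) E hE
      rw [Module.finrank_zero_of_subsingleton] at h2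
      rw [if_neg (Nat.succ_ne_zero t)]
      omega
  obtain ⟨f, c, hi, hs, he⟩ := SmoothImm.exists_seq g ι (n + 1) n
  have hb := SmoothImm.exists_basis_omega (ι ≫ g) n
  have hAi : PicF.IsInvertible (Omega.conormal ι) :=
    PicCl.isInvertible_pullback ι (PicCl.isInvertible_of_iso eJ.symm hMi)
  haveI : (Omega.conormal ι).IsQuasicoherent := ProjTwist.isQCoh_of_isInvertible hAi
  have cP : Coh.IsCoh ((Scheme.Modules.pullback ι).obj (Omega.sheaf g)) :=
    ZClosLib.CohDescent.isCoh_pullback ι _ cΩ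
  haveI := cP.1
  intro p
  induction p with
  | zero =>
    intro F hF E hE t j hj
    obtain ⟨e⟩ := S3203.extPow_iso hF (S3203.isExtPow_zero _)
    obtain ⟨e'⟩ := S3203.extPow_iso hE (S3203.isExtPow_zero _)
    exact (SurfRR.hhEquiv k (ProjTwist.tensCongr (Iso.refl (N t))
      (e ≪≫ (QCoh.pullbackUnitIso ι).symm ≪≫ (Scheme.Modules.pullback ι).mapIso e'.symm)) j).finrank_eq.trans
        (key 0 E hE t j hj)
  | succ p ih =>
    intro L₁ hL₁ E hE t j hj
    rw [add_comm p 1] at hL₁ hE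
    obtain ⟨L'', hL''⟩ := ExtPowSt.Exists.exists_isExtPow p (Omega.sheaf (ι ≫ g))
    obtain ⟨E'', hE''⟩ := ExtPowSt.Exists.exists_isExtPow p (Omega.sheaf g)
    have hLE := ExtPowSt.Pullback.isExtPow_pullback ι hE
    obtain ⟨T, hT, ⟨e₁⟩, ⟨e₂⟩, ⟨e₃⟩⟩ := CIHodge.exists_wedge_sub f c hi hs he
      (PnTop.exists_basis_invertible hAi) hb hLE hL'' hL₁
    have hV := fun t => ProjTwist.isFinLocFreeOfRank_one (hNi t)
    obtain ⟨r, s, b, r0, hr⟩ := CICoh.exists_ranks (k := k) (CohDev.tens_shortExact (hV t) hT)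
      (CohDev.isCoh_tens (hV t) (CohDev.isCoh_of_iso e₁.symm (CohDev.isCoh_tens
        (ProjTwist.isFinLocFreeOfRank_one hAi) (ExtPowSt.isCoh ⟨hL''.choose, hL''.choose_spec⟩ cW))))
      (CohDev.isCoh_tens (hV t) (CohDev.isCoh_of_iso e₂.symm (ExtPowSt.isCoh ⟨hLE.choose, hLE.choose_spec⟩ cP)))
      (CohDev.isCoh_tens (hV t) (CohDev.isCoh_of_iso e₃.symm (ExtPowSt.isCoh ⟨hL₁.choose, hL₁.choose_spec⟩ cW)))
    obtain ⟨en⟩ := hNs t
    let g₁ : CohB1.tensorMod (N t) T.X₁ ≅ CohB1.tensorMod (N (t + 1)) L'' :=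
      ProjTwist.tensCongr (Iso.refl _) e₁ ≪≫ (ProjTwist.tensAssoc (N t) (Omega.conormal ι) L'').symm ≪≫
        ProjTwist.tensCongr en (Iso.refl L'')
    have h1 : ∀ i, i + p + 1 ≤ n → r i + s i = 0 := fun i hi' =>
      ((SurfRR.hhEquiv k g₁ i).finrank_eq.symm.trans (hr i).1).symm.trans
        ((ih L'' hL'' E'' hE'' (t + 1) i hi').trans (if_neg (Nat.succ_ne_zero t)))
    have h2 : s j + b j = if t = 0 then Module.finrank k (Coh.HH X E j) else 0 :=
      (((SurfRR.hhEquiv k (ProjTwist.tensCongr (Iso.refl (N t)) e₂) j).finrank_eq.symm.trans (hr j).2.1).symm).trans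
        (key (1 + p) E hE t j (by omega))
    have h3 : Module.finrank k (Coh.HH Z (CohB1.tensorMod (N t) L₁) j) = b j + r (j + 1) :=
      (SurfRR.hhEquiv k (ProjTwist.tensCongr (Iso.refl (N t)) e₃) j).finrank_eq.symm.trans (hr j).2.2
    have := h1 j (by omega)
    have := h1 (j + 1) (by omega)
    rw [h3, ← h2]
    omega

include w hMi eJ hvan in
theorem finrank_eq {p j : ℕ} (h : p + j + 1 ≤ n) {F : Z.Modules}
    (hF : ExtPow.IsExtPow p (Omega.sheaf (ι ≫ (X ↘ Spec (CommRingCat.of k)))) F) {E : X.Modules}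
    (hE : ExtPow.IsExtPow p (Omega.sheaf (X ↘ Spec (CommRingCat.of k))) E) :
    Module.finrank k (Coh.HH Z F j) = Module.finrank k (Coh.HH X E j) := by
  refine ((SurfRR.hhEquiv k ((ProjTwist.oneTens F).symm ≪≫
    ProjTwist.tensCongr (QCoh.pullbackUnitIso ι).symm (Iso.refl F)) j).finrank_eq).trans ?_
  exact (lefschetz ι w hMi eJ hvan p F hF E hE 0 j (by omega)).trans (if_pos rfl)

end Groth.Agent.DualAbs.HodgeLef
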