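import Groth.Agent.DualAbs.HodgeLef
import Groth.Agent.Omega.LocalStructure
import Groth.Agent.CartDiv.Difference
import Groth.Agent.ZeroSchemeLib.Basic
import Groth.Agent.S2330
import Groth.Agent.ProperFin.PnBase
import Groth.Agent.ProjProper.Basic

/-!
# The Hodge Lefschetz inequalities for zero schemes of sections
-/

set_option autoImplicit false
set_option linter.style.haveILetI false
set_option maxHeartbeats 800000

universe u

open CategoryTheory CategoryTheory.Limits AlgebraicGeometry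

noncomputable section

namespace Groth.Agent.DualAbs.HodgeLefSec

section Zero

open Opposite TopologicalSpace Groth.Agent.QCoh Groth.Agent.Props.GenLocus Groth.Agent.Props.GenTensor

/-- A nonzero section of an invertible module generates somewhere. -/
theorem genLocus_nonempty_of_mono {Y : Scheme.{u}} [IsIntegral Y] {M : Y.Modules}
    (hM : PicF.IsInvertible M) (s : Coh.structureModule Y ⟶ M) [Mono s] :
    (CohB1.genLocus M s : Set Y).Nonempty := by
  obtain ⟨W, e₀, hW, he₀⟩ := exists_isGen hM (genericPoint Y)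
  obtain ⟨f, hf, -⟩ := he₀.exists_eq le_rfl (sec s W)
  rw [res_self] at hf
  refine ⟨genericPoint Y, ?_⟩
  have := genLocus_inf he₀ s hf
  suffices h : genericPoint Y ∈ Y.basicOpen f from (this.ge h).1
  rw [Y.mem_basicOpen f _ hW]
  refine (isUnit_iff_ne_zero (G₀ := Y.functionField)).mpr fun h0 => ?_
  have hW' : Nonempty W := ⟨⟨_, hW⟩⟩
  have hf0 : f = 0 := germ_injective_of_isIntegral Y _ hW (h0.trans (map_zero _).symm)
  subst hf0
  have hinj : Function.Injective (s.app W) := by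
    have : Mono ((Scheme.Modules.toPresheaf Y).map s) := inferInstance
    have := (NatTrans.mono_iff_mono_app _).mp this (op W)
    exact (AddCommGrpCat.mono_iff_injective _).mp this
  have h10 : (1 : Γ(Y, W)) = 0 :=
    hinj ((hf.trans (zero_smul _ _)).trans (map_zero _).symm)
  exact zero_ne_one h10.symm


/-- The ideal of the zero scheme of a section is the inverse module. -/
theorem nonempty_zeroScheme_inv {X : Scheme.{u}} [IsIntegral X] {L : X.Modules} (hL : PicF.IsInvertible L)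
    (s : Coh.structureModule X ⟶ L) [Mono s] :
    Nonempty (CohB1.tensorMod L (ClSub.idealMod (PicF2.zeroScheme L s)) ≅ Coh.structureModule X) := by
  have hne := genLocus_nonempty_of_mono hL s
  have hs : ∀ x : X, ∃ z : X, z ⤳ x ∧ z ∈ CohB1.genLocus L s := fun x =>
    ⟨genericPoint X, genericPoint_specializes x,
      ((genericPoint_spec X).mem_open_set_iff (CohB1.genLocus L s).2).2 (by simpa using hne)⟩
  let D := PicF2.zeroScheme L s
  have hregr : ∀ (V : X.Opens) (U : X.Opens) (h : V ≤ U) (e : Γ(L, U)), IsGen L U e → ∀ f : Γ(X, U),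
      sec s U = f • e → rres h f ∈ nonZeroDivisors Γ(X, V) := by
    intro V U h e he f hf
    refine IdealSh.Regular.mem_nonZeroDivisors_of_germ fun x hx => mem_nonZeroDivisors_of_ne_zero fun h0 => ?_
    rw [show X.presheaf.germ V x hx (rres h f) = X.presheaf.germ U x (h hx) f from
      X.presheaf.germ_res_apply _ x hx f] at h0
    obtain ⟨z, hzx, hz⟩ := hs x
    have hzU : z ∈ U := hzx.mem_open U.isOpen (h hx)
    have hzb : z ∈ X.basicOpen f := by rw [← genLocus_inf he s hf]; exact ⟨hz, hzU⟩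
    have hu := (Scheme.mem_basicOpen _ _ z hzU).mp hzb
    have h2 := congrArg (X.presheaf.stalkSpecializes hzx) h0
    rw [TopCat.Presheaf.germ_stalkSpecializes_apply, map_zero] at h2
    rw [h2] at hu
    exact not_isUnit_zero hu
  have loc : ∀ x : X, ∃ (U : X.affineOpens) (e : Γ(L, U.1)) (f : Γ(X, U.1)) (σ : Γ(ClSub.idealMod D, U.1)),
      x ∈ U.1 ∧ IsGen L U.1 e ∧ sec s U.1 = f • e ∧ IsGen (ClSub.idealMod D) U.1 σ ∧
      OmegaSh.idealSect D U.1 σ = f ∧ f ∈ nonZeroDivisors Γ(X, U.1) ∧ D.ideal U = Ideal.span {f} := by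
    intro x
    obtain ⟨W, e0, hxW, he0⟩ := exists_isGen hL x
    obtain ⟨U, hU, hxU, hle⟩ := exists_isAffineOpen_mem_and_subset (show x ∈ W from hxW)
    have he := he0.restrict hle
    obtain ⟨f, hf, -⟩ := he.exists_eq (le_refl U) (sec s U)
    rw [res_self] at hf
    have hid := Groth.Agent.ZeroSchemeLib.zeroScheme_ideal_eq_span hL s ⟨U, hU⟩ he (f := f) hf
    have hnz : f ∈ nonZeroDivisors Γ(X, U) := by
      have := hregr U U le_rfl _ he f hf
      rwa [show rres (le_refl U) f = f from by simp [rres]] at this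
    obtain ⟨σ, hσ, hσf⟩ := Groth.Agent.CartDiv.Difference.exists_isGen_ideal D (U := ⟨U, hU⟩) hnz hid
    exact ⟨⟨U, hU⟩, _, f, σ, hxU, he, hf, hσ, hσf, hnz, hid⟩
  choose U e f σ hxU he hf hσ hσf hnz hid using loc
  have hD : BlowUp.IsEffCartierIdeal D := fun x => ⟨U x, hxU x, f x, hnz x, hid x⟩
  show Nonempty (CohB1.tensorMod L (ClSub.idealMod D) ≅ Coh.structureModule X)
  refine PicLaw.nonempty_iso_of_transition (fun x => (U x).1) (fun x => ⟨x, hxU x⟩)
    (fun x => tmul (e x) (σ x)) (fun x => isGen_tmul (he x) (hσ x))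
    (fun x => one' (U x).1) (fun x => Groth.Agent.Props.GenTensor.isGen_one _) ?_
  intro i j V hi hj
  obtain ⟨c, hc, -⟩ := (he i).exists_eq hi (res L hj (e j))
  obtain ⟨d, hd, -⟩ := (hσ i).exists_eq hi (res (ClSub.idealMod D) hj (σ j))
  have h1 : rres hi (f i) = rres hj (f j) * c := by
    refine (he i).injective hi ?_
    rw [← res_smul, ← hf i, sec_res, ← sec_res s hj, hf j, res_smul, hc, smul_smul]
  have h2 : rres hj (f j) = d * rres hi (f i) := by
    have h := congrArg (OmegaSh.idealSect D V) hd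
    rw [Omega.Stalks.idealSect_smul] at h
    rw [show OmegaSh.idealSect D V (res (ClSub.idealMod D) hj (σ j)) =
        rres hj (OmegaSh.idealSect D (U j).1 (σ j)) from Omega.Stalks.idealSect_map D _ _,
      show OmegaSh.idealSect D V (res (ClSub.idealMod D) hi (σ i)) =
        rres hi (OmegaSh.idealSect D (U i).1 (σ i)) from Omega.Stalks.idealSect_map D _ _, hσf, hσf] at h
    exact h
  have hcd : c * d = 1 := by
    have hn := hregr V (U i).1 hi _ (he i) (f i) (hf i)
    refine ((mul_cancel_right_mem_nonZeroDivisors hn).mp ?_)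
    rw [one_mul]
    calc c * d * rres hi (f i) = rres hj (f j) * c := by rw [h2]; ring
      _ = _ := h1.symm
  refine ⟨1, ?_, ?_⟩
  · rw [res_tmul, res_tmul, hc, hd, tmul_smul_left, tmul_smul_right, smul_smul, hcd]
  · rw [one_smul, PicLaw.res_one', PicLaw.res_one']

end Zero

theorem isFinLocFree_omega {X S : Scheme.{u}} (f : X ⟶ S) [Smooth f] [QuasiSeparated f] :
    FlatMod.IsFinLocFree (Omega.sheaf f) := by
  refine Omega.LocalStructure.isFinLocFree_of_smooth
    (Omega.DiagUniv.isUniversal_dOmega f) fun {U} hU {V} hV e => ?_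
  let := (f.appLE U V e).hom.toAlgebra
  have h : (f.appLE U V e).hom.Smooth :=
    HasRingHomProperty.appLE @Smooth f inferInstance ⟨U, hU⟩ ⟨V, hV⟩ e
  haveI : Algebra.Smooth Γ(S, U) Γ(X, V) := RingHom.smooth_algebraMap.1 h
  exact ⟨inferInstance, inferInstance⟩

theorem exists_embedding {k : Type u} [Field k] {X : Scheme.{u}} [X.Over (Spec (CommRingCat.of k))]
    [IsProper (X ↘ Spec (CommRingCat.of k))] {H : X.Modules} (hH : CohB1.IsAmple H) :
    ∃ (n : ℕ) (i : X ⟶ CohB1.ProjSpace n k), IsClosedImmersion i ∧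
      i ≫ CohB1.ProjSpace.toSpec n k = X ↘ Spec (CommRingCat.of k) := by
  obtain ⟨a, ha, n, i, hi, hif, ⟨eH⟩⟩ :=
    (S2330.result (X ↘ Spec (CommRingCat.of k)) H hH.1).1.mp hH
  let φ : ULift.{u} ℤ →+* k := (Int.castRingHom k).comp (ULift.ringEquiv.toRingHom)
  have h : IsPullback (ProperFin.pnMap n φ) (CohB1.ProjSpace.toSpec n k)
      (CohB1.ProjSpace.toSpec n (ULift.{u} ℤ))
      (specULiftZIsTerminal.from (Spec (CommRingCat.of k))) := by
    rw [show specULiftZIsTerminal.from (Spec (CommRingCat.of k)) =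
      Spec.map (CommRingCat.ofHom φ) from specULiftZIsTerminal.hom_ext _ _]
    exact ProperFin.isPullback_pnMap n φ
  haveI := hi
  let e : CohB1.ProjSpaceOver n (Spec (CommRingCat.of k)) ⟶ CohB1.ProjSpace n k :=
    h.isoPullback.inv
  haveI : IsIso e := inferInstanceAs (IsIso h.isoPullback.inv)
  have he1 : e ≫ ProperFin.pnMap n φ = pullback.fst _ _ := h.isoPullback_inv_fst
  have he2 : e ≫ CohB1.ProjSpace.toSpec n k = pullback.snd _ _ := h.isoPullback_inv_snd
  let j := i ≫ e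
  have hw : j ≫ CohB1.ProjSpace.toSpec n k = X ↘ Spec (CommRingCat.of k) := by
    rw [Category.assoc, he2]
    exact hif
  haveI := ProjProper.Basic.isProper_toSpec n k
  haveI : IsProper (j ≫ CohB1.ProjSpace.toSpec n k) := by rw [hw]; infer_instance
  haveI : IsProper j := IsProper.of_comp j (CohB1.ProjSpace.toSpec n k)
  exact ⟨n, j, .of_isPreimmersion j j.isClosedMap.isClosed_range, hw⟩

open Groth.Agent.PullStalk.Exact Groth.Agent.Omega.Stalks Groth.Agent.ExtPowSt
  Groth.Agent.ExtFilt.Sheaf Groth.Agent.ExtFilt.Stalkwise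

variable {X : Scheme.{u}}

theorem exists_wedge_sub {p : ℕ} {A E W L L'' L₁ : X.Modules} [A.IsQuasicoherent] [E.IsQuasicoherent]
    [W.IsQuasicoherent] (f : A ⟶ E) (g : E ⟶ W) (hi : ∀ x, Function.Injective (stalkLin f x))
    (hs : ∀ x, Function.Surjective (stalkLin g x)) (he : ∀ x, Function.Exact (stalkLin f x) (stalkLin g x))
    (hA : ∀ x, Nonempty (Module.Basis (Fin 1) (X.presheaf.stalk x) (A.presheaf.stalk x)))
    (hp : ∀ x, Module.Projective (X.presheaf.stalk x) (W.presheaf.stalk x))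
    (hL : ExtPow.IsExtPow (1 + p) E L) (hL'' : ExtPow.IsExtPow p W L'') (hL₁ : ExtPow.IsExtPow (1 + p) W L₁) :
    ∃ T : ShortComplex X.Modules, T.ShortExact ∧ Nonempty (T.X₁ ≅ CohB1.tensorMod A L'') ∧
      Nonempty (T.X₂ ≅ L) ∧ Nonempty (T.X₃ ≅ L₁) := by
  let Φ : Sys (1 + p) E L := ⟨hL.choose, hL.choose_spec⟩
  have h1 := S3203.isExtPow_one (X := X) A
  obtain ⟨T, hT, t₁, t₂, t₃⟩ := ExtFilt.Sheaf.exists_shortExact (f := f) (g := g) (i := 1) (j := p)
    ⟨h1.choose, h1.choose_spec⟩ Φ ⟨hL''.choose, hL''.choose_spec⟩ hi hs he hp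
  have hQ1 : ∀ {n : ℕ} {L L₁ : X.Modules} (Φ : Sys n E L) (_ : ExtPow.IsExtPow n W L₁),
      Nonempty (ExtFilt.Sheaf.Q Φ f 1 ≅ L₁) := by
    intro n L L₁ Φ hL₁
    obtain ⟨j, rfl⟩ : ∃ j, n = 0 + j := ⟨n, (zero_add n).symm⟩
    rw [zero_add] at hL₁
    have h0 := S3203.isExtPow_zero (X := X) A
    obtain ⟨U, hU, u₁, u₂, u₃⟩ := ExtFilt.Sheaf.exists_shortExact (f := f) (g := g) (i := 0) (j := j)
      ⟨h0.choose, h0.choose_spec⟩ Φ ⟨hL₁.choose, hL₁.choose_spec⟩ hi hs he hp
    have hz : IsZero U.X₃ := u₃ ▸ DualAbs.isZero_of_stalks fun x =>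
      subsingleton_of_forall_eq 0 (Q_zero_eq_zero Φ f x)
    haveI := hU.isIso_f_iff.2 hz
    exact ⟨(eqToIso u₂).symm ≪≫ (asIso U.f).symm ≪≫ eqToIso u₁ ≪≫ KFlat.TensorLocFree.unitTensorIso L₁⟩
  obtain ⟨e₃⟩ := hQ1 Φ hL₁
  haveI : IsIso (quotπ (St Φ f (1 + 1))) := isIso_of_stalk fun x => ⟨LinearMap.ker_eq_bot.1 (by
    rw [ker_π, St, DetSeq.Fil_succ_eq_bot (stalkLin f x) (hA x).some (1 + p), Submodule.comap_bot,
      LinearEquiv.ker]), quotπ_surjective _ x⟩
  exact ⟨T, hT, ⟨eqToIso t₁⟩, ⟨eqToIso t₂ ≪≫ (asIso (quotπ (St Φ f (1 + 1)))).symm⟩, ⟨eqToIso t₃ ≪≫ e₃⟩⟩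


/-- The conormal sequence of a smooth closed subscheme. -/
theorem exists_seq' {P X S : Scheme.{u}} (g : P ⟶ S) (ι : X ⟶ P) [IsClosedImmersion ι] [Smooth g]
    [Smooth (ι ≫ g)] [QuasiSeparated g] [QuasiSeparated (ι ≫ g)] :
    ∃ (f : Omega.conormal ι ⟶ (Scheme.Modules.pullback ι).obj (Omega.sheaf g))
      (c : (Scheme.Modules.pullback ι).obj (Omega.sheaf g) ⟶ Omega.sheaf (ι ≫ g)),
      (∀ y, Function.Injective (stalkLin f y)) ∧ (∀ y, Function.Surjective (stalkLin c y)) ∧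
        ∀ y, Function.Exact (stalkLin f y) (stalkLin c y) := by
  have hd := Omega.DiagUniv.isUniversal_dOmega g
  have hd' := Omega.DiagUniv.isUniversal_dOmega (ι ≫ g)
  obtain ⟨φ, hφ⟩ := GrpScheme.SectionConormal.exists_conormalDiff ι (OmegaSh.dOmega g)
  obtain ⟨c, hc, -⟩ := Omega.Basic.existsUnique_diffCompat (h := ι) (b := 𝟙 S) (f' := ι ≫ g) (f := g)
    (Category.comp_id _) hd (OmegaSh.dOmega (ι ≫ g))
  haveI := S5021.mono_conormalDiff_of_smooth hd hφ
  obtain ⟨hepi, him⟩ := S5976.result g ι _ _ hd _ _ hd' φ hφ c hc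
  have w : φ ≫ c = 0 := by
    rw [← imageSubobject_arrow_comp φ, Category.assoc]
    have : (imageSubobject φ).arrow ≫ c = 0 := by
      rw [← Subobject.ofLE_arrow him.le, Category.assoc, kernelSubobject_arrow_comp, comp_zero]
    rw [this, comp_zero]
  have hS : (ShortComplex.mk φ c w).ShortExact :=
    { exact := (ShortComplex.exact_iff_image_eq_kernel _).mpr him
      mono_f := inferInstance
      epi_g := hepi }
  exact ⟨φ, c, fun y => (stalk_exact hS y).1, fun y => (stalk_exact hS y).2.2, fun y => (stalk_exact hS y).2.1⟩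

variable {k : Type u} [Field k] {X : Scheme.{u}} [X.Over (Spec (CommRingCat.of k))]
  [IsProper (X ↘ Spec (CommRingCat.of k))] {Z : Scheme.{u}} [Z.Over (Spec (CommRingCat.of k))]
  (ι : Z ⟶ X) [IsClosedImmersion ι]
  (w : ι ≫ (X ↘ Spec (CommRingCat.of k)) = Z ↘ Spec (CommRingCat.of k))
  {n : ℕ} [SmoothOfRelativeDimension (n + 1) (X ↘ Spec (CommRingCat.of k))]
  [Smooth (ι ≫ (X ↘ Spec (CommRingCat.of k)))]
  {M : X.Modules} (hMi : PicF.IsInvertible M) (eJ : ClSub.idealMod ι.ker ≅ M)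
  (hvan : ∀ t : ℕ, 1 ≤ t → ∀ p q : ℕ, p + q ≤ n → ∀ E : X.Modules,
    ExtPow.IsExtPow p (Omega.sheaf (X ↘ Spec (CommRingCat.of k))) E →
      Subsingleton (Coh.HH X (CohB1.tensorMod (CohB1.tensorPow M t) E) q))

include w hMi eJ hvan in
/-- The two statements, by induction on the degree of the forms. -/
theorem lefschetz : ∀ (p : ℕ) (F : Z.Modules),
    ExtPow.IsExtPow p (Omega.sheaf (ι ≫ (X ↘ Spec (CommRingCat.of k)))) F →
    ∀ E : X.Modules, ExtPow.IsExtPow p (Omega.sheaf (X ↘ Spec (CommRingCat.of k))) E →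
    ∀ t j : ℕ, j + p ≤ n →
      (j + p + 1 ≤ n →
        Module.finrank k (Coh.HH Z (CohB1.tensorMod ((Scheme.Modules.pullback ι).obj (CohB1.tensorPow M t)) F) j) =
          if t = 0 then Module.finrank k (Coh.HH X E j) else 0) ∧
      (t = 0 → Module.finrank k (Coh.HH X E j) ≤
        Module.finrank k (Coh.HH Z (CohB1.tensorMod ((Scheme.Modules.pullback ι).obj (CohB1.tensorPow M t)) F) j)) := by
  haveI := EulerChar.isLocallyNoetherian k (X := X)
  haveI := EulerChar.isNoetherian k (X := X)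
  haveI : IsProper (Z ↘ Spec (CommRingCat.of k)) := by rw [← w]; infer_instance
  haveI := EulerChar.isLocallyNoetherian k (X := Z)
  haveI := EulerChar.isNoetherian k (X := Z)
  let g := X ↘ Spec (CommRingCat.of k)
  haveI : QuasiSeparated g := inferInstance
  haveI : QuasiSeparated (ι ≫ g) := inferInstance
  have cΩ : Coh.IsCoh (Omega.sheaf g) := VBLib.isCoh_of_ofRank (CanonTriv.isFinLocFreeOfRank_omega g (n + 1))
  haveI := cΩ.1
  have fW := isFinLocFree_omega (ι ≫ g)
  have cW : Coh.IsCoh (Omega.sheaf (ι ≫ g)) := VBLib.isCoh_of_isFinLocFree fW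
  have hpW : ∀ x, Module.Projective (Z.presheaf.stalk x) ((Omega.sheaf (ι ≫ g)).presheaf.stalk x) := fun x => by
    obtain ⟨U, m, e, hx, he⟩ := LFFrame.exists_isFrame_of_isFinLocFree fW x
    exact Module.Projective.of_basis (Module.Basis.ofEquivFun
      (LinearEquiv.ofBijective (LFFrame.stalkComb (Omega.sheaf (ι ≫ g)) e x hx) (he.stalkComb_bijective x hx)).symm)
  haveI := cW.1
  have hbX := SmoothImm.exists_basis_omega g (n + 1)
  have hPi : ∀ t, PicF.IsInvertible (CohB1.tensorPow M t) := AmpleLib.isInvertible_tensorPow hMi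
  let N : ℕ → Z.Modules := fun t => (Scheme.Modules.pullback ι).obj (CohB1.tensorPow M t)
  have hNi : ∀ t, PicF.IsInvertible (N t) := fun t => PicCl.isInvertible_pullback ι (hPi t)
  have hNs : ∀ t, Nonempty (CohB1.tensorMod (N t) (Omega.conormal ι) ≅ N (t + 1)) := fun t =>
    ⟨ProjTwist.tensCongr (Iso.refl _) ((Scheme.Modules.pullback ι).mapIso eJ) ≪≫
      (KFlat.PullTensor.pullTensorIso ι (CohB1.tensorPow M t) M).symm⟩
  -- restriction to the divisor
  have key : ∀ (p : ℕ) (E : X.Modules), ExtPow.IsExtPow p (Omega.sheaf g) E → ∀ t j : ℕ, j + p ≤ n →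
      (j + p + 1 ≤ n → Module.finrank k (Coh.HH Z (CohB1.tensorMod (N t) ((Scheme.Modules.pullback ι).obj E)) j) =
        if t = 0 then Module.finrank k (Coh.HH X E j) else 0) ∧
      (t = 0 → Module.finrank k (Coh.HH X E j) ≤
        Module.finrank k (Coh.HH Z (CohB1.tensorMod (N t) ((Scheme.Modules.pullback ι).obj E)) j)) := by
    intro p E hE t j hj
    have cE : Coh.IsCoh E := ExtPowSt.isCoh ⟨hE.choose, hE.choose_spec⟩ cΩ
    have fE : FlatMod.IsFinLocFree E := WedgePair.isFinLocFree ⟨hE.choose, hE.choose_spec⟩ cΩ hbX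
    have hV := fun t => ProjTwist.isFinLocFreeOfRank_one (hPi t)
    have hS := CohDev.tens_shortExact (hV t) (HypChi.shortExact_tensR fE (EulerChar.shortExact_ideal ι.ker))
    let f₁ : CohB1.tensorMod (CohB1.tensorPow M t) (CohB1.tensorMod (ClSub.idealMod ι.ker) E) ≅
        CohB1.tensorMod (CohB1.tensorPow M (t + 1)) E :=
      ProjTwist.tensCongr (Iso.refl _) (ProjTwist.tensCongr eJ (Iso.refl E)) ≪≫
        (ProjTwist.tensAssoc (CohB1.tensorPow M t) M E).symm
    let f₂ : CohB1.tensorMod (CohB1.tensorPow M t) (CohB1.tensorMod (Coh.structureModule X) E) ≅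
        CohB1.tensorMod (CohB1.tensorPow M t) E :=
      ProjTwist.tensCongr (Iso.refl _) (ProjTwist.oneTens E)
    obtain ⟨q₁⟩ := HypChi.nonempty_quot_tensor' ι (CohB1.tensorPow M t) E
    obtain ⟨q₂⟩ := HypChi.nonempty_quot_tensor ι (CohB1.tensorMod (CohB1.tensorPow M t) E)
    obtain ⟨f₄⟩ : Nonempty (CohB1.tensorMod ((Scheme.Modules.pullback ι).obj (CohB1.tensorMod (CohB1.tensorPow M t) E))
        (Coh.structureModule Z) ≅ CohB1.tensorMod (N t) ((Scheme.Modules.pullback ι).obj E)) :=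
      HypChi.nonempty_pull_tensor ι (CohB1.tensorPow M t) E
    have c₄ : Coh.IsCoh (CohB1.tensorMod ((Scheme.Modules.pullback ι).obj (CohB1.tensorMod (CohB1.tensorPow M t) E))
        (Coh.structureModule Z)) :=
      CohDev.isCoh_of_iso (ProjTwist.tensOne _).symm
        (ZClosLib.CohDescent.isCoh_pullback ι _ (CohDev.isCoh_tens (hV t) cE))
    haveI := c₄.1
    obtain ⟨r, s, b, r0, hr⟩ := CICoh.exists_ranks (k := k) hS
      (CohDev.isCoh_of_iso f₁.symm (CohDev.isCoh_tens (hV (t + 1)) cE))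
      (CohDev.isCoh_of_iso f₂.symm (CohDev.isCoh_tens (hV t) cE))
      (CohDev.isCoh_of_iso (q₁ ≪≫ q₂).symm (CycLib.isCoh_push _ ι c₄))
    have z1 : ∀ i, p + i ≤ n → r i + s i = 0 := fun i hi => by
      haveI := hvan (t + 1) (by omega) p i hi E hE
      exact ((SurfRR.hhEquiv k f₁ i).finrank_eq.symm.trans (hr i).1).symm.trans Module.finrank_zero_of_subsingleton
    have h2 : Module.finrank k (Coh.HH X (CohB1.tensorMod (CohB1.tensorPow M t) E) j) = s j + b j :=
      (SurfRR.hhEquiv k f₂ j).finrank_eq.symm.trans (hr j).2.1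
    obtain ⟨e'⟩ := EulerChar.nonempty_pushEquiv (A := k) ι w _ c₄.1 j
    have h3 : Module.finrank k (Coh.HH Z (CohB1.tensorMod (N t) ((Scheme.Modules.pullback ι).obj E)) j) =
        b j + r (j + 1) :=
      ((SurfRR.hhEquiv k (q₁ ≪≫ q₂) j ≪≫ₗ e' ≪≫ₗ SurfRR.hhEquiv k f₄ j).finrank_eq).symm.trans (hr j).2.2
    have := z1 j (by omega)
    cases t with
    | zero =>
      have h2' : Module.finrank k (Coh.HH X E j) = s j + b j :=
        (SurfRR.hhEquiv k (ProjTwist.oneTens E).symm j).finrank_eq.trans h2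
      refine ⟨fun hj' => ?_, fun _ => by omega⟩
      have := z1 (j + 1) (by omega)
      rw [if_pos rfl]
      omega
    | succ t =>
      refine ⟨fun hj' => ?_, fun h0 => absurd h0 (Nat.succ_ne_zero t)⟩
      have := z1 (j + 1) (by omega)
      haveI := hvan (t + 1) (by omega) p j (by omega) E hE
      rw [Module.finrank_zero_of_subsingleton] at h2
      rw [if_neg (Nat.succ_ne_zero t)]
      omega
  haveI : Smooth g := SmoothOfRelativeDimension.smooth (n + 1) g
  obtain ⟨f, c, hi, hs, he⟩ := exists_seq' g ι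
  have hAi : PicF.IsInvertible (Omega.conormal ι) :=
    PicCl.isInvertible_pullback ι (PicCl.isInvertible_of_iso eJ.symm hMi)
  haveI : (Omega.conormal ι).IsQuasicoherent := ProjTwist.isQCoh_of_isInvertible hAi
  have cP : Coh.IsCoh ((Scheme.Modules.pullback ι).obj (Omega.sheaf g)) :=
    ZClosLib.CohDescent.isCoh_pullback ι _ cΩ
  haveI := cP.1
  intro p
  induction p with
  | zero =>
    intro F hF E hE t j hj
    obtain ⟨e⟩ := S3203.extPow_iso hF (S3203.isExtPow_zero _)
    obtain ⟨e'⟩ := S3203.extPow_iso hE (S3203.isExtPow_zero _)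
    rw [show Module.finrank k (Coh.HH Z (CohB1.tensorMod ((Scheme.Modules.pullback ι).obj (CohB1.tensorPow M t)) F) j) = _ from
      (SurfRR.hhEquiv k (ProjTwist.tensCongr (Iso.refl (N t))
        (e ≪≫ (QCoh.pullbackUnitIso ι).symm ≪≫ (Scheme.Modules.pullback ι).mapIso e'.symm)) j).finrank_eq]
    exact key 0 E hE t j hj
  | succ p ih =>
    intro L₁ hL₁ E hE t j hj
    rw [add_comm p 1] at hL₁ hE
    obtain ⟨L'', hL''⟩ := ExtPowSt.Exists.exists_isExtPow p (Omega.sheaf (ι ≫ g))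
    obtain ⟨E'', hE''⟩ := ExtPowSt.Exists.exists_isExtPow p (Omega.sheaf g)
    have hLE := ExtPowSt.Pullback.isExtPow_pullback ι hE
    obtain ⟨T, hT, ⟨e₁⟩, ⟨e₂⟩, ⟨e₃⟩⟩ := exists_wedge_sub f c hi hs he
      (PnTop.exists_basis_invertible hAi) hpW hLE hL'' hL₁
    have hV := fun t => ProjTwist.isFinLocFreeOfRank_one (hNi t)
    obtain ⟨r, s, b, r0, hr⟩ := CICoh.exists_ranks (k := k) (CohDev.tens_shortExact (hV t) hT)
      (CohDev.isCoh_tens (hV t) (CohDev.isCoh_of_iso e₁.symm (CohDev.isCoh_tens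
        (ProjTwist.isFinLocFreeOfRank_one hAi) (ExtPowSt.isCoh ⟨hL''.choose, hL''.choose_spec⟩ cW))))
      (CohDev.isCoh_tens (hV t) (CohDev.isCoh_of_iso e₂.symm (ExtPowSt.isCoh ⟨hLE.choose, hLE.choose_spec⟩ cP)))
      (CohDev.isCoh_tens (hV t) (CohDev.isCoh_of_iso e₃.symm (ExtPowSt.isCoh ⟨hL₁.choose, hL₁.choose_spec⟩ cW)))
    obtain ⟨en⟩ := hNs t
    let g₁ : CohB1.tensorMod (N t) T.X₁ ≅ CohB1.tensorMod (N (t + 1)) L'' :=
      ProjTwist.tensCongr (Iso.refl _) e₁ ≪≫ (ProjTwist.tensAssoc (N t) (Omega.conormal ι) L'').symm ≪≫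
        ProjTwist.tensCongr en (Iso.refl L'')
    have h1 : ∀ i, i + p + 1 ≤ n → r i + s i = 0 := fun i hi' =>
      ((SurfRR.hhEquiv k g₁ i).finrank_eq.symm.trans (hr i).1).symm.trans
        (((ih L'' hL'' E'' hE'' (t + 1) i (by omega)).1 hi').trans (if_neg (Nat.succ_ne_zero t)))
    have h2 : Module.finrank k (Coh.HH Z (CohB1.tensorMod (N t) ((Scheme.Modules.pullback ι).obj E)) j) = s j + b j :=
      (SurfRR.hhEquiv k (ProjTwist.tensCongr (Iso.refl (N t)) e₂) j).finrank_eq.symm.trans (hr j).2.1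
    have h3 : Module.finrank k (Coh.HH Z (CohB1.tensorMod (N t) L₁) j) = b j + r (j + 1) :=
      (SurfRR.hhEquiv k (ProjTwist.tensCongr (Iso.refl (N t)) e₃) j).finrank_eq.symm.trans (hr j).2.2
    have := h1 j (by omega)
    obtain ⟨k1, k2⟩ := key (1 + p) E hE t j (by omega)
    refine ⟨fun hj' => ?_, fun h0 => ?_⟩
    · have := h1 (j + 1) (by omega)
      rw [h3, ← k1 (by omega), h2]
      omega
    · have := k2 h0
      rw [h3]
      omega


end Groth.Agent.DualAbs.HodgeLefSec
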