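import Mathlib.RingTheory.PowerSeries.Basic
import Mathlib.RingTheory.Binomial
import Mathlib.Data.Nat.Choose.Sum
import Mathlib.Tactic

/-!
# The generating series of the genera of hypersurfaces
-/

set_option autoImplicit false

noncomputable section

namespace Groth.Agent.DualAbs.HypGenus

/-- `χ(P^N, Ω^p(c))`. -/
def E (N : ℕ) : ℕ → ℤ → ℤ
  | 0, c => Ring.choose (c + N) N
  | p + 1, c => ((N + 1).choose (p + 1) : ℤ) * Ring.choose (c - ((p + 1 : ℕ) : ℤ) + N) N - E N p c

/-- `χ(Y, Ω^p(c))` for a hypersurface `Y` of degree `a` in `P^(n+1)`. -/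
def e (a : ℕ) (n : ℕ) : ℕ → ℤ → ℤ
  | 0, c => E (n + 1) 0 c - E (n + 1) 0 (c - a)
  | p + 1, c => E (n + 1) (p + 1) c - E (n + 1) (p + 1) (c - a) - e a n p (c - a)

theorem choose_step (N : ℕ) (m : ℤ) :
    Ring.choose (m + 1 + (N + 1 : ℕ)) (N + 1) - Ring.choose (m + 1 + (N : ℕ)) N = Ring.choose (m + (N + 1 : ℕ)) (N + 1) := by
  have h := Ring.choose_succ_succ (m + 1 + (N : ℤ)) N
  rw [show m + 1 + ((N + 1 : ℕ) : ℤ) = m + 1 + (N : ℤ) + 1 by push_cast; ring,
    show m + ((N + 1 : ℕ) : ℤ) = m + 1 + (N : ℤ) by push_cast; ring, h]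
  ring

theorem choose_neg_one (N : ℕ) : Ring.choose (-1 : ℤ) N = (-1) ^ N := by
  induction N with
  | zero => simp
  | succ N ih =>
    have h := Ring.choose_succ_succ (-1 : ℤ) N
    rw [neg_add_cancel, Ring.choose_zero_succ, ih] at h
    rw [pow_succ]
    linarith

theorem E_zero (p : ℕ) : ∀ c, E 0 p c = if p = 0 then 1 else 0 := by
  induction p with
  | zero => intro c; simp [E]
  | succ p ih =>
    intro c
    rw [E, ih c]
    rcases p with _ | p <;> simp [Nat.choose_eq_zero_of_lt]

theorem E_rec (N : ℕ) : ∀ p c, E (N + 1) (p + 1) (c + 1) - E N (p + 1) (c + 1) = E (N + 1) (p + 1) c + E N p c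
  | 0, c => by
    simp only [E]
    have h := choose_step N (c - 1)
    have h' := choose_step N c
    rw [show c - 1 + 1 = c by ring] at h
    rw [show c + 1 - ((0 + 1 : ℕ) : ℤ) = c by push_cast; ring, show c - ((0 + 1 : ℕ) : ℤ) = c - 1 by push_cast; ring]
    simp only [zero_add, Nat.choose_one_right]
    push_cast at h h' ⊢
    linear_combination ((N : ℤ) + 2) * h - h'
  | p + 1, c => by
    have ih := E_rec N p c
    have h := choose_step N (c - ((p + 1 + 1 : ℕ) : ℤ))
    rw [show c - ((p + 1 + 1 : ℕ) : ℤ) + 1 = c - ((p + 1 : ℕ) : ℤ) by push_cast; ring] at h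
    have hc : (((N + 1 + 1).choose (p + 1 + 1) : ℕ) : ℤ) = ((N + 1).choose (p + 1) : ℤ) + ((N + 1).choose (p + 1 + 1) : ℤ) := by
      rw [Nat.choose_succ_succ']; push_cast; ring
    rw [show E (N + 1) (p + 1 + 1) (c + 1) = _ from rfl, show E N (p + 1 + 1) (c + 1) = _ from rfl,
      show E (N + 1) (p + 1 + 1) c = _ from rfl]
    conv_lhs => simp only [E]
    conv_rhs => simp only [E]
    simp only [E] at ih
    rw [show c + 1 - ((p + 1 + 1 : ℕ) : ℤ) = c - ((p + 1 : ℕ) : ℤ) by push_cast; ring, hc] at *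
    push_cast at h ih ⊢
    linear_combination (((N + 1).choose (p + 1) : ℤ) + ((N + 1).choose (p + 1 + 1) : ℤ)) * h - ih

theorem E_at_zero (N : ℕ) : ∀ p, E N p 0 = if p ≤ N then (-1) ^ p else 0
  | 0 => by simp [E, Ring.choose_natCast]
  | p + 1 => by
    rw [E, E_at_zero N p]
    rcases lt_trichotomy (p + 1) (N + 1) with h | h | h
    · rw [show (0 : ℤ) - ((p + 1 : ℕ) : ℤ) + N = ((N - (p + 1) : ℕ) : ℤ) by omega, Ring.choose_natCast,
        Nat.choose_eq_zero_of_lt (show N - (p + 1) < N by omega), if_pos (by omega), if_pos (by omega)]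
      simp [pow_succ]
    · obtain rfl : p = N := by omega
      rw [show (0 : ℤ) - ((p + 1 : ℕ) : ℤ) + p = -1 by push_cast; ring, choose_neg_one, Nat.choose_self]
      simp
    · rw [Nat.choose_eq_zero_of_lt h, if_neg (by omega), if_neg (by omega)]
      simp

section Series

open PowerSeries

variable (a : ℕ)

local notation "T" => (PowerSeries.X : PowerSeries (PowerSeries ℤ))
local notation "Z" => (PowerSeries.C (PowerSeries.X : PowerSeries ℤ) : PowerSeries (PowerSeries ℤ))

/-- The series of `P^N`. -/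
def Fs (c : ℤ) : PowerSeries (PowerSeries ℤ) := PowerSeries.mk fun N => PowerSeries.mk fun p => E N p c

/-- The series of the hypersurfaces. -/
def Gs (c : ℤ) : PowerSeries (PowerSeries ℤ) :=
  T * PowerSeries.mk fun n => PowerSeries.mk fun p => e a n p c

theorem coeff_one_add (f : PowerSeries (PowerSeries ℤ)) (N : ℕ) :
    coeff (N + 1) ((1 + Z * T) * f) = coeff (N + 1) f + PowerSeries.X * coeff N f := by
  rw [add_mul, one_mul, map_add, mul_assoc, coeff_C_mul, coeff_succ_X_mul]

theorem coeff_one_sub (f : PowerSeries (PowerSeries ℤ)) (N : ℕ) :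
    coeff (N + 1) ((1 - T) * f) = coeff (N + 1) f - coeff N f := by
  rw [sub_mul, one_mul, map_sub, coeff_succ_X_mul]

theorem Fs_step (c : ℤ) : (1 - T) * Fs (c + 1) = (1 + Z * T) * Fs c := by
  ext N p
  cases N with
  | zero => simp [Fs, sub_mul, add_mul, mul_assoc, E_zero]
  | succ N =>
    rw [coeff_one_add, coeff_one_sub, map_sub, map_add]
    cases p with
    | zero =>
      simp only [Fs, coeff_mk, coeff_zero_X_mul, add_zero]
      rw [E, E, E]
      exact choose_step N c
    | succ p =>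
      simp only [Fs, coeff_mk, coeff_succ_X_mul]
      exact E_rec N p c

theorem Fs_zero : (1 - T) * (1 + Z * T) * Fs 0 = 1 := by
  have h : (1 - T) * Fs 0 = PowerSeries.mk fun N => (-PowerSeries.X : PowerSeries ℤ) ^ N := by
    ext N p
    have hp : coeff p ((-PowerSeries.X : PowerSeries ℤ) ^ N) = if p = N then (-1) ^ N else 0 := by
      rw [neg_pow, show ((-1 : PowerSeries ℤ) ^ N) = PowerSeries.C ((-1 : ℤ) ^ N) by simp, coeff_C_mul, coeff_X_pow]
      simp
    cases N with
    | zero => simp [Fs, sub_mul, E_zero, coeff_one]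
    | succ N =>
      rw [coeff_one_sub, map_sub]
      simp only [Fs, coeff_mk, E_at_zero, hp]
      rcases lt_trichotomy p (N + 1) with h | h | h
      · rw [if_pos (by omega), if_pos (by omega), if_neg (by omega), sub_self]
      · subst h
        rw [if_pos le_rfl, if_neg (by omega), if_pos rfl, sub_zero]
      · rw [if_neg (by omega), if_neg (by omega), if_neg (by omega), sub_self]
  rw [mul_comm (1 - T) (1 + Z * T), mul_assoc, h]
  ext N : 1
  cases N with
  | zero => simp [add_mul, mul_assoc, coeff_one]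
  | succ N =>
    rw [coeff_one_add]
    simp [coeff_one, pow_succ]
    ring

theorem Gs_rel (c : ℤ) : Gs a c + Z * Gs a (c - a) = Fs c - Fs (c - a) := by
  ext N p
  cases N with
  | zero => simp [Gs, Fs, E_zero]
  | succ n =>
    rw [map_add, coeff_C_mul, map_sub, map_add, map_sub]
    simp only [Gs, coeff_succ_X_mul, Fs, coeff_mk]
    cases p with
    | zero => simp [e]
    | succ p =>
      rw [coeff_succ_X_mul]
      simp [e]

theorem Gs_step (c : ℤ) : (1 - T) * Gs a (c + 1) = (1 + Z * T) * Gs a c := by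
  let D : ℤ → PowerSeries (PowerSeries ℤ) := fun c => (1 - T) * Gs a (c + 1) - (1 + Z * T) * Gs a c
  have hD : ∀ c, D c + Z * D (c - a) = 0 := fun c => by
    have h₁ := Gs_rel a (c + 1)
    have h₂ := Gs_rel a c
    have h₃ := Fs_step c
    have h₄ := Fs_step (c - a)
    rw [show c + 1 - (a : ℤ) = c - a + 1 by ring] at h₁
    show (1 - T) * Gs a (c + 1) - (1 + Z * T) * Gs a c +
      Z * ((1 - T) * Gs a (c - a + 1) - (1 + Z * T) * Gs a (c - a)) = 0
    linear_combination (1 - T) * h₁ - (1 + Z * T) * h₂ + h₃ - h₄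
  have h : ∀ p c N, coeff p (coeff N (D c)) = 0 := fun p => by
    induction p with
    | zero =>
      intro c N
      have h := congrArg (fun f => coeff 0 (coeff N f)) (hD c)
      simp only [map_add, coeff_C_mul, coeff_zero_X_mul, add_zero, map_zero] at h
      exact h
    | succ p ih =>
      intro c N
      have h := congrArg (fun f => coeff (p + 1) (coeff N f)) (hD c)
      simp only [map_add, coeff_C_mul, coeff_succ_X_mul, ih, add_zero, map_zero] at h
      exact h
  exact sub_eq_zero.1 (PowerSeries.ext fun N => PowerSeries.ext fun p => by simpa [D] using h p c N)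

theorem iterate {G : ℤ → PowerSeries (PowerSeries ℤ)} (h : ∀ c, (1 - T) * G (c + 1) = (1 + Z * T) * G c)
    (c : ℤ) : ∀ j : ℕ, (1 - T) ^ j * G (c + j) = (1 + Z * T) ^ j * G c
  | 0 => by simp
  | j + 1 => by
    rw [pow_succ, pow_succ, show c + ((j + 1 : ℕ) : ℤ) = c + j + 1 by push_cast; ring, mul_assoc, h]
    linear_combination (1 + Z * T) * iterate h c j

/-- The generating series. -/
theorem Gs_eq :
    (1 - T) * (1 + Z * T) * ((1 + Z * T) ^ a + Z * (1 - T) ^ a) * Gs a 0 = (1 + Z * T) ^ a - (1 - T) ^ a := by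
  have h1 := iterate (Gs_step a) (-(a : ℤ)) a
  have h2 := iterate Fs_step (-(a : ℤ)) a
  have h3 := Gs_rel a 0
  rw [zero_sub] at h3
  rw [neg_add_cancel] at h1 h2
  linear_combination ((1 - T) * (1 + Z * T) * Z) * h1 + ((1 - T) * (1 + Z * T) * (1 + Z * T) ^ a) * h3 +
    ((1 - T) * (1 + Z * T)) * h2 + ((1 + Z * T) ^ a - (1 - T) ^ a) * Fs_zero

end Series

/-- The statement with polynomial coefficients. -/
theorem series_eq (a : ℕ) (χ : ℕ → Polynomial ℤ) (hχ : ∀ n p, (χ n).coeff p = e a n p 0) :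
    (1 - PowerSeries.X) * (1 + PowerSeries.C (Polynomial.X : Polynomial ℤ) * PowerSeries.X) *
        ((1 + PowerSeries.C (Polynomial.X : Polynomial ℤ) * PowerSeries.X) ^ a +
          PowerSeries.C (Polynomial.X : Polynomial ℤ) * (1 - PowerSeries.X) ^ a) *
        (PowerSeries.X * PowerSeries.mk χ) =
      (1 + PowerSeries.C (Polynomial.X : Polynomial ℤ) * PowerSeries.X) ^ a - (1 - PowerSeries.X) ^ a := by
  let φ : Polynomial ℤ →+* PowerSeries ℤ := Polynomial.coeToPowerSeries.ringHom
  refine PowerSeries.map_injective φ (Polynomial.coe_injective ℤ) ?_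
  have hm : PowerSeries.map φ (PowerSeries.mk χ) = PowerSeries.mk fun n => PowerSeries.mk fun p => e a n p 0 := by
    ext n p
    simp [φ, hχ]
  simp only [map_mul, map_add, map_sub, map_one, map_pow, PowerSeries.map_X, PowerSeries.map_C, hm]
  simp only [φ, Polynomial.coeToPowerSeries.ringHom_apply, Polynomial.coe_X]
  exact Gs_eq a

end Groth.Agent.DualAbs.HypGenus
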