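import Groth.Agent.DualAbs.CIHodge
import Groth.Agent.DualAbs.HypGenus
import Groth.Agent.ChgRings.Basic
import Groth.Agent.HypHilb28.Proj

/-!
# Euler characteristics of the exterior powers of the differentials of a hypersurface
-/

set_option autoImplicit false
set_option linter.style.haveILetI false
set_option maxHeartbeats 800000

universe u

open CategoryTheory CategoryTheory.Limits AlgebraicGeometry

noncomputable section

namespace Groth.Agent.DualAbs.HypChi

open Groth.Agent.PullStalk.Exact Groth.Agent.Omega.Stalks Groth.Agent.ExtPowSt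
open Groth.Agent.Omega.ProdDiff (stalkLin_id)

/-- Tensoring with a finite locally free module on the right is exact. -/
theorem shortExact_tensR {X : Scheme.{u}} {E : X.Modules} (hE : FlatMod.IsFinLocFree E)
    {S : ShortComplex X.Modules} (hS : S.ShortExact) : (S.map (ChgRings.tensR E)).ShortExact := by
  let F := ChgRings.tensR E
  haveI : F.IsLeftAdjoint := KFlat.hasSheafHom X.sheaf E
  haveI : PreservesColimitsOfSize.{0, 0} F :=
    (Adjunction.ofIsLeftAdjoint F).leftAdjoint_preservesColimits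
  haveI : PreservesFiniteColimits F := PreservesColimitsOfSize.preservesFiniteColimits F
  haveI := hS.mono_f
  haveI := hS.epi_g
  exact
    { exact := ShortComplex.exact_of_g_is_cokernel _
        (CokernelCofork.mapIsColimit (CokernelCofork.ofπ S.g S.zero) hS.gIsCokernel F)
      mono_f := ChgRings.mono_tensR_map hE S.f
      epi_g := inferInstanceAs (Epi (F.map S.g)) }

theorem alt_telescope (r : ℕ → ℕ) : ∀ t : ℕ,
    ∑ q ∈ Finset.range t, (-1 : ℤ) ^ q * ((r q : ℤ) + r (q + 1)) = r 0 - (-1 : ℤ) ^ t * r t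
  | 0 => by simp
  | t + 1 => by rw [Finset.sum_range_succ, alt_telescope r t, pow_succ]; ring

/-- The projection formula for `O/I`. -/
theorem nonempty_quot_tensor {X Y : Scheme.{u}} (i : Y ⟶ X) [IsClosedImmersion i] (K : X.Modules) :
    Nonempty (CohB1.tensorMod K (ClSub.quotMod i.ker) ≅ (Scheme.Modules.pushforward i).obj
        (CohB1.tensorMod ((Scheme.Modules.pullback i).obj K) (Coh.structureModule Y))) :=
  ⟨ProjTwist.tensCongr (Iso.refl K) (HilbLoc.quotModIso i) ≪≫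
      (ChgRings.projIso i (Coh.structureModule Y)).app K⟩

theorem nonempty_quot_tensor' {X Y : Scheme.{u}} (i : Y ⟶ X) [IsClosedImmersion i] (V M : X.Modules) :
    Nonempty (CohB1.tensorMod V (CohB1.tensorMod (ClSub.quotMod i.ker) M) ≅
      CohB1.tensorMod (CohB1.tensorMod V M) (ClSub.quotMod i.ker)) :=
  ⟨ProjTwist.tensCongr (Iso.refl V) (ProjTwist.tensComm _ M) ≪≫ (ProjTwist.tensAssoc V M _).symm⟩

theorem nonempty_pull_tensor {X Y : Scheme.{u}} (i : Y ⟶ X) (V M : X.Modules) :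
    Nonempty (CohB1.tensorMod ((Scheme.Modules.pullback i).obj (CohB1.tensorMod V M)) (Coh.structureModule Y) ≅
      CohB1.tensorMod ((Scheme.Modules.pullback i).obj V) ((Scheme.Modules.pullback i).obj M)) :=
  ⟨ProjTwist.tensOne _ ≪≫ KFlat.PullTensor.pullTensorIso i V M⟩

variable {k : Type u} [Field k]

section Pn

open DualAbs.Bott

variable {N : ℕ}

local notation "P" => CohB1.ProjSpace N k
local notation "O(" c ")" => Twist.twistProjSpace N k c

/-- `χ(P^N, Ω^p(c))`. -/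
theorem euler_Om (hN : 0 < N) : ∀ (p : ℕ) (L : (CohB1.ProjSpace N k).Modules),
    ExtPow.IsExtPow p (Om N k) L → ∀ c : ℤ,
      Curv2.euler k P (CohB1.tensorMod O(c) L) = HypGenus.E N p c := by
  haveI : IsProper (P ↘ Spec (CommRingCat.of k)) := ProjProper.Basic.isProper_toSpec N k
  intro p
  induction p with
  | zero =>
    intro L hL c
    haveI := (isCoh_Om (n := N) (k := k)).1
    obtain ⟨e⟩ := S3203.extPow_iso hL (S3203.isExtPow_zero (Om N k))
    rw [EulerChar.euler_iso k (ProjTwist.tensCongr (Iso.refl _) e ≪≫ ProjTwist.tensOne _),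
      HypHilb28.euler_twist_Pn k N hN c]
    rfl
  | succ p ih =>
    intro L' hL' c
    obtain ⟨L'', hL''⟩ := exists_pow_Om (n := N) (k := k) p
    obtain ⟨r, a, b, r0, hr⟩ := exists_step hL' hL'' c
    obtain ⟨t, ht⟩ := EulerChar.exists_bound k P
    have c' : Coh.IsCoh (CohB1.tensorMod O(c) L') :=
      isCoh_tw c (ExtPowSt.isCoh ⟨hL'.choose, hL'.choose_spec⟩ isCoh_Om)
    have c'' : Coh.IsCoh (CohB1.tensorMod O(c) L'') :=
      isCoh_tw c (ExtPowSt.isCoh ⟨hL''.choose, hL''.choose_spec⟩ isCoh_Om)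
    have cO : Coh.IsCoh O(c - ((p + 1 : ℕ) : ℤ)) := ProjTwist.Pn.isCoh_twistProjSpace N k _
    have e1 := EulerChar.euler_eq_sum k (fun m hm => ht (CohB1.tensorMod O(c) L') c'.1 m hm)
    have e2 := EulerChar.euler_eq_sum k (fun m hm => ht (CohB1.tensorMod O(c) L'') c''.1 m hm)
    have e3 := EulerChar.euler_eq_sum k (fun m hm => ht O(c - ((p + 1 : ℕ) : ℤ)) cO.1 m hm)
    rw [HypHilb28.euler_twist_Pn k N hN] at e3
    have rt : r t = 0 := by
      haveI : Subsingleton (Coh.HH P ((tw c).obj L') t) := ht (CohB1.tensorMod O(c) L') c'.1 t le_rfl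
      have h1 := (hr t).1
      rw [show h ((tw c).obj L') t = 0 from Module.finrank_zero_of_subsingleton] at h1
      omega
    have hq : ∀ q, (h ((tw c).obj L') q : ℤ) + (h ((tw c).obj L'') q : ℤ) =
        ((N + 1).choose (p + 1) : ℤ) * (hO N k (c - ((p + 1 : ℕ) : ℤ)) q : ℤ) + ((r q : ℤ) + r (q + 1)) := by
      intro q
      obtain ⟨h1, h2, h3⟩ := hr q
      have h2' := congrArg (fun m : ℕ => (m : ℤ)) h2
      push_cast at h2' ⊢
      rw [h1, h3]
      push_cast
      linarith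
    have hs := Finset.sum_congr (f := fun q => (-1 : ℤ) ^ q * ((h ((tw c).obj L') q : ℤ) + (h ((tw c).obj L'') q : ℤ)))
      rfl (fun q (_ : q ∈ Finset.range t) => congrArg ((-1 : ℤ) ^ q * ·) (hq q))
    simp only [mul_add, Finset.sum_add_distrib] at hs
    have htel := alt_telescope r t
    simp only [mul_add, Finset.sum_add_distrib, r0, rt, Nat.cast_zero, mul_zero, sub_zero] at htel
    have hC : ∑ q ∈ Finset.range t, (-1 : ℤ) ^ q *
        (((N + 1).choose (p + 1) : ℤ) * (hO N k (c - ((p + 1 : ℕ) : ℤ)) q : ℤ)) =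
        ((N + 1).choose (p + 1) : ℤ) * Ring.choose (c - ((p + 1 : ℕ) : ℤ) + N) N := by
      rw [e3, Finset.mul_sum]
      exact Finset.sum_congr rfl fun q _ => by ring
    have hih := ih L'' hL'' c
    rw [e2] at hih
    rw [e1, HypGenus.E, ← hC]
    change ∑ q ∈ Finset.range t, (-1 : ℤ) ^ q * (h ((tw c).obj L') q : ℤ) = _
    change ∑ q ∈ Finset.range t, (-1 : ℤ) ^ q * (h ((tw c).obj L'') q : ℤ) = _ at hih
    linarith

/-- `χ(Y, Ω^p_P(c)|Y)` for a divisor `Y` with ideal `O(-a)`. -/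
theorem euler_restrict (hN : 0 < N) {Y : Scheme.{u}} [Y.Over (Spec (CommRingCat.of k))] (ι : Y ⟶ P)
    [IsClosedImmersion ι] (w : ι ≫ CohB1.ProjSpace.toSpec N k = Y ↘ Spec (CommRingCat.of k))
    (a : ℕ) (eJ : ClSub.idealMod ι.ker ≅ O(-(a : ℤ))) {p : ℕ} {L : (CohB1.ProjSpace N k).Modules}
    (hL : ExtPow.IsExtPow p (Om N k) L) (c : ℤ) :
    Curv2.euler k Y (CohB1.tensorMod (CIHodge.O ι c) ((Scheme.Modules.pullback ι).obj L)) =
      HypGenus.E N p c - HypGenus.E N p (c - a) := by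
  haveI : IsProper (P ↘ Spec (CommRingCat.of k)) := ProjProper.Basic.isProper_toSpec N k
  haveI := EulerChar.isLocallyNoetherian k (X := P)
  haveI := EulerChar.isNoetherian k (X := P)
  haveI : IsProper (Y ↘ Spec (CommRingCat.of k)) := by
    rw [← w]
    haveI := ProjProper.Basic.isProper_toSpec N k
    infer_instance
  haveI := PnTop.smoothOfRelativeDimension_toSpec N k
  haveI : IsProper (CohB1.ProjSpace.toSpec N k) := ProjProper.Basic.isProper_toSpec N k
  haveI : QuasiSeparated (CohB1.ProjSpace.toSpec N k) := inferInstance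
  have hb := SmoothImm.exists_basis_omega (CohB1.ProjSpace.toSpec N k) N
  haveI := (isCoh_Om (n := N) (k := k)).1
  have cL : Coh.IsCoh L := ExtPowSt.isCoh ⟨hL.choose, hL.choose_spec⟩ isCoh_Om
  have fL : FlatMod.IsFinLocFree L := WedgePair.isFinLocFree ⟨hL.choose, hL.choose_spec⟩ isCoh_Om hb
  have hV := fun c : ℤ => ProjTwist.isFinLocFreeOfRank_one (ProjTwist.isInvertible_twistProjSpace N k c)
  let K := CohB1.tensorMod O(c) L
  have cK : Coh.IsCoh K := CohDev.isCoh_tens (hV c) cL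
  let T := (EulerChar.shortExact_ideal ι.ker)
  have hS₁ : ((ShortComplex.mk (ClSub.idealModι ι.ker) (ClSub.toSubscheme ι.ker) (kernel.condition _)).map
      (ChgRings.tensR L)).ShortExact := shortExact_tensR fL T
  have hS₂ := CohDev.tens_shortExact (hV c) hS₁
  obtain ⟨t⟩ := ProjTwist.nonempty_twistProjSpace_tensor N k c (-(a : ℤ))
  let f₁ : CohB1.tensorMod O(c) (CohB1.tensorMod (ClSub.idealMod ι.ker) L) ≅ CohB1.tensorMod O(c - a) L :=
    ProjTwist.tensCongr (Iso.refl _) (ProjTwist.tensCongr eJ (Iso.refl L)) ≪≫ (ProjTwist.tensAssoc _ _ L).symm ≪≫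
      ProjTwist.tensCongr (t ≪≫ eqToIso (congrArg _ (sub_eq_add_neg c (a : ℤ)).symm)) (Iso.refl L)
  let f₂ : CohB1.tensorMod O(c) (CohB1.tensorMod (Coh.structureModule P) L) ≅ K :=
    ProjTwist.tensCongr (Iso.refl _) (ProjTwist.oneTens L)
  obtain ⟨q₁⟩ := nonempty_quot_tensor' ι O(c) L
  obtain ⟨q₂⟩ := nonempty_quot_tensor ι K
  let f₃ : CohB1.tensorMod O(c) (CohB1.tensorMod (ClSub.quotMod ι.ker) L) ≅
      (Scheme.Modules.pushforward ι).obj
        (CohB1.tensorMod ((Scheme.Modules.pullback ι).obj K) (Coh.structureModule Y)) := q₁ ≪≫ q₂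
  obtain ⟨f₄⟩ : Nonempty (CohB1.tensorMod ((Scheme.Modules.pullback ι).obj K) (Coh.structureModule Y) ≅
      CohB1.tensorMod (CIHodge.O ι c) ((Scheme.Modules.pullback ι).obj L)) := nonempty_pull_tensor ι O(c) L
  haveI := EulerChar.isLocallyNoetherian k (X := Y)
  haveI := EulerChar.isNoetherian k (X := Y)
  have c₄ : Coh.IsCoh (CohB1.tensorMod ((Scheme.Modules.pullback ι).obj K) (Coh.structureModule Y)) :=
    CohDev.isCoh_of_iso (ProjTwist.tensOne _).symm (ZClosLib.CohDescent.isCoh_pullback ι _ cK)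
  haveI := c₄.1
  have c₁ : Coh.IsCoh (CohB1.tensorMod O(c) (CohB1.tensorMod (ClSub.idealMod ι.ker) L)) :=
    CohDev.isCoh_of_iso f₁.symm (CohDev.isCoh_tens (hV _) cL)
  have c₂ : Coh.IsCoh (CohB1.tensorMod O(c) (CohB1.tensorMod (Coh.structureModule P) L)) :=
    CohDev.isCoh_of_iso f₂.symm cK
  have c₃ : Coh.IsCoh (CohB1.tensorMod O(c) (CohB1.tensorMod (ClSub.quotMod ι.ker) L)) :=
    CohDev.isCoh_of_iso f₃.symm (CycLib.isCoh_push _ ι c₄)
  have h := EulerChar.euler_add k hS₂ c₁ c₂ c₃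
  change Curv2.euler k P (CohB1.tensorMod O(c) (CohB1.tensorMod (Coh.structureModule P) L)) =
    Curv2.euler k P (CohB1.tensorMod O(c) (CohB1.tensorMod (ClSub.idealMod ι.ker) L)) +
      Curv2.euler k P (CohB1.tensorMod O(c) (CohB1.tensorMod (ClSub.quotMod ι.ker) L)) at h
  rw [EulerChar.euler_iso k f₁, EulerChar.euler_iso k f₂, EulerChar.euler_iso k f₃,
    EulerChar.euler_push ι w _ c₄.1, EulerChar.euler_iso k f₄, euler_Om hN p L hL,
    euler_Om hN p L hL] at h
  linarith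

end Pn

/-- `χ(Y, Ω^p(c))` for a smooth hypersurface. -/
theorem euler_hyp {n a : ℕ} (ha : 1 ≤ a) (G : Fin 1 → LefPen.Form (n + 1) k a)
    [SmoothOfRelativeDimension n ((LefPen.ciIdeal G).subschemeι ≫ CohB1.ProjSpace.toSpec (n + 1) k)]
    [(LefPen.ciIdeal G).subscheme.Over (Spec (CommRingCat.of k))]
    (hover : (LefPen.ciIdeal G).subscheme ↘ Spec (CommRingCat.of k) =
      (LefPen.ciIdeal G).subschemeι ≫ CohB1.ProjSpace.toSpec (n + 1) k) :
    ∀ (p : ℕ) (L : (LefPen.ciIdeal G).subscheme.Modules),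
      ExtPow.IsExtPow p (Omega.sheaf ((LefPen.ciIdeal G).subschemeι ≫ CohB1.ProjSpace.toSpec (n + 1) k)) L →
      ∀ c : ℤ, Curv2.euler k (LefPen.ciIdeal G).subscheme
        (CohB1.tensorMod (CIHodge.O (LefPen.ciIdeal G).subschemeι c) L) = HypGenus.e a n p c := by
  haveI := CIHodge.isProper_ci G hover
  haveI := EulerChar.isLocallyNoetherian k (X := (LefPen.ciIdeal G).subscheme)
  haveI := EulerChar.isNoetherian k (X := (LefPen.ciIdeal G).subscheme)
  have hdim := CIHodge.dim_le G hover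
  let ι := (LefPen.ciIdeal G).subschemeι
  have w : ι ≫ CohB1.ProjSpace.toSpec (n + 1) k = (LefPen.ciIdeal G).subscheme ↘ Spec (CommRingCat.of k) :=
    hover.symm
  have hI : ι.ker = LefPen.hypIdeal (G 0) := (Scheme.IdealSheafData.ker_subschemeι _).trans
    (le_antisymm (iSup_le fun i => le_of_eq (by rw [Subsingleton.elim i 0]))
      (le_iSup (fun i => LefPen.hypIdeal (G i)) (0 : Fin 1)))
  have hG : (G 0).1 ≠ 0 :=
    CICoh.form_ne_zero G (by omega) (fun _ => ha) hdim (m := 0) (by omega)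
  obtain ⟨eJ⟩ : Nonempty (ClSub.idealMod ι.ker ≅ Twist.twistProjSpace (n + 1) k (-(a : ℤ))) := by
    rw [hI]; exact CIProj49.nonempty_hypIso (G 0) hG
  haveI := PnTop.smoothOfRelativeDimension_toSpec (n + 1) k
  haveI : IsProper (CohB1.ProjSpace.toSpec (n + 1) k) := ProjProper.Basic.isProper_toSpec (n + 1) k
  haveI : IsLocallyNoetherian (CohB1.ProjSpace (n + 1) k) := SerrePn.isLocallyNoetherian (n := n + 1) (R := k)
  haveI : SmoothOfRelativeDimension n (ι ≫ CohB1.ProjSpace.toSpec (n + 1) k) :=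
    inferInstanceAs (SmoothOfRelativeDimension n ((LefPen.ciIdeal G).subschemeι ≫ CohB1.ProjSpace.toSpec (n + 1) k))
  haveI : QuasiSeparated (ι ≫ CohB1.ProjSpace.toSpec (n + 1) k) := inferInstance
  obtain ⟨f, g, hi, hs, he⟩ := SmoothImm.exists_seq (CohB1.ProjSpace.toSpec (n + 1) k) ι (n + 1) n
  have hb := SmoothImm.exists_basis_omega (ι ≫ CohB1.ProjSpace.toSpec (n + 1) k) n
  haveI : IsIso (FanoCI.psi G) := by
    rcases isEmpty_or_nonempty ↥(LefPen.ciIdeal G).subscheme with hemp | hne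
    · exact isIso_of_stalk fun x => (hemp.false x).elim
    · refine FanoCI.isIso_psi G (by omega) ?_
      rw [Nat.add_sub_cancel]
      haveI : SmoothOfRelativeDimension n ((LefPen.ciIdeal G).subscheme ↘ Spec (CommRingCat.of k)) := by
        rw [hover]; infer_instance
      exact SmoothDual.topologicalKrullDim_eq k (r := n)
  let A : Fin 1 → (LefPen.ciIdeal G).subscheme.Modules := fun _ =>
    (Scheme.Modules.pullback ι).obj (FanoCI.tw a)
  let eA : A (Fin.last 0) ≅ CIHodge.O ι (-(a : ℤ)) :=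
    (Scheme.Modules.pullback ι).mapIso (eqToIso (by simp [Twist.twistProjSpace, FanoCI.tw]))
  haveI : IsIso (Sigma.ι A (Fin.last 0)) :=
    ⟨CIHodge.lastProj A, CIHodge.ι_lastProj A, Sigma.hom_ext _ _ fun j => by
      rw [show j = Fin.last 0 from Subsingleton.elim _ _, ← Category.assoc, CIHodge.ι_lastProj, Category.comp_id,
        Category.id_comp]⟩
  let φ : A (Fin.last 0) ⟶ Omega.conormal ι := Sigma.ι A (Fin.last 0) ≫ FanoCI.psi G
  haveI : IsIso φ := inferInstanceAs (IsIso (Sigma.ι A (Fin.last 0) ≫ FanoCI.psi G))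
  have hφ : ∀ x, Function.Bijective (stalkLin φ x) := fun x => by
    refine Function.bijective_iff_has_inverse.mpr ⟨stalkLin (inv φ) x, fun t => ?_, fun t => ?_⟩
    · rw [← stalkLin_comp, IsIso.hom_inv_id, stalkLin_id]
    · rw [← stalkLin_comp, IsIso.inv_hom_id, stalkLin_id]
  have cP := DualAbs.Bott.isCoh_Om (n := n + 1) (k := k)
  haveI := cP.1
  have cE : Coh.IsCoh ((Scheme.Modules.pullback ι).obj (DualAbs.Bott.Om (n + 1) k)) :=
    ZClosLib.CohDescent.isCoh_pullback ι _ cP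
  have cW : Coh.IsCoh (Omega.sheaf (ι ≫ CohB1.ProjSpace.toSpec (n + 1) k)) :=
    VBLib.isCoh_of_ofRank (CanonTriv.isFinLocFreeOfRank_omega (ι ≫ CohB1.ProjSpace.toSpec (n + 1) k) n)
  haveI := cE.1
  haveI := cW.1
  have hAi : PicF.IsInvertible (A (Fin.last 0)) :=
    PicCl.isInvertible_of_iso eA.symm (CIHodge.isInvertible_O ι _)
  haveI : (A (Fin.last 0)).IsQuasicoherent := ProjTwist.isQCoh_of_isInvertible hAi
  intro p
  induction p with
  | zero =>
    intro L hL c
    obtain ⟨e⟩ := S3203.extPow_iso hL (S3203.isExtPow_zero _)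
    have h := euler_restrict (k := k) (Nat.succ_pos n) ι w a eJ
      (S3203.isExtPow_zero (DualAbs.Bott.Om (n + 1) k)) c
    rw [EulerChar.euler_iso k (ProjTwist.tensCongr (Iso.refl _) (QCoh.pullbackUnitIso ι))] at h
    rw [EulerChar.euler_iso k (ProjTwist.tensCongr (Iso.refl _) e), h]
    rfl
  | succ p ih =>
    intro L₁ hL₁ c
    rw [add_comm p 1] at hL₁
    obtain ⟨L'', hL''⟩ := ExtPowSt.Exists.exists_isExtPow p (Omega.sheaf (ι ≫ CohB1.ProjSpace.toSpec (n + 1) k))
    obtain ⟨LP, hLP⟩ := DualAbs.Bott.exists_pow_Om (n := n + 1) (k := k) (1 + p)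
    have hLE := ExtPowSt.Pullback.isExtPow_pullback ι hLP
    obtain ⟨T, hT, ⟨e₁⟩, ⟨e₂⟩, ⟨e₃⟩⟩ := CIHodge.exists_wedge_sub (φ ≫ f) g
      (fun x s s' e => (hφ x).1 (hi x (((stalkLin_comp φ f x s).symm.trans e).trans (stalkLin_comp φ f x s')))) hs
      (fun x q => by
        rw [he x q]
        constructor
        · rintro ⟨c, rfl⟩
          obtain ⟨c', rfl⟩ := (hφ x).2 c
          exact ⟨c', stalkLin_comp _ _ _ _⟩
        · rintro ⟨c, rfl⟩
          exact ⟨stalkLin φ x c, (stalkLin_comp _ _ _ _).symm⟩)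
      (PnTop.exists_basis_invertible hAi) hb hLE hL'' hL₁
    have hV := ProjTwist.isFinLocFreeOfRank_one (CIHodge.isInvertible_O ι c)
    have c'' := ExtPowSt.isCoh ⟨hL''.choose, hL''.choose_spec⟩ cW
    have h := EulerChar.euler_add k (CohDev.tens_shortExact hV hT)
      (CohDev.isCoh_tens hV (CohDev.isCoh_of_iso e₁.symm
        (CohDev.isCoh_tens (ProjTwist.isFinLocFreeOfRank_one hAi) c'')))
      (CohDev.isCoh_tens hV (CohDev.isCoh_of_iso e₂.symm (ExtPowSt.isCoh ⟨hLE.choose, hLE.choose_spec⟩ cE)))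
      (CohDev.isCoh_tens hV (CohDev.isCoh_of_iso e₃.symm (ExtPowSt.isCoh ⟨hL₁.choose, hL₁.choose_spec⟩ cW)))
    change Curv2.euler k _ (CohB1.tensorMod (CIHodge.O ι c) T.X₂) =
      Curv2.euler k _ (CohB1.tensorMod (CIHodge.O ι c) T.X₁) +
        Curv2.euler k _ (CohB1.tensorMod (CIHodge.O ι c) T.X₃) at h
    obtain ⟨e⟩ := CIHodge.nonempty_O_tensor ι c (-(a : ℤ)) (c - a) (sub_eq_add_neg c (a : ℤ)).symm L''
    rw [EulerChar.euler_iso k (ProjTwist.tensCongr (Iso.refl _) e₂),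
      EulerChar.euler_iso k (ProjTwist.tensCongr (Iso.refl _) (e₁ ≪≫ ProjTwist.tensCongr eA (Iso.refl L'')) ≪≫ e),
      EulerChar.euler_iso k (ProjTwist.tensCongr (Iso.refl _) e₃),
      euler_restrict (k := k) (Nat.succ_pos n) ι w a eJ hLP c, ih L'' hL'' (c - a)] at h
    rw [show HypGenus.e a n (p + 1) c = _ from rfl, HypGenus.e, show p + 1 = 1 + p from add_comm _ _]
    linarith

/-- `χ(Y, Ω^p)` as a finite alternating sum. -/
theorem sum_hyp {n a : ℕ} (ha : 1 ≤ a) (G : Fin 1 → LefPen.Form (n + 1) k a)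
    [SmoothOfRelativeDimension n ((LefPen.ciIdeal G).subschemeι ≫ CohB1.ProjSpace.toSpec (n + 1) k)]
    [(LefPen.ciIdeal G).subscheme.Over (Spec (CommRingCat.of k))]
    (hover : (LefPen.ciIdeal G).subscheme ↘ Spec (CommRingCat.of k) =
      (LefPen.ciIdeal G).subschemeι ≫ CohB1.ProjSpace.toSpec (n + 1) k)
    {p : ℕ} {L : (LefPen.ciIdeal G).subscheme.Modules}
    (hL : ExtPow.IsExtPow p (Omega.sheaf ((LefPen.ciIdeal G).subschemeι ≫ CohB1.ProjSpace.toSpec (n + 1) k)) L) :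
    ∑ q ∈ Finset.range (n + 1), (-1 : ℤ) ^ q *
        (Module.finrank k (Coh.HH (LefPen.ciIdeal G).subscheme L q) : ℤ) = HypGenus.e a n p 0 := by
  haveI := CIHodge.isProper_ci G hover
  obtain ⟨e⟩ := CIHodge.nonempty_O_zero (LefPen.ciIdeal G).subschemeι
  rw [← euler_hyp ha G hover p L hL 0,
    EulerChar.euler_iso k (ProjTwist.tensCongr e (Iso.refl L) ≪≫ ProjTwist.oneTens L),
    EulerChar.euler_eq_sum k (t := n + 1) fun q hq => CIHodge.subsingleton_of_gt G hover (Or.inl (by omega)) hL]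

theorem e_of_gt {n a : ℕ} (ha : 1 ≤ a) (G : Fin 1 → LefPen.Form (n + 1) k a)
    [SmoothOfRelativeDimension n ((LefPen.ciIdeal G).subschemeι ≫ CohB1.ProjSpace.toSpec (n + 1) k)]
    [(LefPen.ciIdeal G).subscheme.Over (Spec (CommRingCat.of k))]
    (hover : (LefPen.ciIdeal G).subscheme ↘ Spec (CommRingCat.of k) =
      (LefPen.ciIdeal G).subschemeι ≫ CohB1.ProjSpace.toSpec (n + 1) k)
    {p : ℕ} (hp : n < p) : HypGenus.e a n p 0 = 0 := by
  haveI : (Omega.sheaf ((LefPen.ciIdeal G).subschemeι ≫ CohB1.ProjSpace.toSpec (n + 1) k)).IsQuasicoherent := by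
    haveI : IsProper (CohB1.ProjSpace.toSpec (n + 1) k) := ProjProper.Basic.isProper_toSpec (n + 1) k
    haveI : QuasiSeparated ((LefPen.ciIdeal G).subschemeι ≫ CohB1.ProjSpace.toSpec (n + 1) k) := inferInstance
    exact (VBLib.isCoh_of_ofRank (CanonTriv.isFinLocFreeOfRank_omega
      ((LefPen.ciIdeal G).subschemeι ≫ CohB1.ProjSpace.toSpec (n + 1) k) n)).1
  obtain ⟨L, hL⟩ := ExtPowSt.Exists.exists_isExtPow p
    (Omega.sheaf ((LefPen.ciIdeal G).subschemeι ≫ CohB1.ProjSpace.toSpec (n + 1) k))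
  rw [← sum_hyp ha G hover hL]
  refine Finset.sum_eq_zero fun q _ => ?_
  haveI := CIHodge.subsingleton_of_gt G hover (i := q) (Or.inr hp) hL
  rw [Module.finrank_zero_of_subsingleton, Nat.cast_zero, mul_zero]

end Groth.Agent.DualAbs.HypChi

namespace Groth.Agent.DualAbs.HypChi

variable {k : Type u} [Field k]

/-- `χ(Y, Ω^p)` for a hypersurface given by a single form. -/
theorem genus_hyp {n a : ℕ} (ha : 1 ≤ a) (F : LefPen.Form (n + 1) k a)
    (I : (CohB1.ProjSpace (n + 1) k).IdealSheafData) (hI : I = LefPen.hypIdeal F)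
    [SmoothOfRelativeDimension n (I.subschemeι ≫ CohB1.ProjSpace.toSpec (n + 1) k)]
    [I.subscheme.Over (Spec (CommRingCat.of k))]
    (hover : I.subscheme ↘ Spec (CommRingCat.of k) = I.subschemeι ≫ CohB1.ProjSpace.toSpec (n + 1) k)
    (p : ℕ) :
    (∀ L : I.subscheme.Modules, ExtPow.IsExtPow p (Omega.sheaf (I.subschemeι ≫ CohB1.ProjSpace.toSpec (n + 1) k)) L →
      ∑ q ∈ Finset.range (n + 1), (-1 : ℤ) ^ q * (Module.finrank k (Coh.HH I.subscheme L q) : ℤ) =
        HypGenus.e a n p 0) ∧ (n < p → HypGenus.e a n p 0 = 0) := by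
  have hci : LefPen.hypIdeal F = LefPen.ciIdeal (fun _ : Fin 1 => F) :=
    le_antisymm (le_iSup (fun _ : Fin 1 => LefPen.hypIdeal F) 0) (iSup_le fun _ => le_rfl)
  obtain rfl : I = LefPen.ciIdeal (fun _ : Fin 1 => F) := hI.trans hci
  exact ⟨fun L hL => sum_hyp ha (fun _ => F) hover hL, fun hp => e_of_gt ha (fun _ => F) hover hp⟩

end Groth.Agent.DualAbs.HypChi
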