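import Groth.Agent.DualAbs.CMCrit
import Groth.Agent.TwistFlat.Proj
import Groth.Agent.RelProjLib.ProjMap
import Groth.Agent.CurveCoh.Integral
import Groth.Agent.S4389
import Groth.Agent.S0558
import Groth.Prelude.Def_GrTwist

/-!
# `Proj` of a standard graded algebra inside `P^N`; the criterion for local freeness on it
-/

universe u

open CategoryTheory CategoryTheory.Limits AlgebraicGeometry
open Groth.Agent.ProjTwist Groth.Agent.ProjTwist.Pn

noncomputable section

namespace Groth.Agent.DualAbs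

set_option maxHeartbeats 1000000
set_option synthInstance.maxHeartbeats 400000

section GradedMap

open Twist Groth.Agent.QCoh Groth.Agent.Props.GenLocus Groth.Agent.Props.GenTensor Groth.Agent.Props.GenPull

variable {R A B : Type u} [CommRing R] [CommRing A] [Algebra R A] [CommRing B] [Algebra R B]
  {𝒜 : ℕ → Submodule R A} [GradedAlgebra 𝒜] {ℬ : ℕ → Submodule R B} [GradedAlgebra ℬ]
  (θ : 𝒜 →+*ᵍ ℬ) (hθ : HomogeneousIdeal.irrelevant ℬ ≤ (HomogeneousIdeal.irrelevant 𝒜).map θ)

theorem app_fracFun {U : (Proj 𝒜).Opens} {a b : A} (ha : a ∈ 𝒜 1) (hb : b ∈ 𝒜 1)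
    (h : U ≤ Proj.basicOpen 𝒜 b) :
    (Proj.map θ hθ).app U (fracFun ha hb h) =
      fracFun (θ.2 ha) (θ.2 hb)
        (show Proj.map θ hθ ⁻¹ᵁ U ≤ Proj.basicOpen ℬ (θ b) from (Proj.map θ hθ).preimage_mono h) := by
  refine valAt_ext fun x hx => ?_
  refine Eq.trans ?_ (valAt_fracFun _ _ _ x hx).symm
  refine (HomogeneousLocalization.val_localRingHom _).trans ?_
  exact Localization.localRingHom_mk _ _ _ _ _ _

theorem nonempty_pullback_twist_one {κ : Type*} (t : κ → A) (ht : ∀ i, t i ∈ 𝒜 1)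
    (hcov : ⨆ i, Proj.basicOpen 𝒜 (t i) = ⊤) :
    Nonempty ((Scheme.Modules.pullback (Proj.map θ hθ)).obj (twist 𝒜 1) ≅ twist ℬ 1) := by
  let g := Proj.map θ hθ
  refine PicLaw.nonempty_iso_of_transition (fun i => g ⁻¹ᵁ Proj.basicOpen 𝒜 (t i)) ?_
    (fun i => pb g (powGen (ht i) 1)) (fun i => isGen_pb g (isGen_powGen (ht i) 1))
    (fun i => powGen (θ.2 (ht i)) 1) (fun i => isGen_powGen (θ.2 (ht i)) 1) ?_
  · intro x
    obtain ⟨i, hi⟩ := TopologicalSpace.Opens.mem_iSup.mp
      (hcov.ge (trivial : g x ∈ (⊤ : (Proj 𝒜).Opens)))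
    exact ⟨i, hi⟩
  intro i j V hi hj
  have hV : V ≤ g ⁻¹ᵁ (Proj.basicOpen 𝒜 (t i) ⊓ Proj.basicOpen 𝒜 (t j)) := fun z hz => ⟨hi hz, hj hz⟩
  have hu := TwistFlat.res_powGen_eq (ht j) (ht i) (Proj.basicOpen 𝒜 (t i) ⊓ Proj.basicOpen 𝒜 (t j))
    inf_le_right inf_le_left
  refine ⟨rres hV (g.app _ (fracFun (ht j) (ht i) inf_le_left)), ?_, ?_⟩
  · exact TwistFlat.pb_transition g inf_le_left inf_le_right hu hV hi hj
  · rw [app_fracFun]
    exact TwistFlat.res_powGen_eq _ _ V hj hi

end GradedMap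

/-- All twists pull back to twists once `O(1)` does. -/
theorem nonempty_pullback_twist_all {N : ℕ} {k : Type u} [Field k] {X : Scheme.{u}}
    (f : X ⟶ CohB1.ProjSpace N k) (L : ℤ → X.Modules)
    (hL : ∀ a b : ℤ, Nonempty (CohB1.tensorMod (L a) (L b) ≅ L (a + b)))
    (h0 : Nonempty (L 0 ≅ Coh.structureModule X))
    (h1 : Nonempty ((Scheme.Modules.pullback f).obj (Twist.twistProjSpace N k 1) ≅ L 1)) (n : ℤ) :
    Nonempty ((Scheme.Modules.pullback f).obj (Twist.twistProjSpace N k n) ≅ L n) := by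
  let P := fun m : ℤ => (Scheme.Modules.pullback f).obj (Twist.twistProjSpace N k m)
  obtain ⟨e1⟩ := h1
  obtain ⟨e0⟩ := h0
  have up : ∀ a : ℤ, Nonempty (CohB1.tensorMod (P a) (L 1) ≅ P (a + 1)) := fun a =>
    ⟨tensCongr (Iso.refl _) e1.symm ≪≫ (KFlat.PullTensor.pullTensorIso f _ _).symm ≪≫
      (Scheme.Modules.pullback f).mapIso (nonempty_twistProjSpace_tensor N k a 1).some⟩
  induction n with
  | zero => exact ⟨(Scheme.Modules.pullback f).mapIso (twistZeroIso (CohB1.polyGrading N k)).symm ≪≫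
      QCoh.pullbackUnitIso f ≪≫ e0.symm⟩
  | succ i ih =>
    exact ⟨(up i).some.symm ≪≫ tensCongr ih.some (Iso.refl _) ≪≫ (hL i 1).some⟩
  | pred i ih =>
    refine ⟨(tensOne _).symm ≪≫ tensCongr (Iso.refl _) (e0.symm ≪≫ eqToIso (congrArg L
        (show (0 : ℤ) = 1 + -1 by norm_num)) ≪≫ (hL 1 (-1)).some.symm) ≪≫
      (tensAssoc _ _ _).symm ≪≫ tensCongr ((up (-(i : ℤ) - 1)).some ≪≫ eqToIso ?_ ≪≫ ih.some)
        (Iso.refl _) ≪≫ (hL (-(i : ℤ)) (-1)).some ≪≫ eqToIso (congrArg L (by ring))⟩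
    exact congrArg P (by ring)

variable {K A : Type u} [Field K] [CommRing A] [Algebra K A] [IsNoetherianRing A]
  {𝒜 : ℕ → Submodule K A} [GradedAlgebra 𝒜]

theorem exists_gens_one (hgen : (HomogeneousIdeal.irrelevant 𝒜).toIdeal = Ideal.span (𝒜 1 : Set A))
    (h0 : ∀ a : A, a ∈ 𝒜 0 ↔ a ∈ Set.range (algebraMap K A)) :
    ∃ (N : ℕ) (b : Fin (N + 1) → A), (∀ i, b i ∈ 𝒜 1) ∧ Algebra.adjoin K (Set.range b) = ⊤ ∧
      (HomogeneousIdeal.irrelevant 𝒜).toIdeal = Ideal.span (Set.range b) := by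
  obtain ⟨s, hs, hspan⟩ := (Submodule.fg_span_iff_fg_span_finset_subset (R := A) (𝒜 1 : Set A)).mp
    (IsNoetherian.noetherian _)
  let b : Fin (s.card + 1) → A := Fin.cons 0 fun i => (s.equivFin.symm i).1
  have hb : ∀ i, b i ∈ 𝒜 1 := fun i => by
    refine Fin.cases ?_ (fun j => ?_) i
    · exact (𝒜 1).zero_mem
    · exact hs (s.equivFin.symm j).2
  have hsb : (s : Set A) ⊆ Set.range b := fun x hx => ⟨(s.equivFin ⟨x, hx⟩).succ, by simp [b]⟩
  have hirr : (HomogeneousIdeal.irrelevant 𝒜).toIdeal = Ideal.span (Set.range b) := by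
    refine le_antisymm ?_ (hgen ▸ Ideal.span_mono (Set.range_subset_iff.mpr hb))
    rw [hgen]
    exact le_trans (le_of_eq hspan) (Ideal.span_mono hsb)
  refine ⟨_, b, hb, ?_, hirr⟩
  have h := (S4389.result 𝒜 (Set.range b) (by rintro _ ⟨i, rfl⟩; exact ⟨1, one_pos, hb i⟩)).mp hirr
  refine eq_top_iff.mpr fun x _ => ?_
  have hx : x ∈ Algebra.adjoin (𝒜 0) (Set.range b) := h.ge Algebra.mem_top
  induction hx using Algebra.adjoin_induction with
  | mem y hy => exact Algebra.subset_adjoin hy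
  | algebraMap r =>
    obtain ⟨c, hc⟩ := (h0 _).mp r.2
    rw [show algebraMap (𝒜 0) A r = algebraMap K A c from hc.symm]
    exact Subalgebra.algebraMap_mem _ c
  | add y z _ _ hy hz => exact add_mem (hy Algebra.mem_top) (hz Algebra.mem_top)
  | mul y z _ _ hy hz => exact mul_mem (hy Algebra.mem_top) (hz Algebra.mem_top)

theorem aeval_mem {N : ℕ} {b : Fin (N + 1) → A} (hb : ∀ i, b i ∈ 𝒜 1) {d : ℕ}
    {p : MvPolynomial (Fin (N + 1)) K} (hp : p ∈ CohB1.polyGrading N K d) :
    MvPolynomial.aeval b p ∈ 𝒜 d := by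
  rw [p.as_sum, map_sum]
  refine Submodule.sum_mem _ fun e he => ?_
  rw [MvPolynomial.aeval_monomial, ← Algebra.smul_def]
  refine Submodule.smul_mem _ _ ?_
  have hd : ∑ i, e i = d := by
    have := ((MvPolynomial.mem_homogeneousSubmodule d p).mp hp) (MvPolynomial.mem_support_iff.mp he)
    simpa [Finsupp.weight_apply, Finsupp.sum_fintype] using this
  rw [Finsupp.prod_fintype _ _ (by simp), ← hd]
  exact SetLike.prod_mem_graded 𝒜 (fun i => e i) (fun i => b i ^ e i) fun i _ => by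
    simpa using SetLike.pow_mem_graded (e i) (hb i)

/-- A standard graded algebra gives a closed subscheme of some `P^N` with the same twists. -/
theorem exists_embedding (h0 : ∀ a : A, a ∈ 𝒜 0 ↔ a ∈ Set.range (algebraMap K A))
    (hgen : (HomogeneousIdeal.irrelevant 𝒜).toIdeal = Ideal.span (𝒜 1 : Set A)) :
    ∃ (N : ℕ) (ι : Proj 𝒜 ⟶ CohB1.ProjSpace N K), IsClosedImmersion ι ∧
      ∀ n : ℤ, Nonempty (pbTwist ι n ≅ Twist.twist 𝒜 n) := by
  obtain ⟨N, b, hb, hadj, hirr⟩ := exists_gens_one hgen h0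
  let θ : CohB1.polyGrading N K →+*ᵍ 𝒜 :=
    { (MvPolynomial.aeval b).toRingHom with map_mem := fun {d p} hp => aeval_mem hb hp }
  have hsurj : Function.Surjective θ := fun x => by
    have hx : x ∈ (MvPolynomial.aeval b : MvPolynomial (Fin (N + 1)) K →ₐ[K] A).range := by
      rw [← Algebra.adjoin_range_eq_range_aeval, hadj]
      exact Algebra.mem_top
    exact hx
  have hθ : HomogeneousIdeal.irrelevant 𝒜 ≤
      (HomogeneousIdeal.irrelevant (CohB1.polyGrading N K)).map θ := by
    show (HomogeneousIdeal.irrelevant 𝒜).toIdeal ≤ _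
    rw [hirr, Ideal.span_le]
    rintro _ ⟨i, rfl⟩
    refine Eq.subst (motive := fun z => z ∈ _) (show θ (MvPolynomial.X i) = b i from MvPolynomial.aeval_X b i) ?_
    exact Ideal.mem_map_of_mem _
      (HomogeneousIdeal.mem_irrelevant_of_mem _ one_pos (X_mem_polyGrading N K i))
  refine ⟨N, Proj.map θ hθ, RelProjLib.isClosedImmersion_map θ hθ hsurj, fun n => ?_⟩
  have hcov : ⨆ i, Proj.basicOpen 𝒜 (b i) = ⊤ :=
    Proj.iSup_basicOpen_eq_top _ _ (le_of_eq hirr)
  exact nonempty_pullback_twist_all (Proj.map θ hθ) (Twist.twist 𝒜)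
    (nonempty_twist_tensor b hb hcov) ⟨(twistZeroIso 𝒜).symm⟩
    (nonempty_pullback_twist_one θ hθ MvPolynomial.X (X_mem_polyGrading N K) (iSup_stdOpen N K)) n

variable {N : ℕ} {X : Scheme.{u}} (ι : X ⟶ CohB1.ProjSpace N K) [IsClosedImmersion ι]

include ι in
/-- Closed points of a connected regular projective scheme have local rings of dimension `dim`. -/
theorem ringKrullDim_closed [ConnectedSpace X] (hreg : ∀ x : X, IsRegularLocalRing (X.presheaf.stalk x))
    {d : ℕ} (hd : topologicalKrullDim X = d) {y : X} (hy : IsClosed ({y} : Set X)) :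
    ringKrullDim (X.presheaf.stalk y) = d := by
  have := SerrePn.isLocallyNoetherian (n := N) (R := K)
  have := isLocallyNoetherian_source ι
  have := compactSpace (N := N) (k := K)
  have : CompactSpace X := ι.isClosedEmbedding.compactSpace
  have : IsNoetherian X := ⟨⟩
  have := CurveCoh.irreducibleSpace_of_domain_stalks X fun x =>
    have := hreg x
    S0558.result _
  letI : X.Over (Spec (CommRingCat.of K)) := ⟨ι ≫ CohB1.ProjSpace.toSpec N K⟩
  have : LocallyOfFiniteType (CohB1.ProjSpace.toSpec N K) := ProjTwist.Pn.locallyOfFiniteType_toSpec N K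
  have : LocallyOfFiniteType (X ↘ Spec (CommRingCat.of K)) :=
    inferInstanceAs (LocallyOfFiniteType (ι ≫ CohB1.ProjSpace.toSpec N K))
  obtain ⟨-, -, -, h⟩ := FlatOpen.EquiDim.coheight_add_dimPt K (c := d)
    ((FlatOpen.EquiDim.irreducibleComponents_dimPt_iff K d).mp fun Z hZ => by
      rw [irreducibleComponents_eq_singleton, Set.mem_singleton_iff] at hZ
      subst hZ
      rw [IsHomeomorph.topologicalKrullDim_eq _ (Homeomorph.Set.univ _).isHomeomorph]
      exact hd) y
  exact (S1617.result K _ y hy).symm.trans h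

/-- Vanishing of cohomology below the dimension in very negative twists means locally free. -/
theorem isFinLocFree_iff_vanish [ConnectedSpace X]
    (hreg : ∀ x : X, IsRegularLocalRing (X.presheaf.stalk x)) {d : ℕ} (hd : topologicalKrullDim X = d)
    {F : X.Modules} (hF : Coh.IsCoh F) :
    FlatMod.IsFinLocFree F ↔ ∃ q₀ : ℕ, ∀ q : ℕ, q₀ ≤ q → ∀ j : ℕ, j < d →
      Subsingleton (Coh.HH X (CohB1.tensorMod F (pbTwist ι (-(q : ℤ)))) j) := by
  have := SerrePn.isLocallyNoetherian (n := N) (R := K)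
  have := isLocallyNoetherian_source ι
  have := compactSpace (N := N) (k := K)
  have : CompactSpace X := ι.isClosedEmbedding.compactSpace
  have := hF.1
  have hfin : ∀ y : X, Module.Finite (X.presheaf.stalk y) (F.presheaf.stalk y) := fun y => by
    obtain ⟨_, ⟨U, hU, rfl⟩, hyU, -⟩ := X.isBasis_affineOpens.exists_subset_of_mem_open
      (Set.mem_univ y) isOpen_univ
    have := CohDev.finite_sections hF hU
    exact Props.QProj.finite_stalk F hU hyU
  constructor
  · intro h
    refine exists_vanish_of_depth ι hF fun z hz => ?_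
    have := hreg z
    have := hfin z
    have := (Props.QProj.free_stalk F h z).1
    have := (ABReg.le_depth_iff (ringKrullDim_closed ι hreg hd hz) 0 (F.presheaf.stalk z)).mpr
      (RegLoc.PD.pd_of_projective (R := X.presheaf.stalk z) (F.presheaf.stalk z) 0)
    simpa using this
  · rintro ⟨q₀, hq₀⟩
    refine isFinLocFree_of_closed hF fun y hy => ?_
    have := hreg y
    have := hfin y
    have hdep : (d : ℕ∞) ≤ LocCoh.depth (X.presheaf.stalk y) (F.presheaf.stalk y) := by
      rcases d with _ | d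
      · exact bot_le
      have hy' : IsClosed ({ι y} : Set (CohB1.ProjSpace N K)) := by
        rw [← Set.image_singleton]
        exact ι.isClosedEmbedding.isClosedMap _ hy
      have := (depth_iff_vanish _ (ProperFin.isCoh_push_of_isFinite ι _ hF) d).mp
        ⟨q₀, fun m hm j hj => by
          obtain ⟨q, rfl⟩ : ∃ q : ℕ, m = q := ⟨m.toNat, by omega⟩
          exact (subsingleton_twist_iff ι hF _ j).mp (hq₀ q (by omega) j (by omega))⟩ (ι y) hy'
      rw [depth_push] at this
      rw [Nat.cast_succ]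
      exact Order.add_one_le_of_lt this
    have hpd := (ABReg.le_depth_iff (ringKrullDim_closed ι hreg hd hy) 0 (F.presheaf.stalk y)).mp
      (by simpa using hdep)
    have : Module.Projective (X.presheaf.stalk y) (F.presheaf.stalk y) := (RegLoc.PD.pd_zero_iff _).mp hpd
    exact Module.free_of_flat_of_isLocalRing

end Groth.Agent.DualAbs
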