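import Groth.Agent.Snapper.Binom
import Groth.Agent.DualAbs.Closed
import Groth.Agent.FlatOpen.EquiDim
import Groth.Agent.ExtHom.Linear
import Groth.Agent.ProjTwist.Tensor
import Groth.Agent.S1617
import Groth.Agent.ProjProper.Basic
import Groth.Agent.DEq.LocFreeCx

/-!
# Riemann–Roch for surfaces from duality
-/

set_option autoImplicit false
set_option linter.style.haveILetI false

universe u

open CategoryTheory CategoryTheory.Limits AlgebraicGeometry

noncomputable section

namespace Groth.Agent.DualAbs.SurfRR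

open Groth.Agent.ProjTwist

section Numeric

variable {X : Scheme.{u}} (k : Type u) [Field k] [X.Over (Spec (CommRingCat.of k))]
  [IsProper (X ↘ Spec (CommRingCat.of k))]

theorem intE_two {A B : X.Modules} (hA : PicF.IsInvertible A) (hB : PicF.IsInvertible B) {G : X.Modules}
    (hG : Coh.IsCoh G) :
    Snapper.intE k ![A, B] G = Curv2.euler k X G - Curv2.euler k X (CohB1.tensorMod A G) -
      Curv2.euler k X (CohB1.tensorMod B G) + Curv2.euler k X (CohB1.tensorMod B (CohB1.tensorMod A G)) := by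
  have h1 : ∀ {H : X.Modules}, Coh.IsCoh H → Snapper.intE k (Fin.cons B (fun i : Fin 0 => i.elim0)) H =
      Curv2.euler k X H - Curv2.euler k X (CohB1.tensorMod B H) := fun {H} hH => by
    rw [Snapper.intE_cons k (fun i => i.elim0) hB hH, map_sub,
      Snapper.intK_kcl k (fun i => i.elim0) (Snapper.isCoh_tensorMod k hB hH),
      Snapper.intK_kcl k (fun i => i.elim0) hH, Snapper.intE_zero, Snapper.intE_zero]
    ring
  rw [show (![A, B] : Fin 2 → X.Modules) = Fin.cons A (Fin.cons B fun i : Fin 0 => i.elim0) from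
    funext fun i => by fin_cases i <;> rfl,
    Snapper.intE_cons k (fun i => by fin_cases i; exact hB) hA hG, map_sub,
    Snapper.intK_kcl k (fun i => by fin_cases i; exact hB) (Snapper.isCoh_tensorMod k hA hG),
    Snapper.intK_kcl k (fun i => by fin_cases i; exact hB) hG, h1 hG, h1 (Snapper.isCoh_tensorMod k hA hG)]
  ring

/-- Riemann–Roch on a surface, given the two instances of duality it uses. -/
theorem rr (hdim : topologicalKrullDim X ≤ ((2 : ℕ) : WithBot ℕ∞)) {L L' ω : X.Modules}
    (hL : PicF.IsInvertible L) (hω : PicF.IsInvertible ω) (hL' : PicF.IsInvertible L')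
    (e : CohB1.tensorMod L L' ≅ Coh.structureModule X)
    (h₀ : Curv2.euler k X ω = Curv2.euler k X (Coh.structureModule X))
    (h₁ : Curv2.euler k X (CohB1.tensorMod ω L) = Curv2.euler k X L') :
    2 * Curv2.euler k X L = FGA.intNum k X 2 ![L, L] (Coh.structureModule X) -
      FGA.intNum k X 2 ![L, ω] (Coh.structureModule X) + 2 * Curv2.euler k X (Coh.structureModule X) := by
  have hO := VBLib.isCoh_of_ofRank (isFinLocFreeOfRank_one (PicLoc.isInvertible_structureModule X))
  have hc' := VBLib.isCoh_of_ofRank (isFinLocFreeOfRank_one hL')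
  have e3 : Snapper.intE k ![L, L, L] L' = 0 := by
    refine Snapper.intE_eq_zero k (fun i => by fin_cases i <;> exact hL) hc' ?_
    refine lt_of_le_of_lt ((Topology.IsEmbedding.subtypeVal.isInducing.topologicalKrullDim_le).trans hdim) ?_
    exact_mod_cast (by norm_num : (2 : ℕ) < 3)
  rw [show (![L, L, L] : Fin 3 → X.Modules) = Fin.cons L ![L, L] from rfl,
    Snapper.intE_cons k (fun i => by fin_cases i <;> exact hL) hL hc', map_sub,
    Snapper.intK_kcl k (fun i => by fin_cases i <;> exact hL) (Snapper.isCoh_tensorMod k hL hc'),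
    Snapper.intK_kcl k (fun i => by fin_cases i <;> exact hL) hc',
    intE_two k hL hL (Snapper.isCoh_tensorMod k hL hc'), intE_two k hL hL hc'] at e3
  let u := fun M : X.Modules => tensOne M
  rw [EulerChar.euler_iso k (tensCongr (Iso.refl L) (tensCongr (Iso.refl L) e)),
    EulerChar.euler_iso k (tensCongr (Iso.refl L) e), EulerChar.euler_iso k e,
    EulerChar.euler_iso k (tensCongr (Iso.refl L) (u L)), EulerChar.euler_iso k (u L)] at e3
  rw [Snapper.intNum_eq k hdim, Snapper.intNum_eq k hdim, intE_two k hL hL hO, intE_two k hL hω hO,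
    EulerChar.euler_iso k (tensCongr (Iso.refl L) (u L)), EulerChar.euler_iso k (u L),
    EulerChar.euler_iso k (tensCongr (Iso.refl ω) (u L)), EulerChar.euler_iso k (u ω), h₀, h₁]
  linarith

end Numeric

variable {k : Type u} [Field k] {N n : ℕ} {X : Scheme.{u}} [X.Over (Spec (CommRingCat.of k))]
  (ι : X ⟶ CohB1.ProjSpace N k) [IsClosedImmersion ι]

include ι in
/-- Euler characteristics under duality on a Cohen–Macaulay surface. -/
theorem euler_dual (hι : ι ≫ CohB1.ProjSpace.toSpec N k = X ↘ Spec (CommRingCat.of k))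
    (hn : topologicalKrullDim ↥X = (2 : ℕ))
    (hCM : ∀ x : X, LocCoh.IsCohenMacaulayLocalRing (X.presheaf.stalk x))
    (heq : ∀ Z : Set ↥X, Z ∈ irreducibleComponents ↥X → topologicalKrullDim ↥Z = ((2 : ℕ) : WithBot ℕ∞))
    (ω : X.Modules) (hω : Coh.IsCoh ω) (t : Coh.HH X ω 2 →ₗ[k] k)
    (hdual : ∀ F : X.Modules, Coh.IsCoh F → ∀ ψ : Coh.HH X F 2 →ₗ[k] k,
        ∃! φ : F ⟶ ω, ∀ x : Coh.HH X F 2,
          ψ x = t (Sheaf.H.map ((SheafOfModules.toSheaf X.ringCatSheaf).map φ) 2 x))
    {L L' : X.Modules} (hL : PicF.IsInvertible L) (e : CohB1.tensorMod L' L ≅ Coh.structureModule X)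
    (hT : Coh.IsCoh (CohB1.tensorMod L' ω)) :
    Curv2.euler k X L = Curv2.euler k X (CohB1.tensorMod L' ω) := by
  haveI := DualAbs.isLocallyNoetherian_source ι
  haveI : IsProper (CohB1.ProjSpace.toSpec N k) := ProjProper.Basic.isProper_toSpec N k
  haveI : IsProper (X ↘ Spec (CommRingCat.of k)) := by rw [← hι]; infer_instance
  have hCM' : ∀ x : X, IsClosed ({x} : Set ↥X) →
      LocCoh.IsCohenMacaulayLocalRing (X.presheaf.stalk x) ∧
        ringKrullDim (X.presheaf.stalk x) = (2 : ℕ) := fun x hx => by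
    refine ⟨hCM x, ?_⟩
    obtain ⟨-, -, -, h⟩ := FlatOpen.EquiDim.coheight_add_dimPt k
      ((FlatOpen.EquiDim.irreducibleComponents_dimPt_iff k 2).mp heq) x
    exact (S1617.result k X x hx).symm.trans h
  haveI : HasExt.{u} X.Modules := ModShf.schemeModulesHasExt _
  haveI := KFlat.hasSheafHom_scheme L
  have hF : FlatMod.IsFinLocFree L := DEq.LocFreeCx.isFinLocFree_of_ofRank (isFinLocFreeOfRank_one hL)
  have hLc := VBLib.isCoh_of_isFinLocFree hF
  have key : ∀ i, i ≤ 2 → Module.finrank k (Coh.HH X L i) =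
      Module.finrank k (Coh.HH X (CohB1.tensorMod L' ω) (2 - i)) := fun i hi => by
    obtain ⟨e₁⟩ := (DualAbs.dualAt (t := t) hdual (DualAbs.hasAcyclicCovers ι hn hCM' hω) (2 - i) L hLc).1
      (Nat.sub_le 2 i)
    obtain ⟨e₂⟩ := ExtHom.nonempty_ext_linearEquiv k hF ω (2 - i)
    obtain ⟨e₃⟩ := DualAbs.nonempty_sheafHom_invertible L L' e ω
    rw [Nat.sub_sub_self hi] at e₁
    exact (Subspace.dual_finrank_eq (K := k)).symm.trans
      ((e₁.symm ≪≫ₗ e₂).finrank_eq.trans (CohLES.mapEquiv k e₃ (2 - i)).finrank_eq)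
  have van : ∀ M : X.Modules, Coh.IsCoh M → ∀ j, 3 ≤ j → Subsingleton (Coh.HH X M j) := fun M hM j hj =>
    haveI := EulerChar.isNoetherian k (X := X)
    CohTop.Vanishing.grothendieck_vanishing (X := X.toPresheafedSpace.carrier) 2 hn.le (Coh.toAb M) j (by omega)
  rw [EulerChar.euler_eq_sum k (van _ hLc), EulerChar.euler_eq_sum k (van _ hT)]
  simp only [Finset.sum_range_succ, Finset.sum_range_zero, key 0 (by omega), key 1 (by omega),
    key 2 le_rfl]
  ring

end Groth.Agent.DualAbs.SurfRR
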