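import Groth.Agent.DualAbs.HypChi
import Groth.Agent.S13973
import Groth.Agent.S10931
import Groth.Agent.S6472
import Groth.Agent.S10820
import Groth.Agent.S10829
import Groth.Agent.FFCurve.PlaneChart
import Groth.Agent.FFCurve.AlgClosed

/-!
# The tangent sheaf of a smooth surface in `P^3`
-/

set_option autoImplicit false
set_option linter.style.haveILetI false
set_option maxHeartbeats 800000

universe u

open CategoryTheory CategoryTheory.Limits AlgebraicGeometry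

noncomputable section

namespace Groth.Agent.DualAbs.SurfTangent

variable {k : Type u} [Field k]

section Range

open Groth.Agent.SepTang48 (D isAffineOpen_D)
open Groth.Agent.QCoh Groth.Agent.ProjMorph Groth.Agent.Props.ProjFrame

theorem range_hyp {d : ℕ} (f : LefPen.Form 3 k d) :
    Set.range (LefPen.hypIdeal f).subschemeι =
      ProjectiveSpectrum.zeroLocus (CohB1.polyGrading 3 k) ({f.1} : Set (MvPolynomial (Fin 4) k)) := by
  rw [Scheme.IdealSheafData.range_subschemeι]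
  ext x
  obtain ⟨i, hi⟩ : ∃ i, x ∈ D k 3 i := SepTang48.exists_mem_D x
  have key : x ∈ (LefPen.hypIdeal f).support ↔
      x ∉ (CohB1.ProjSpace 3 k).basicOpen (LefPen.dehom f i) := by
    have h := Set.ext_iff.1 ((LefPen.hypIdeal f).coe_support_inter ⟨D k 3 i, isAffineOpen_D k 3 i⟩) x
    rw [LefHyp.hypIdeal_ideal_of_le f i ⟨D k 3 i, isAffineOpen_D k 3 i⟩ le_rfl] at h
    simp only [Set.mem_inter_iff, SetLike.mem_coe, hi, and_true, Scheme.zeroLocus_span,
      Scheme.zeroLocus_singleton, Set.mem_compl_iff] at h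
    rw [h]
    exact not_congr (by rw [Scheme.basicOpen_res]; simp [hi])
  rw [SetLike.mem_coe, key, LefHyp.dehom_eq_coeff f i (LefHyp.D_le_pow i d)]
  have hb := basicOpen_coeff (𝒜 := CohB1.polyGrading 3 k) f.2 (LefHyp.X_pow_mem i d) (D k 3 i) (LefHyp.D_le_pow i d)
  refine Iff.trans (not_congr (show x ∈ (CohB1.ProjSpace 3 k).basicOpen
      (coeff f.2 (LefHyp.X_pow_mem i d) (D k 3 i) (LefHyp.D_le_pow i d)) ↔
      (f.1 : MvPolynomial (Fin 4) k) ∉ (show ProjectiveSpectrum (CohB1.polyGrading 3 k) from x).asHomogeneousIdeal from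
    (SetLike.ext_iff.1 hb x).trans ⟨fun h => h.2, fun h => ⟨hi, h⟩⟩)) ?_
  rw [not_not]
  exact Set.singleton_subset_iff.symm

theorem connectedSpace_hyp {d : ℕ} (f : LefPen.Form 3 k d) (hd : 0 < d) (hf : f.1 ≠ 0) :
    ConnectedSpace (LefPen.hypIdeal f).subscheme := by
  have h := S10820.result k 3 d (by omega) f.1 ((MvPolynomial.mem_homogeneousSubmodule _ _).1 f.2) hd hf
  rw [← range_hyp f] at h
  haveI : ConnectedSpace ↥(Set.range (LefPen.hypIdeal f).subschemeι) := isConnected_iff_connectedSpace.1 h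
  exact ((LefPen.hypIdeal f).subschemeι.isEmbedding.toHomeomorph.symm.surjective.connectedSpace
    ((LefPen.hypIdeal f).subschemeι.isEmbedding.toHomeomorph.symm.continuous))

end Range

/-- The numerics of the restriction to a hypersurface. -/
theorem ranks {N : ℕ} (hN : 0 < N) {Y : Scheme.{u}} [Y.Over (Spec (CommRingCat.of k))]
    (ι : Y ⟶ CohB1.ProjSpace N k) [IsClosedImmersion ι]
    (w : ι ≫ CohB1.ProjSpace.toSpec N k = Y ↘ Spec (CommRingCat.of k))
    (a : ℕ) (eJ : ClSub.idealMod ι.ker ≅ Twist.twistProjSpace N k (-(a : ℤ)))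
    {L : (CohB1.ProjSpace N k).Modules} (cL : Coh.IsCoh L) (fL : FlatMod.IsFinLocFree L) (c : ℤ) :
    ∃ r s b : ℕ → ℕ, r 0 = 0 ∧ ∀ q,
      Bott.h (CohB1.tensorMod (Twist.twistProjSpace N k (c - a)) L) q = r q + s q ∧
      Bott.h (CohB1.tensorMod (Twist.twistProjSpace N k c) L) q = s q + b q ∧
      Module.finrank k (Coh.HH Y (CohB1.tensorMod (CIHodge.O ι c) ((Scheme.Modules.pullback ι).obj L)) q) =
        b q + r (q + 1) := by
  haveI : IsProper (CohB1.ProjSpace N k ↘ Spec (CommRingCat.of k)) := ProjProper.Basic.isProper_toSpec N k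
  haveI := EulerChar.isLocallyNoetherian k (X := CohB1.ProjSpace N k)
  haveI := EulerChar.isNoetherian k (X := CohB1.ProjSpace N k)
  haveI : IsProper (Y ↘ Spec (CommRingCat.of k)) := by
    rw [← w]
    haveI := ProjProper.Basic.isProper_toSpec N k
    infer_instance
  haveI := EulerChar.isLocallyNoetherian k (X := Y)
  haveI := EulerChar.isNoetherian k (X := Y)
  have hV := fun c : ℤ => ProjTwist.isFinLocFreeOfRank_one (ProjTwist.isInvertible_twistProjSpace N k c)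
  have hS := CohDev.tens_shortExact (hV c) (HypChi.shortExact_tensR fL (EulerChar.shortExact_ideal ι.ker))
  obtain ⟨t⟩ := ProjTwist.nonempty_twistProjSpace_tensor N k c (-(a : ℤ))
  let f₁ : CohB1.tensorMod (Twist.twistProjSpace N k c) (CohB1.tensorMod (ClSub.idealMod ι.ker) L) ≅
      CohB1.tensorMod (Twist.twistProjSpace N k (c - a)) L :=
    ProjTwist.tensCongr (Iso.refl _) (ProjTwist.tensCongr eJ (Iso.refl L)) ≪≫ (ProjTwist.tensAssoc _ _ L).symm ≪≫
      ProjTwist.tensCongr (t ≪≫ eqToIso (congrArg _ (sub_eq_add_neg c (a : ℤ)).symm)) (Iso.refl L)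
  let f₂ : CohB1.tensorMod (Twist.twistProjSpace N k c) (CohB1.tensorMod (Coh.structureModule (CohB1.ProjSpace N k)) L) ≅
      CohB1.tensorMod (Twist.twistProjSpace N k c) L :=
    ProjTwist.tensCongr (Iso.refl _) (ProjTwist.oneTens L)
  obtain ⟨q₁⟩ := HypChi.nonempty_quot_tensor' ι (Twist.twistProjSpace N k c) L
  obtain ⟨q₂⟩ := HypChi.nonempty_quot_tensor ι (CohB1.tensorMod (Twist.twistProjSpace N k c) L)
  obtain ⟨f₄⟩ : Nonempty (CohB1.tensorMod ((Scheme.Modules.pullback ι).obj (CohB1.tensorMod (Twist.twistProjSpace N k c) L))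
      (Coh.structureModule Y) ≅ CohB1.tensorMod (CIHodge.O ι c) ((Scheme.Modules.pullback ι).obj L)) :=
    HypChi.nonempty_pull_tensor ι (Twist.twistProjSpace N k c) L
  have c₄ : Coh.IsCoh (CohB1.tensorMod ((Scheme.Modules.pullback ι).obj (CohB1.tensorMod (Twist.twistProjSpace N k c) L))
      (Coh.structureModule Y)) :=
    CohDev.isCoh_of_iso (ProjTwist.tensOne _).symm
      (ZClosLib.CohDescent.isCoh_pullback ι _ (CohDev.isCoh_tens (hV c) cL))
  haveI := c₄.1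
  have c₁ := CohDev.isCoh_of_iso f₁.symm (CohDev.isCoh_tens (hV (c - a)) cL)
  have c₂ := CohDev.isCoh_of_iso f₂.symm (CohDev.isCoh_tens (hV c) cL)
  have c₃ := CohDev.isCoh_of_iso (q₁ ≪≫ q₂).symm (CycLib.isCoh_push _ ι c₄)
  obtain ⟨r, s, b, r0, hr⟩ := CICoh.exists_ranks (k := k) hS c₁ c₂ c₃
  refine ⟨r, s, b, r0, fun q => ⟨?_, ?_, ?_⟩⟩
  · exact (SurfRR.hhEquiv k f₁ q).finrank_eq.symm.trans (hr q).1
  · exact (SurfRR.hhEquiv k f₂ q).finrank_eq.symm.trans (hr q).2.1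
  · obtain ⟨E⟩ := EulerChar.nonempty_pushEquiv (A := k) ι w _ c₄.1 q
    exact ((SurfRR.hhEquiv k (q₁ ≪≫ q₂) q ≪≫ₗ E ≪≫ₗ SurfRR.hhEquiv k f₄ q).finrank_eq).symm.trans (hr q).2.2

theorem le_one_of_lt_two {x : WithBot ℕ∞} (h : x < ((2 : ℕ) : WithBot ℕ∞)) : x ≤ ((1 : ℕ) : WithBot ℕ∞) := by
  induction x using WithBot.recBotCoe with
  | bot => exact bot_le
  | coe x =>
    induction x using ENat.recTopCoe with
    | top => exact absurd h (by simp)
    | coe m =>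
      have : m < 2 := Nat.cast_lt (α := ℕ∞).1 (WithBot.coe_lt_coe.1 h)
      exact_mod_cast (show m ≤ 1 by omega)

/-- A smooth surface in `P^3` has relative dimension two. -/
theorem relDim {d : ℕ} (hd : 4 ≤ d) (F : LefPen.Form 3 k d) (hF : F.1 ≠ 0)
    [Smooth ((LefPen.hypIdeal F).subschemeι ≫ CohB1.ProjSpace.toSpec 3 k)] :
    SmoothOfRelativeDimension 2 ((LefPen.hypIdeal F).subschemeι ≫ CohB1.ProjSpace.toSpec 3 k) := by
  letI : (LefPen.hypIdeal F).subscheme.Over (Spec (CommRingCat.of k)) :=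
    ⟨(LefPen.hypIdeal F).subschemeι ≫ CohB1.ProjSpace.toSpec 3 k⟩
  haveI : IsProper (CohB1.ProjSpace.toSpec 3 k) := ProjProper.Basic.isProper_toSpec 3 k
  haveI : IsProper (CohB1.ProjSpace 3 k ↘ Spec (CommRingCat.of k)) := ProjProper.Basic.isProper_toSpec 3 k
  haveI : IsProper ((LefPen.hypIdeal F).subscheme ↘ Spec (CommRingCat.of k)) :=
    inferInstanceAs (IsProper ((LefPen.hypIdeal F).subschemeι ≫ CohB1.ProjSpace.toSpec 3 k))
  haveI : Smooth ((LefPen.hypIdeal F).subscheme ↘ Spec (CommRingCat.of k)) :=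
    inferInstanceAs (Smooth ((LefPen.hypIdeal F).subschemeι ≫ CohB1.ProjSpace.toSpec 3 k))
  haveI := connectedSpace_hyp F (by omega) hF
  haveI := FFCurve.isIntegral_of_connected k (X := (LefPen.hypIdeal F).subscheme)
  haveI := EulerChar.isLocallyNoetherian k (X := CohB1.ProjSpace 3 k)
  haveI := EulerChar.isNoetherian k (X := CohB1.ProjSpace 3 k)
  haveI := EulerChar.isNoetherian k (X := (LefPen.hypIdeal F).subscheme)
  refine S6472.smoothOfRelativeDimension_of_dim (k := k) (X := (LefPen.hypIdeal F).subscheme) 2 ?_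
  have hle : topologicalKrullDim (LefPen.hypIdeal F).subscheme ≤ ((2 : ℕ) : WithBot ℕ∞) :=
    CICoh.dim_subscheme_le (CIProj49.isEffCartier_hyp F hF) (S10829.result k 3).le
  refine hle.antisymm (le_of_not_gt fun hlt => ?_)
  let ι := (LefPen.hypIdeal F).subschemeι
  obtain ⟨eJ⟩ : Nonempty (ClSub.idealMod ι.ker ≅ Twist.twistProjSpace 3 k (-(d : ℤ))) := by
    rw [Scheme.IdealSheafData.ker_subschemeι]; exact CIProj49.nonempty_hypIso F hF
  have hone := LFFrame.isInvertible_structureModule (CohB1.ProjSpace 3 k)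
  obtain ⟨r, s, b, r0, hr⟩ := ranks (k := k) (by omega) ι rfl d eJ
    (VBLib.isCoh_of_isFinLocFree (ProjForm.isFinLocFree_of_isInvertible hone))
    (ProjForm.isFinLocFree_of_isInvertible hone) (-1)
  have hO : ∀ e q, Bott.h (CohB1.tensorMod (Twist.twistProjSpace 3 k e) (Coh.structureModule (CohB1.ProjSpace 3 k))) q =
      Bott.hO 3 k e q := fun e q => Bott.h_congr (ProjTwist.tensOne _) q
  haveI : Subsingleton (Coh.HH (LefPen.hypIdeal F).subscheme (CohB1.tensorMod (CIHodge.O ι (-1))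
      ((Scheme.Modules.pullback ι).obj (Coh.structureModule (CohB1.ProjSpace 3 k)))) 2) :=
    CohTop.Vanishing.grothendieck_vanishing (X := (LefPen.hypIdeal F).subscheme.toPresheafedSpace.carrier) 1
      (le_one_of_lt_two hlt) (Coh.toAb _) 2 (by omega)
  have h2 := (hr 2).2.2
  rw [Module.finrank_zero_of_subsingleton] at h2
  have h3 := (hr 3).1
  have h3' := (hr 3).2.1
  rw [hO, show (-1 : ℤ) - (d : ℤ) = -(((2 + 1 : ℕ) : ℤ) + 1 + ((d - 3 : ℕ) : ℤ)) by omega] at h3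
  rw [hO, Bott.hO_mid (by norm_num) le_rfl] at h3'
  have hpos : Bott.hO 3 k (-(((2 + 1 : ℕ) : ℤ) + 1 + ((d - 3 : ℕ) : ℤ))) 3 = (3 + (d - 3)).choose 3 :=
    (ProjTwist.Pn.topEquiv (2 + 1) k (d - 3)).finrank_eq.trans (PlanePts.finrank_forms k 3 (d - 3))
  rw [hpos] at h3
  have := Nat.choose_pos (show 3 ≤ 3 + (d - 3) by omega)
  simp only [show (2 : ℕ) + 1 = 3 from rfl] at *
  omega

open Groth.Agent.PullStalk.Exact Groth.Agent.Omega.Stalks

variable {d : ℕ} (G : Fin 1 → LefPen.Form 3 k d) (hd : 6 ≤ d)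
  [SmoothOfRelativeDimension 2 ((LefPen.ciIdeal G).subschemeι ≫ CohB1.ProjSpace.toSpec 3 k)]
  [(LefPen.ciIdeal G).subscheme.Over (Spec (CommRingCat.of k))]
  (hover : (LefPen.ciIdeal G).subscheme ↘ Spec (CommRingCat.of k) =
    (LefPen.ciIdeal G).subschemeι ≫ CohB1.ProjSpace.toSpec 3 k)
  [Nonempty (LefPen.ciIdeal G).subscheme]

include hd hover in
/-- `H²(T) ≠ 0`. -/
theorem main
    [DCoh.HasSheafHom (Omega.sheaf ((LefPen.ciIdeal G).subschemeι ≫ CohB1.ProjSpace.toSpec 3 k))] :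
    Nontrivial (Coh.HH (LefPen.ciIdeal G).subscheme
      ((DCoh.sheafHom (Omega.sheaf ((LefPen.ciIdeal G).subschemeι ≫ CohB1.ProjSpace.toSpec 3 k))).obj
        (Coh.structureModule (LefPen.ciIdeal G).subscheme)) 2) := by
  haveI := CIHodge.isProper_ci (n := 2) (d := 1) G hover
  haveI := EulerChar.isLocallyNoetherian k (X := (LefPen.ciIdeal G).subscheme)
  haveI := EulerChar.isNoetherian k (X := (LefPen.ciIdeal G).subscheme)
  haveI : SmoothOfRelativeDimension 2 ((LefPen.ciIdeal G).subscheme ↘ Spec (CommRingCat.of k)) := by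
    rw [hover]; infer_instance
  have hdim := CIHodge.dim_le (n := 2) (d := 1) G hover
  let ι := (LefPen.ciIdeal G).subschemeι
  have w : ι ≫ CohB1.ProjSpace.toSpec 3 k = (LefPen.ciIdeal G).subscheme ↘ Spec (CommRingCat.of k) := hover.symm
  have hI : ι.ker = LefPen.hypIdeal (G 0) := (Scheme.IdealSheafData.ker_subschemeι _).trans
    (le_antisymm (iSup_le fun i => le_of_eq (by rw [Subsingleton.elim i 0]))
      (le_iSup (fun i => LefPen.hypIdeal (G i)) (0 : Fin 1)))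
  have hG : (G 0).1 ≠ 0 := CICoh.form_ne_zero G (by omega) (fun _ => by omega) hdim (m := 0) (by omega)
  obtain ⟨eJ⟩ : Nonempty (ClSub.idealMod ι.ker ≅ Twist.twistProjSpace 3 k (-(d : ℤ))) := by
    rw [hI]; exact CIProj49.nonempty_hypIso (G 0) hG
  haveI := PnTop.smoothOfRelativeDimension_toSpec 3 k
  haveI : IsProper (CohB1.ProjSpace.toSpec 3 k) := ProjProper.Basic.isProper_toSpec 3 k
  haveI : IsLocallyNoetherian (CohB1.ProjSpace 3 k) := SerrePn.isLocallyNoetherian (n := 3) (R := k)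
  haveI : SmoothOfRelativeDimension 2 (ι ≫ CohB1.ProjSpace.toSpec 3 k) :=
    inferInstanceAs (SmoothOfRelativeDimension 2 ((LefPen.ciIdeal G).subschemeι ≫ CohB1.ProjSpace.toSpec 3 k))
  haveI : QuasiSeparated (ι ≫ CohB1.ProjSpace.toSpec 3 k) := inferInstance
  haveI : HasExt.{u} (LefPen.ciIdeal G).subscheme.Modules := Groth.Agent.ModShf.schemeModulesHasExt _
  obtain ⟨f, g, hi, hs, he⟩ := SmoothImm.exists_seq (CohB1.ProjSpace.toSpec 3 k) ι 3 2
  have hb := SmoothImm.exists_basis_omega (ι ≫ CohB1.ProjSpace.toSpec 3 k) 2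
  haveI : IsIso (FanoCI.psi G) := FanoCI.isIso_psi G (by omega) (SmoothDual.topologicalKrullDim_eq k (r := 2))
  let A : Fin 1 → (LefPen.ciIdeal G).subscheme.Modules := fun _ => (Scheme.Modules.pullback ι).obj (FanoCI.tw d)
  let eA : A (Fin.last 0) ≅ CIHodge.O ι (-(d : ℤ)) :=
    (Scheme.Modules.pullback ι).mapIso (eqToIso (by simp [Twist.twistProjSpace, FanoCI.tw] <;> rfl))
  haveI : IsIso (Sigma.ι A (Fin.last 0)) :=
    ⟨CIHodge.lastProj A, CIHodge.ι_lastProj A, Sigma.hom_ext _ _ fun j => by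
      rw [show j = Fin.last 0 from Subsingleton.elim _ _, ← Category.assoc, CIHodge.ι_lastProj, Category.comp_id,
        Category.id_comp]⟩
  let φ : A (Fin.last 0) ⟶ Omega.conormal ι := Sigma.ι A (Fin.last 0) ≫ FanoCI.psi G
  haveI : IsIso φ := inferInstanceAs (IsIso (Sigma.ι A (Fin.last 0) ≫ FanoCI.psi G))
  have hφ : ∀ x, Function.Bijective (stalkLin φ x) := fun x => by
    refine Function.bijective_iff_has_inverse.mpr ⟨stalkLin (inv φ) x, fun t => ?_, fun t => ?_⟩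
    · rw [← stalkLin_comp, IsIso.hom_inv_id, Groth.Agent.Omega.ProdDiff.stalkLin_id]
    · rw [← stalkLin_comp, IsIso.inv_hom_id, Groth.Agent.Omega.ProdDiff.stalkLin_id]
  have hi' : ∀ x, Function.Injective (stalkLin (φ ≫ f) x) := fun x s s' e =>
    (hφ x).1 (hi x (((stalkLin_comp φ f x s).symm.trans e).trans (stalkLin_comp φ f x s')))
  have he' : ∀ x, Function.Exact (stalkLin (φ ≫ f) x) (stalkLin g x) := fun x q => by
    rw [he x q]
    constructor
    · rintro ⟨c, rfl⟩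
      obtain ⟨c', rfl⟩ := (hφ x).2 c
      exact ⟨c', stalkLin_comp _ _ _ _⟩
    · rintro ⟨c, rfl⟩
      exact ⟨stalkLin φ x c, (stalkLin_comp _ _ _ _).symm⟩
  have cP := Bott.isCoh_Om (n := 3) (k := k)
  haveI := cP.1
  have cE : Coh.IsCoh ((Scheme.Modules.pullback ι).obj (Bott.Om 3 k)) := ZClosLib.CohDescent.isCoh_pullback ι _ cP
  let Ω := Omega.sheaf (ι ≫ CohB1.ProjSpace.toSpec 3 k)
  have cW : Coh.IsCoh Ω :=
    VBLib.isCoh_of_ofRank (CanonTriv.isFinLocFreeOfRank_omega (ι ≫ CohB1.ProjSpace.toSpec 3 k) 2)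
  haveI := cE.1
  haveI : Ω.IsQuasicoherent := cW.1
  have hAi : PicF.IsInvertible (A (Fin.last 0)) := PicCl.isInvertible_of_iso eA.symm (CIHodge.isInvertible_O ι _)
  haveI : (A (Fin.last 0)).IsQuasicoherent := ProjTwist.isQCoh_of_isInvertible hAi
  -- the canonical sheaf
  let c : ℤ := (d : ℤ) - 4
  obtain ⟨W, hW⟩ := ExtPowSt.Exists.exists_isExtPow 2 Ω
  obtain ⟨W₃, hW₃⟩ := ExtPowSt.Exists.exists_isExtPow (1 + 2) Ω
  obtain ⟨LP, hLP⟩ := Bott.exists_pow_Om (n := 3) (k := k) (1 + 2)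
  obtain ⟨eLP⟩ := PnTop.nonempty_top_iso 3 k (L := LP) hLP
  obtain ⟨T, hT, ⟨t₁⟩, ⟨t₂⟩, ⟨t₃⟩⟩ := CIHodge.exists_wedge_sub (φ ≫ f) g hi' hs he'
    (PnTop.exists_basis_invertible hAi) hb (ExtPowSt.Pullback.isExtPow_pullback ι hLP) hW hW₃
  haveI := hT.isIso_f_iff.2 ((WedgeSeq.isZero_extPow (r := 2) ⟨hW₃.choose, hW₃.choose_spec⟩ (by omega) hb).of_iso t₃)
  let eAW : CohB1.tensorMod (A (Fin.last 0)) W ≅ CIHodge.O ι (-4) :=
    t₁.symm ≪≫ asIso T.f ≪≫ t₂ ≪≫ (Scheme.Modules.pullback ι).mapIso (eLP ≪≫ eqToIso (congrArg _ (by norm_num)))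
  obtain ⟨z⟩ := CIHodge.nonempty_O_tensor ι (d : ℤ) (-(d : ℤ)) 0 (add_neg_cancel _) W
  obtain ⟨z₀⟩ := CIHodge.nonempty_O_zero ι
  obtain ⟨z'⟩ := CIHodge.nonempty_O_tensor ι (d : ℤ) (-4) c (sub_eq_add_neg (d : ℤ) 4).symm
    (Coh.structureModule (LefPen.ciIdeal G).subscheme)
  let eW : W ≅ CIHodge.O ι c :=
    (ProjTwist.oneTens W).symm ≪≫ ProjTwist.tensCongr z₀.symm (Iso.refl W) ≪≫ z.symm ≪≫
      ProjTwist.tensCongr (Iso.refl _) (ProjTwist.tensCongr eA.symm (Iso.refl W) ≪≫ eAW ≪≫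
        (ProjTwist.tensOne _).symm) ≪≫ z' ≪≫ ProjTwist.tensOne _
  -- the tangent sheaf
  let D := CIHodge.O ι c
  let D' := CIHodge.O ι (-c)
  haveI : DCoh.HasSheafHom D := KFlat.hasSheafHom_scheme D
  haveI : DCoh.HasSheafHom D' := KFlat.hasSheafHom_scheme D'
  haveI : DCoh.HasSheafHom Ω := KFlat.hasSheafHom_scheme Ω
  haveI : DCoh.HasSheafHom (CohB1.tensorMod D' Ω) := KFlat.hasSheafHom_scheme _
  have hone := S3203.isExtPow_one (X := (LefPen.ciIdeal G).subscheme) Ω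
  obtain ⟨wp⟩ := WedgePair.nonempty_iso (i := 1) (j := 1) ⟨hone.choose, hone.choose_spec⟩
    ⟨hone.choose, hone.choose_spec⟩ ⟨hW.choose, hW.choose_spec⟩ (HomShEval.QCoh.isFP_of_isCoh _ cW) hb
  let eH : (DCoh.sheafHom Ω).obj D ≅ Ω := (DCoh.sheafHom Ω).mapIso eW.symm ≪≫ wp.symm
  obtain ⟨m₁⟩ := CIHodge.nonempty_O_tensor ι (-c) c 0 (neg_add_cancel c) (Coh.structureModule (LefPen.ciIdeal G).subscheme)
  obtain ⟨m₂⟩ := CIHodge.nonempty_O_tensor ι c (-c) 0 (add_neg_cancel c) (Coh.structureModule (LefPen.ciIdeal G).subscheme)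
  let e₁ : CohB1.tensorMod D' D ≅ Coh.structureModule _ :=
    ProjTwist.tensCongr (Iso.refl _) (ProjTwist.tensOne D).symm ≪≫ m₁ ≪≫ ProjTwist.tensOne _ ≪≫ z₀
  let e₂ : CohB1.tensorMod D D' ≅ Coh.structureModule _ :=
    ProjTwist.tensCongr (Iso.refl _) (ProjTwist.tensOne D').symm ≪≫ m₂ ≪≫ ProjTwist.tensOne _ ≪≫ z₀
  obtain ⟨b₁⟩ := nonempty_sheafHom_invertible D D' e₁ D
  obtain ⟨b₁'⟩ := nonempty_sheafHom_invertible D D' e₁ ((DCoh.sheafHom Ω).obj D)
  obtain ⟨sw₁⟩ := S13973.nonempty_swap Ω D D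
  let eT : (DCoh.sheafHom Ω).obj (Coh.structureModule _) ≅ CohB1.tensorMod D' Ω :=
    (DCoh.sheafHom Ω).mapIso (b₁ ≪≫ e₁).symm ≪≫ sw₁ ≪≫ b₁' ≪≫ ProjTwist.tensCongr (Iso.refl D') eH
  obtain ⟨st⟩ := S10931.nonempty_sheafHom_tensor D' Ω D
  obtain ⟨sw₂⟩ := S13973.nonempty_swap Ω D' D
  obtain ⟨b₂⟩ := nonempty_sheafHom_invertible D' D e₂ ((DCoh.sheafHom Ω).obj D)
  let eD : (DCoh.sheafHom (CohB1.tensorMod D' Ω)).obj W ≅ CohB1.tensorMod D Ω :=
    (DCoh.sheafHom (CohB1.tensorMod D' Ω)).mapIso eW ≪≫ st ≪≫ sw₂ ≪≫ b₂ ≪≫ ProjTwist.tensCongr (Iso.refl D) eH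
  have hF : FlatMod.IsFinLocFree (CohB1.tensorMod D' Ω) :=
    LimTop.TensorQC.tensM_eq (F := D') (G := Ω) ▸ KFlat.TensorLocFree.isFinLocFree_tensM
      (ProjForm.isFinLocFree_of_isInvertible (CIHodge.isInvertible_O ι _))
      (WedgePair.isFinLocFree ⟨hone.choose, hone.choose_spec⟩ cW hb)
  have cL := VBLib.isCoh_of_isFinLocFree hF
  -- duality
  obtain ⟨t, ht⟩ := SmoothDual.exists_isDualizing k ι w (r := 2) (by omega) W
    (by rw [hover]; exact hW)
  obtain ⟨d₁⟩ := (S15517.result k (n := 2) 3 _ ι w (SmoothDual.topologicalKrullDim_eq k)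
    (fun x hx => SmoothDual.cm_closed k x hx) W
    (SmoothDual.isCoh_top k ι w W (by rw [hover]; exact hW)) t ht (CohB1.tensorMod D' Ω) cL).1 0 (by omega)
  obtain ⟨d₂⟩ := ExtHom.nonempty_ext_linearEquiv k hF W 0
  rw [Nat.sub_zero] at d₁
  haveI := EulerChar.finite_HH k _ cL 2
  haveI := EulerChar.finite_HH k _ (CohDev.isCoh_of_iso eT.symm cL) 2
  refine Module.nontrivial_of_finrank_pos (R := k) ?_
  rw [(SurfRR.hhEquiv k eT 2).finrank_eq, ← Subspace.dual_finrank_eq, (d₁.symm ≪≫ₗ d₂).finrank_eq,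
    (SurfRR.hhEquiv k eD 0).finrank_eq]
  -- the sections
  have hEfree : FlatMod.IsFinLocFree (Bott.Om 3 k) := WedgePair.isFinLocFree
    ⟨(S3203.isExtPow_one (Bott.Om 3 k)).choose, (S3203.isExtPow_one (Bott.Om 3 k)).choose_spec⟩ cP
    (SmoothImm.exists_basis_omega (CohB1.ProjSpace.toSpec 3 k) 3)
  obtain ⟨r, s, b, r0, hr⟩ := ranks (k := k) (by omega) ι w d eJ cP hEfree c
  have hone' := LFFrame.isInvertible_structureModule (CohB1.ProjSpace 3 k)
  obtain ⟨r', s', b', r0', hr'⟩ := ranks (k := k) (by omega) ι w d eJ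
    (VBLib.isCoh_of_isFinLocFree (ProjForm.isFinLocFree_of_isInvertible hone'))
    (ProjForm.isFinLocFree_of_isInvertible hone') (c - d)
  have hS : (ShortComplex.mk (φ ≫ f) g (hom_ext_stalk fun x => LinearMap.ext fun s => by
      rw [stalkLin_comp, stalkLin_zero, (he' x).apply_apply_eq_zero])).ShortExact :=
    CIHodge.shortExact_of_stalks _ _ _ hi' hs he'
  obtain ⟨u, v, x, u0, hu⟩ := CIHodge.exists_ranks_tw ι hS
    (CohDev.isCoh_of_iso eA.symm (VBLib.isCoh_of_isFinLocFree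
      (ProjForm.isFinLocFree_of_isInvertible (CIHodge.isInvertible_O ι _)))) cE cW c
  have p1 : Bott.h ((Bott.tw (n := 3) (k := k) c).obj (Bott.Om 3 k)) 0 ≠ 0 := by
    obtain ⟨e', he'⟩ := Int.eq_ofNat_of_zero_le (show 0 ≤ c by omega)
    rw [he', Bott.h_pos_zero (by omega) 1 (by omega) _ (S3203.isExtPow_one _)]
    exact Nat.mul_ne_zero (Nat.choose_pos (by omega)).ne' (Nat.choose_pos (by omega)).ne'
  have p2 : Bott.h ((Bott.tw (n := 3) (k := k) (c - d)).obj (Bott.Om 3 k)) 0 = 0 := by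
    rw [← Bott.h_tensor]
    exact Bott.h_vanish (S3203.isExtPow_one _) (by omega) 0 (by omega) (by omega)
  have hO : ∀ e q, Bott.h (CohB1.tensorMod (Twist.twistProjSpace 3 k e) (Coh.structureModule (CohB1.ProjSpace 3 k))) q =
      Bott.hO 3 k e q := fun e q => Bott.h_congr (ProjTwist.tensOne _) q
  have p3 := (hr' 0).2.1
  rw [hO, Bott.hO_zero_neg (by omega) (by omega)] at p3
  have p4 := (hr' 1).1
  rw [hO, Bott.hO_succ _ 0 (Or.inl (by omega))] at p4
  obtain ⟨z''⟩ := CIHodge.nonempty_O_tensor ι c (-(d : ℤ)) (c - d) (sub_eq_add_neg c (d : ℤ)).symm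
    (Coh.structureModule (LefPen.ciIdeal G).subscheme)
  have p5 : CIHodge.hT ι c (A (Fin.last 0)) 0 = b' 0 + r' 1 :=
    (CIHodge.hT_congr ι (eA ≪≫ (ProjTwist.tensOne _).symm) c 0).trans
      ((SurfRR.hhEquiv k (z'' ≪≫ ProjTwist.tensCongr (Iso.refl _) (QCoh.pullbackUnitIso ι).symm) 0).finrank_eq.trans
        (hr' 0).2.2)
  have q1 := (hr 0).1
  have q2 := (hr 0).2.1
  have q3 := (hr 0).2.2
  change Bott.h ((Bott.tw (n := 3) (k := k) (c - d)).obj (Bott.Om 3 k)) 0 = _ at q1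
  change Bott.h ((Bott.tw (n := 3) (k := k) c).obj (Bott.Om 3 k)) 0 = _ at q2
  rw [p2] at q1
  obtain ⟨u1, u2, u3⟩ := hu 0
  rw [p5] at u1
  change CIHodge.hT ι c ((Scheme.Modules.pullback ι).obj (Bott.Om 3 k)) 0 = _ at u2
  change CIHodge.hT ι c Ω 0 = _ at u3
  rw [show CIHodge.hT ι c ((Scheme.Modules.pullback ι).obj (Bott.Om 3 k)) 0 = b 0 + r (0 + 1) from q3] at u2
  show 0 < CIHodge.hT ι c Ω 0
  simp only [zero_add] at *
  omega

/-- The statement for a single form. -/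
theorem main_hyp {d : ℕ} (hd : 6 ≤ d) (F : LefPen.Form 3 k d) (hF : F.1 ≠ 0)
    (I : (CohB1.ProjSpace 3 k).IdealSheafData) (hI : I = LefPen.hypIdeal F)
    [Smooth (I.subschemeι ≫ CohB1.ProjSpace.toSpec 3 k)]
    [DCoh.HasSheafHom (Omega.sheaf (I.subschemeι ≫ CohB1.ProjSpace.toSpec 3 k))] :
    Nontrivial (Coh.HH I.subscheme
      ((DCoh.sheafHom (Omega.sheaf (I.subschemeι ≫ CohB1.ProjSpace.toSpec 3 k))).obj
        (Coh.structureModule I.subscheme)) 2) := by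
  haveI : SmoothOfRelativeDimension 2 (I.subschemeι ≫ CohB1.ProjSpace.toSpec 3 k) := by
    subst hI
    exact relDim (by omega) F hF
  haveI : Nonempty I.subscheme := by
    subst hI
    haveI := connectedSpace_hyp F (by omega) hF
    infer_instance
  have hci : LefPen.hypIdeal F = LefPen.ciIdeal (fun _ : Fin 1 => F) :=
    le_antisymm (le_iSup (fun _ : Fin 1 => LefPen.hypIdeal F) 0) (iSup_le fun _ => le_rfl)
  obtain rfl : I = LefPen.ciIdeal (fun _ : Fin 1 => F) := hI.trans hci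
  letI : (LefPen.ciIdeal (fun _ : Fin 1 => F)).subscheme.Over (Spec (CommRingCat.of k)) :=
    ⟨(LefPen.ciIdeal (fun _ : Fin 1 => F)).subschemeι ≫ CohB1.ProjSpace.toSpec 3 k⟩
  exact main (fun _ : Fin 1 => F) hd rfl

end Groth.Agent.DualAbs.SurfTangent
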